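/- `SU4(3)` acting on the 112 totally isotropic lines. -/
import Cfsg.Agent.H79.PChain
import Cfsg.Agent.H55.SL2Link
import Cfsg.Agent.H59.SU

set_option autoImplicit false
set_option Elab.async false

open Cfsg Matrix
open scoped Pointwise

namespace H79.U43

open H55 H77

/-- hexadecimal digit -/
def hx (c i : ℕ) : ℕ := Nat.land (Nat.shiftRight c (Nat.mul 4 i)) 15

/-- coded elements of the field -/
def f9 (c : ℕ) : F9 := ⟨(c : ZMod 3), ((c / 3 : ℕ) : ZMod 3)⟩

/-- coded vectors -/
def vec (c k : ℕ) : Fin 4 → F9 := fun i => f9 (hx c (k + i))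

/-- coded matrices -/
def mat (c : ℕ) : Matrix (Fin 4) (Fin 4) F9 := Matrix.of fun i j => f9 (hx c (4 * i + j))

/-- membership in a coded line -/
def OnL (c : ℕ) (v : Fin 4 → F9) : Prop :=
  ∀ i, v i = v (Fin.ofNat 4 (hx c 8)) * vec c 0 i + v (Fin.ofNat 4 (hx c 9)) * vec c 4 i

/-- addition of codes -/
def addN (a b : ℕ) : ℕ := hx (nat_lit 0x3210876543210876276843510276843516873540216873540876543210876543843510276843510273540216873540216543210876543210510276843510276840216873540216873210876543210876276843510276843516873540216873540876543210876543843510276843510273540216873540216543210876543210) (Nat.add (Nat.mul 16 a) b)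

/-- multiplication of codes -/
def mulN (a b : ℕ) : ℕ := hx (nat_lit 0x2471360582471360431875026431875071658403271658401852630741852630378612045378612065432108765432100000000000000000523748061523748086245701386245702471360582471360431875026431875071658403271658401852630741852630378612045378612065432108765432100000000000000000) (Nat.add (Nat.mul 16 a) b)

theorem hx_eq (c i : ℕ) : hx c i = c / 16 ^ i % 16 := by
  change (c >>> (4 * i)) &&& (2 ^ 4 - 1) = _
  rw [Nat.and_two_pow_sub_one_eq_mod, Nat.shiftRight_eq_div_pow, pow_mul]; rfl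

theorem hx_lt (c i : ℕ) : hx c i < 16 := by rw [hx_eq]; omega

theorem addN_lt (a b : ℕ) : addN a b < 16 := hx_lt _ _

theorem mulN_lt (a b : ℕ) : mulN a b < 16 := hx_lt _ _

theorem N_spec : ∀ a < 16, ∀ b < 16, addN a b < 9 ∧ f9 (addN a b) = f9 a + f9 b ∧
    f9 (mulN a b) = f9 a * f9 b := by decide +kernel

theorem f9_add {a b : ℕ} (ha : a < 16) (hb : b < 16) : f9 (addN a b) = f9 a + f9 b :=
  (N_spec a ha b hb).2.1

theorem f9_mul {a b : ℕ} (ha : a < 16) (hb : b < 16) : f9 (mulN a b) = f9 a * f9 b :=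
  (N_spec a ha b hb).2.2

theorem f9_inj : ∀ a < 9, ∀ b < 9, f9 a = f9 b → a = b := by decide +kernel

/-- membership of a coded vector in a coded line -/
def onN (c v : ℕ) : Bool :=
  H72.force (hx v (Nat.mod (hx c 8) 4)) fun a => H72.force (hx v (Nat.mod (hx c 9) 4)) fun b =>
    [0, 1, 2, 3].all fun i => Nat.beq (addN (hx v i) 0)
      (addN (mulN a (hx c i)) (mulN b (hx c (Nat.add 4 i))))

theorem onN_iff (c v : ℕ) : onN c v = true ↔ OnL c (vec v 0) := by
  have e : ∀ x y z : ℕ, x < 16 → y < 16 → z < 16 →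
      (addN x 0 = addN y z ↔ f9 x = f9 y + f9 z) := fun x y z hx hy hz => by
    rw [← f9_add hy hz, ← add_zero (f9 x), ← show f9 0 = 0 from rfl, ← f9_add hx (by norm_num)]
    exact ⟨congrArg f9, f9_inj _ (N_spec _ hx _ (by norm_num)).1 _ (N_spec _ hy _ hz).1⟩
  simp only [onN, H72.force_eq, List.all_cons, List.all_nil, Bool.and_true, Bool.and_eq_true,
    Nat.beq_eq, e _ _ _ (hx_lt _ _) (mulN_lt _ _) (mulN_lt _ _), f9_mul (hx_lt _ _) (hx_lt _ _),
    OnL, Fin.forall_fin_succ, vec, IsEmpty.forall_iff, and_true, zero_add]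
  rfl

/-- a coded matrix applied to a coded vector -/
def mvN (M v : ℕ) : ℕ :=
  (fun r : ℕ → ℕ => Nat.add (Nat.add (r 0) (Nat.mul 16 (r 4))) (Nat.add (Nat.mul 256 (r 8))
    (Nat.mul 4096 (r 12)))) fun k =>
      addN (addN (mulN (hx M k) (hx v 0)) (mulN (hx M (Nat.add k 1)) (hx v 1)))
        (addN (mulN (hx M (Nat.add k 2)) (hx v 2)) (mulN (hx M (Nat.add k 3)) (hx v 3)))

theorem vec_mvN (M v : ℕ) : vec (mvN M v) 0 = mat M *ᵥ vec v 0 := by
  have e : ∀ a b c d : ℕ, a < 16 → b < 16 → c < 16 → d < 16 →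
      vec (a + 16 * b + (256 * c + 4096 * d)) 0 = ![f9 a, f9 b, f9 c, f9 d] := by
    intro a b c d _ _ _ _
    funext i
    fin_cases i <;> simp only [vec, hx_eq] <;> refine congrArg f9 ?_ <;> norm_num <;> omega
  refine (e _ _ _ _ (addN_lt _ _) (addN_lt _ _) (addN_lt _ _) (addN_lt _ _)).trans ?_
  simp only [f9_add (addN_lt _ _) (addN_lt _ _), f9_add (mulN_lt _ _) (mulN_lt _ _),
    f9_mul (hx_lt _ _) (hx_lt _ _)]
  funext i
  fin_cases i <;> simp [mat, vec, mulVec, dotProduct, Fin.sum_univ_four, add_assoc]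

theorem vec_shift (c : ℕ) : vec (Nat.shiftRight c 16) 0 = vec c 4 := by
  funext i
  simp only [vec, hx_eq]
  rw [show Nat.shiftRight c 16 = c / 16 ^ 4 from Nat.shiftRight_eq_div_pow _ _, Nat.div_div_eq_div_mul,
    ← pow_add, zero_add]

/-- the lines -/
def lns : List ℕ := [0x1004104001, 0x1005104001, 0x1007104001, 0x1008104001, 0x1004105001, 0x1005105001, 0x1007105001,
  0x1008105001, 0x1004107001, 0x1005107001, 0x1007107001, 0x1008107001, 0x1004108001, 0x1005108001,
  0x1007108001, 0x1008108001, 0x1021101101, 0x1012101101, 0x1063101101, 0x1036101101, 0x1011102101,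
  0x1022102101, 0x1033102101, 0x1066102101, 0x1061103101, 0x1032103101, 0x1013103101, 0x1026103101,
  0x1031106101, 0x1062106101, 0x1023106101, 0x1016106101, 0x1011101201, 0x1022101201, 0x1033101201,
  0x1066101201, 0x1021102201, 0x1012102201, 0x1063102201, 0x1036102201, 0x1031103201, 0x1062103201,
  0x1023103201, 0x1016103201, 0x1061106201, 0x1032106201, 0x1013106201, 0x1026106201, 0x1031101301,
  0x1062101301, 0x1023101301, 0x1016101301, 0x1061102301, 0x1032102301, 0x1013102301, 0x1026102301,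
  0x1021103301, 0x1012103301, 0x1063103301, 0x1036103301, 0x1011106301, 0x1022106301, 0x1033106301,
  0x1066106301, 0x1040100401, 0x1050100401, 0x1070100401, 0x1080100401, 0x1040100501, 0x1050100501,
  0x1070100501, 0x1080100501, 0x1061101601, 0x1032101601, 0x1013101601, 0x1026101601, 0x1031102601,
  0x1062102601, 0x1023102601, 0x1016102601, 0x1011103601, 0x1022103601, 0x1033103601, 0x1066103601,
  0x1021106601, 0x1012106601, 0x1063106601, 0x1036106601, 0x1040100701, 0x1050100701, 0x1070100701,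
  0x1080100701, 0x1040100801, 0x1050100801, 0x1070100801, 0x1080100801, 0x2041000041, 0x2051000041,
  0x2071000041, 0x2081000041, 0x2041000051, 0x2051000051, 0x2071000051, 0x2081000051, 0x2041000071,
  0x2051000071, 0x2071000071, 0x2081000071, 0x2041000081, 0x2051000081, 0x2071000081, 0x2081000081]

/-- the lines as sets of vectors -/
def ln (i : ℕ) : Set (Fin 4 → F9) := {v | OnL (lns.getD i 0) v}

theorem OnL.comb {c : ℕ} {u w : Fin 4 → F9} (hu : OnL c u) (hw : OnL c w) (a b : F9) :
    OnL c (a • u + b • w) := fun i => by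
  simp only [Pi.add_apply, Pi.smul_apply, smul_eq_mul]
  rw [hu i, hw i]; ring

theorem OnL.eq {c : ℕ} {v : Fin 4 → F9} (h : OnL c v) :
    v = v (Fin.ofNat 4 (hx c 8)) • vec c 0 + v (Fin.ofNat 4 (hx c 9)) • vec c 4 := funext h

theorem anti_chk : (lns.all fun c => onN c c && onN c (Nat.shiftRight c 16) &&
    lns.all fun d => Nat.beq c d || !(onN d c && onN d (Nat.shiftRight c 16))) = true := by
  decide +kernel

theorem lns_nodup : lns.Nodup := by decide +kernel

theorem ln_anti : ∀ i < 112, ∀ j < 112, ln i ⊆ ln j → i = j := by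
  intro i hi j hj e
  have h := anti_chk
  simp only [List.all_eq_true, Bool.and_eq_true, Bool.or_eq_true, Nat.beq_eq,
    Bool.not_eq_true', ← Bool.not_eq_true, onN_iff, vec_shift] at h
  have l : lns.length = 112 := by decide +kernel
  unfold ln at e
  rw [List.getD_eq_getElem _ _ (l ▸ hi), List.getD_eq_getElem _ _ (l ▸ hj)] at e
  obtain ⟨⟨a, b⟩, c⟩ := h _ (List.getElem_mem (l ▸ hi))
  exact (lns_nodup.getElem_inj_iff).1 ((c _ (List.getElem_mem (l ▸ hj))).resolve_right
    fun d => d ⟨e a, e b⟩)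

theorem mem_SU {M : SpecialLinearGroup (Fin 4) F9}
    (h : ∀ i j, ∑ k, M.1 k i * M.1 k j ^ 3 = if i = j then 1 else 0) : M ∈ SU 4 F9 3 := by
  intro u v
  have c : ∀ x y : F9, (x + y) ^ 3 = x ^ 3 + y ^ 3 := by decide +kernel
  change ∑ k, (M.1 *ᵥ u) k * (M.1 *ᵥ v) k ^ 3 = ∑ k, u k * v k ^ 3
  have e : ∑ i, ∑ j, u i * v j ^ 3 * ∑ k, M.1 k i * M.1 k j ^ 3 = ∑ k, u k * v k ^ 3 := by simp [h]
  rw [← e]
  simp only [mulVec, dotProduct, Fin.sum_univ_four, c]
  ring

theorem det_four (M : Matrix (Fin 4) (Fin 4) F9) : M.det =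
    M 0 0 * (M 1 1 * (M 2 2 * M 3 3 - M 2 3 * M 3 2) - M 1 2 * (M 2 1 * M 3 3 - M 2 3 * M 3 1) +
      M 1 3 * (M 2 1 * M 3 2 - M 2 2 * M 3 1)) -
    M 0 1 * (M 1 0 * (M 2 2 * M 3 3 - M 2 3 * M 3 2) - M 1 2 * (M 2 0 * M 3 3 - M 2 3 * M 3 0) +
      M 1 3 * (M 2 0 * M 3 2 - M 2 2 * M 3 0)) +
    M 0 2 * (M 1 0 * (M 2 1 * M 3 3 - M 2 3 * M 3 1) - M 1 1 * (M 2 0 * M 3 3 - M 2 3 * M 3 0) +
      M 1 3 * (M 2 0 * M 3 1 - M 2 1 * M 3 0)) -
    M 0 3 * (M 1 0 * (M 2 1 * M 3 2 - M 2 2 * M 3 1) - M 1 1 * (M 2 0 * M 3 2 - M 2 2 * M 3 0) +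
      M 1 2 * (M 2 0 * M 3 1 - M 2 1 * M 3 0)) := by
  simp [det_succ_row_zero, Fin.sum_univ_succ, Fin.succAbove]; ring

/-- check of a coded element of `SU4(3)` -/
def ChkU (c : ℕ) : Prop :=
  (mat c).det = 1 ∧ ∀ i j, ∑ k, mat c k i * mat c k j ^ 3 = if i = j then 1 else 0

/-- the element of `SU4(3)` of a code -/
def su (c : ℕ) (h : ChkU c) : SU 4 F9 3 := ⟨⟨mat c, h.1⟩, mem_SU h.2⟩

/-- check of the action on the lines -/
def chkL (c σ : ℕ) : Bool := (List.range 112).all fun i => H72.force (dk σ i) fun j =>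
  Nat.blt j 112 && H72.force (lns.getD i 0) fun a => H72.force (lns.getD j 0) fun d =>
    H72.force (mvN c a) (onN d) && H72.force (mvN c (Nat.shiftRight a 16)) (onN d)

theorem rel_su {c σ : ℕ} (h : ChkU c) (h2 : chkL c σ = true) : Rel 112 ln σ (su c h) := by
  simp only [chkL, H72.force_eq, List.all_eq_true, List.mem_range, Bool.and_eq_true, Nat.blt_eq,
    onN_iff, vec_mvN, vec_shift] at h2
  intro i hi
  refine ⟨(h2 i hi).1, ?_⟩
  rw [← Set.image_smul]
  refine smul_eq_of_subset ln_anti (σ := dk σ) (fun i a => ⟨(h2 i a).1, fun v hv => ?_⟩) i hi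
  rw [OnL.eq hv]
  change OnL _ (mat c *ᵥ _)
  rw [mulVec_add, mulVec_smul, mulVec_smul]
  exact (h2 i a).2.1.comb (h2 i a).2.2 _ _

theorem center_fix (g : SU 4 F9 3) (hg : g ∈ Subgroup.center (SU 4 F9 3)) :
    ∀ i < 112, g • ln i = ln i := by
  obtain ⟨a, ha⟩ := (H59.mem_center_SU_iff card_F9 (by norm_num) g).1 hg
  intro i hi
  rw [← Set.image_smul]
  refine smul_eq_of_subset ln_anti (σ := id) (fun i hi => ⟨hi, fun v hv => ?_⟩) i hi
  change OnL _ (g.1.1 *ᵥ v)
  rw [ha, smul_mulVec, one_mulVec]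
  simpa using OnL.comb hv hv a 0

theorem card_SU : Nat.card (SU 4 F9 3) = 13063680 := by
  have := H59.card_SU (q := 3) card_F9 (n := 4) (by norm_num)
  rw [show H59.ordGU 3 4 = 52254720 by decide +kernel] at this
  omega

theorem card_center : Nat.card (Subgroup.center (SU 4 F9 3)) = 4 :=
  H59.card_center_SU (q := 3) card_F9 (n := 4) (by norm_num)

/-- generators of `U4(3)` on the lines -/
def cs : List ℕ := [nat_lit 0x4b0037002f001b00100062004d004400210009005f005600320050000f00640060000e00520031002b005b003e006b0048005a000a001f0018003d005c0069002c0028002000240034006f005700010015001700160014000800540022005d0042000d001d0036004100530061002e0043006c0027004a004000300000001a001e006e003b005e0065004c003a000b002500110039005500020047003800230051001c00460063000c006d00130029003300260066005900680003004e003c0007004f0019005800060012002d0067000500450035002a0004006a0049003f,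
  nat_lit 0x10005e00350068001100550039002500120023003100480013000b003d00410032005c00630017002a002e002200260065002c00400051006400160029000a00660062006a006e0067000300540036001e000c00430034004e004c004f004d0056006900070030005f002400060053000900010005000d0021001f0004006c002700000061001d000e003a0049006f003c0020001400500044004600470045001a005d003f006d0018000200330042001b004b0037002f00190028003b0052005a00380060002d0058004a0008001c0059000f00150057005b006b002b003e]

def prog : List (ℕ × ℕ) := [(1, 1), (0, 1), (0, 3), (0, 3), (2, 4), (0, 5), (0, 7), (0, 7), (0, 9), (0, 0), (0, 6), (0, 7), (0, 0), (0, 1), (10, 5), (0, 6), (0, 12), (0, 13), (0, 14), (0, 15), (0, 11), (0, 17), (0, 0), (0, 1), (0, 10), (0, 3), (12, 4), (0, 5), (0, 14), (0, 7), (0, 16), (0, 9), (0, 10), (0, 11), (0, 20), (0, 13), (0, 14)]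

def ch : List (ℕ × List ℕ) := [(0, [37, 38]), (5, [33, 28]), (10, [23, 15]), (17, [11, 0])]

theorem hch : chainC 112 (slpc 112 prog cs) [] ch = 3265920 := by decide +kernel

theorem hu0 : ChkU 0x3136146008315567 := by unfold ChkU; rw [det_four]; decide +kernel

theorem hu1 : ChkU 0x7358552572842082 := by unfold ChkU; rw [det_four]; decide +kernel

theorem exists_rep : ∃ θ : SU 4 F9 3 →* Equiv.Perm (Fin 112),
    (∀ g (y : Fin 112), g • ln y = ln (θ g y)) ∧ θ.ker = Subgroup.center _ ∧ θ.range = PG 112 cs ∧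
      Nat.card (PG 112 cs) = 3265920 := by
  obtain ⟨θ, h0, h1, h2, h3, -⟩ := exists_permHom (G := SU 4 F9 3) (n := 112) (S := ln) (by norm_num)
    (fun i hi j hj e => ln_anti i hi j hj e.le) (cs := cs) (by
      simp only [cs, List.forall_mem_cons, List.not_mem_nil, IsEmpty.forall_iff, implies_true,
        and_true]
      exact ⟨⟨_, rel_su hu0 (by decide +kernel)⟩, ⟨_, rel_su hu1 (by decide +kernel)⟩⟩)
    _ center_fix prog ch hch (by rw [card_SU, card_center])
  exact ⟨θ, h0, h1, h2, h3⟩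

end H79.U43
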