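/- A faithful permutation representation of HS of degree 100. -/
import Cfsg.Agent.H79.LB
set_option maxRecDepth 1000000
set_option Elab.async false
set_option autoImplicit false
namespace H79.RepHS
open Cfsg H71 H77 H81
noncomputable def p0 : ℕ := 0x1010c00122124101202414f8
noncomputable def p1 : ℕ := 0x24a7721e31f92a14d585e9cfa
noncomputable def p2 : ℕ := 0x8195440fadfe89100f5301301
noncomputable def p3 : ℕ := 0x5fe3b5a02c32c0b9e3aab7802
noncomputable def p4 : ℕ := 0xf7cbb7f2e46e597feeefbf002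
noncomputable def p5 : ℕ := 0x5fdb26b6407012d5e23f3b802
noncomputable def p6 : ℕ := 0x1b2b966d486e52ffe2aeb1000
noncomputable def p7 : ℕ := 0xffe125dd48205bf202aebf002
noncomputable def p8 : ℕ := 0x6d69a7f0c4b0529ba6afb1300
noncomputable def p9 : ℕ := 0xeb4b77504d2402fdaaaa9b902
noncomputable def p10 : ℕ := 0x6f2997f0c87098f76b268f800
noncomputable def p11 : ℕ := 0xa767a778616052fd67be27a02
noncomputable def p12 : ℕ := 0x7f6b146260b052ff4ac23f302
noncomputable def p13 : ℕ := 0x103b7d040205016e2823f002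
noncomputable def p14 : ℕ := 0x4cdca9e97d8ec0c4c079a004
noncomputable def p15 : ℕ := 0x120e1c62f5b0947d4c5310308
noncomputable def p16 : ℕ := 0xc070f52f1f68ea6c8b9bbc010
noncomputable def p17 : ℕ := 0x9281ebd2f56ee970af6da0020
noncomputable def p18 : ℕ := 0xe70ef26c1a380d8e2c0a03840
noncomputable def p19 : ℕ := 0xfb0f038ce3b0fe08cf8c3c380
noncomputable def p20 : ℕ := 0xfc0ffc0f03c0f00f0ff03fc00
noncomputable def p21 : ℕ := 0xfff0000ffc00fff00fffc0000
noncomputable def p22 : ℕ := 0xfffffff00000fffff00000000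
noncomputable def p23 : ℕ := 0xffffffffffff0000000000000
noncomputable def Ps : List ℕ := [p0, p1, p2, p3, p4, p5, p6, p7, p8, p9, p10, p11, p12, p13, p14, p15, p16, p17, p18, p19, p20, p21, p22, p23]
def ca : List ℕ := [3886095, 3886092, 6888418, 14305675, 2559107, 11963427, 9189548, 246915, 10784003, 193359, 12379578, 3978983, 14305931, 3295307, 3869710, 1314345, 1327100, 14753225, 3280891, 6471676, 3313687, 12402917, 2343221, 8520279]
def cb : List ℕ := [1670297, 1670298, 12402918, 2835417, 1881333, 15691005, 13281458, 16187610, 3693363, 11125134, 12261597, 4661110, 7835201, 5415056, 1653912, 6888417, 14473075, 5283707, 13528945, 3280891, 15482878, 2097152, 7292053, 1048576]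
def c0 : ℕ := nat_lit 0xa000a000800080008000a000a000a0008000a0008000a00080008000800080008000800080008000800080008000a
noncomputable def na_0 : ℕ := 0x7dd260931f98a8
noncomputable def na_1 : ℕ := 0xb363fd20000000d1d8f82
noncomputable def na_2 : ℕ := 0x9800003b92000351000022c8
noncomputable def na_3 : ℕ := 0x68030005802a01d805c0070020
noncomputable def na_4 : ℕ := 0x614180081008200100050808302
noncomputable def na_5 : ℕ := 0x400112040011020088000000902
noncomputable def na_6 : ℕ := 0x2814091084409422108010240891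
noncomputable def na_7 : ℕ := 0xc8930204012060c8120644803
noncomputable def na_8 : ℕ := 0x814281041008306182800808280
noncomputable def na_9 : ℕ := 0x12407e011402401780110174024
noncomputable def na_10 : ℕ := 0x1ac600025c4000052e000204a
noncomputable def na_11 : ℕ := 0xdeb466f0000000d1f85bd
noncomputable def na_12 : ℕ := 0x7ddb70a0c7aeb6
noncomputable def na : Net := .cons 56 na_0 <| .cons 28 na_1 <| .cons 14 na_2 <| .cons 7 na_3 <| .cons 4 na_4 <| .cons 2 na_5 <| .cons 1 na_6 <| .cons 2 na_7 <| .cons 4 na_8 <| .cons 7 na_9 <| .cons 14 na_10 <| .cons 28 na_11 <| .cons 56 na_12 <| .nil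
noncomputable def nb_0 : ℕ := 0x318e75c4c84b24
noncomputable def nb_1 : ℕ := 0x5f126ea0000000cd45816
noncomputable def nb_2 : ℕ := 0x1c040000880000246a0001cc8
noncomputable def nb_3 : ℕ := 0xc8018008000801a00400058070
noncomputable def nb_4 : ℕ := 0x4003050400382040c0010808184
noncomputable def nb_5 : ℕ := 0x100000881020400022000002
noncomputable def nb_6 : ℕ := 0x204a05020481028400812040284
noncomputable def nb_7 : ℕ := 0x604103000898322080832444082
noncomputable def nb_8 : ℕ := 0x1c2820400282081c0840a1c080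
noncomputable def nb_9 : ℕ := 0x4c07201840240108003009407c
noncomputable def nb_10 : ℕ := 0x10640000cf300015660001353
noncomputable def nb_11 : ℕ := 0x7f1a01a0000000497b7d5
noncomputable def nb_12 : ℕ := 0x318756f073670e
noncomputable def nb : Net := .cons 56 nb_0 <| .cons 28 nb_1 <| .cons 14 nb_2 <| .cons 7 nb_3 <| .cons 4 nb_4 <| .cons 2 nb_5 <| .cons 1 nb_6 <| .cons 2 nb_7 <| .cons 4 nb_8 <| .cons 7 nb_9 <| .cons 14 nb_10 <| .cons 28 nb_11 <| .cons 56 nb_12 <| .nil
theorem ha : chkNet LB.B LB.T Ps 100 112 hsa ca na = true := by decide +kernel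
theorem hb : chkNet LB.B LB.T Ps 100 112 hsb cb nb = true := by decide +kernel
theorem hP : chkPts LB.T Ps 100 c0 [nb, na] [0,1,0,1,0,1,0,1,0,1,0,1] = true := by decide +kernel
theorem ma : hsa.el ∈ St2 vV vU1 := ⟨hsa_cV, hsa_cU1⟩
theorem mb : hsb.el ∈ St2 vV vU1 := ⟨hsb_cV, hsb_cU1⟩
theorem rep : NetRep (hsEquiv ⟨_, ma⟩) (hsEquiv ⟨_, mb⟩) 112 na nb :=
  have := simple_HS
  netRep_stab LB.hB ha hb hP (by norm_num) ma mb hs_552.1.1 (finite_S2 _ _ _ _)
    (mem_S2.2 ⟨nm_vecOf (by decide +kernel), dt_vecOf (by decide +kernel), dt_vecOf (by decide +kernel)⟩) hsEquiv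
/-- the representation -/
noncomputable def ρ : ↥Spor.HS →* Equiv.Perm ℕ := rep.choose
theorem inj : Function.Injective ρ := rep.choose_spec.1
theorem le_supp : ρ.range ≤ supp 112 := rep.choose_spec.2.1
theorem good0 : Good 112 ρ.range [nb, na] := rep.choose_spec.2.2.1
theorem card : Nat.card ↥Spor.HS = 44352000 := card_HS
noncomputable def c2_0 : ℕ := 0xcc2e0bc13d1a1a
noncomputable def c2_1 : ℕ := 0x6bfa4a40000000bd808fe
noncomputable def c2_2 : ℕ := 0x62800029600000cea0003228
noncomputable def c2_3 : ℕ := 0xe001e009807a01880200040002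
noncomputable def c2_4 : ℕ := 0x1c0000e0800408081040008182
noncomputable def c2_5 : ℕ := 0x40000004811220480022008100
noncomputable def c2_6 : ℕ := 0x2850801085009428448042010094
noncomputable def c2_7 : ℕ := 0x2244910064411022089832044000
noncomputable def c2_8 : ℕ := 0xa183000e1808406181050808106
noncomputable def c2_9 : ℕ := 0x16c07b009807400880640074000
noncomputable def c2_10 : ℕ := 0x260e0003a6000004aa0003e0e
noncomputable def c2_11 : ℕ := 0x2bfd8cf0000000becbcac
noncomputable def c2_12 : ℕ := 0xcc2f2f01aa612c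
noncomputable def c2 : Net := .cons 56 c2_0 <| .cons 28 c2_1 <| .cons 14 c2_2 <| .cons 7 c2_3 <| .cons 4 c2_4 <| .cons 2 c2_5 <| .cons 1 c2_6 <| .cons 2 c2_7 <| .cons 4 c2_8 <| .cons 7 c2_9 <| .cons 14 c2_10 <| .cons 28 c2_11 <| .cons 56 c2_12 <| .nil
noncomputable def L2 : List Net := c2 :: [nb, na]
theorem g2 : Good 112 (Subgroup.closure {na.perm, nb.perm}) L2 :=
  Good.word (m := 7) (by norm_num) (good_two good0) (w := [2,0,2,0,2]) (by decide +kernel)
noncomputable def c3_0 : ℕ := 0x8e644863392cde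
noncomputable def c3_1 : ℕ := 0x94ececa0000000dedf1a2
noncomputable def c3_2 : ℕ := 0x2a4e0000f94000241000034e8
noncomputable def c3_3 : ℕ := 0x1f0072001007401c804a0058020
noncomputable def c3_4 : ℕ := 0x4101060c0420708100800c04307
noncomputable def c3_5 : ℕ := 0x100000000200401102408810
noncomputable def c3_6 : ℕ := 0xa10a0128100042a440952204811
noncomputable def c3_7 : ℕ := 0xc103024009002449002648012
noncomputable def c3_8 : ℕ := 0x4140060c1438506140870404301
noncomputable def c3_9 : ℕ := 0xe807b012800600cc02801fc03e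
noncomputable def c3_10 : ℕ := 0xfd70001c930003eb300020ea
noncomputable def c3_11 : ℕ := 0x1c881fd0000000afd7d7a
noncomputable def c3_12 : ℕ := 0x8e61453ab648ea
noncomputable def c3 : Net := .cons 56 c3_0 <| .cons 28 c3_1 <| .cons 14 c3_2 <| .cons 7 c3_3 <| .cons 4 c3_4 <| .cons 2 c3_5 <| .cons 1 c3_6 <| .cons 2 c3_7 <| .cons 4 c3_8 <| .cons 7 c3_9 <| .cons 14 c3_10 <| .cons 28 c3_11 <| .cons 56 c3_12 <| .nil
noncomputable def L3 : List Net := c3 :: L2
theorem g3 : Good 112 (Subgroup.closure {na.perm, nb.perm}) L3 :=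
  Good.word (m := 7) (by norm_num) g2 (w := [2,2,4,3,4]) (by decide +kernel)
noncomputable def c4_0 : ℕ := 0x13a1212d82c802
noncomputable def c4_1 : ℕ := 0x1c7586a0000000e1ea042
noncomputable def c4_2 : ℕ := 0x2360000078000034c40002064
noncomputable def c4_3 : ℕ := 0x4000c015004001f8006007002e
noncomputable def c4_4 : ℕ := 0x400006080810200102000808002
noncomputable def c4_5 : ℕ := 0x40000044001220081002000000
noncomputable def c4_6 : ℕ := 0x2844205085009420102042014090
noncomputable def c4_7 : ℕ := 0x2244011044411106481110240882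
noncomputable def c4_8 : ℕ := 0x61818208141820e0c2010414280
noncomputable def c4_9 : ℕ := 0x4803d00dc0490058062006c02a
noncomputable def c4_10 : ℕ := 0x22fc0003fc900035d400014f2
noncomputable def c4_11 : ℕ := 0xe74ffb00000004de0d24
noncomputable def c4_12 : ℕ := 0x13a4ad00a8ad4a
noncomputable def c4 : Net := .cons 56 c4_0 <| .cons 28 c4_1 <| .cons 14 c4_2 <| .cons 7 c4_3 <| .cons 4 c4_4 <| .cons 2 c4_5 <| .cons 1 c4_6 <| .cons 2 c4_7 <| .cons 4 c4_8 <| .cons 7 c4_9 <| .cons 14 c4_10 <| .cons 28 c4_11 <| .cons 56 c4_12 <| .nil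
noncomputable def L4 : List Net := c4 :: L3
theorem g4 : Good 112 (Subgroup.closure {na.perm, nb.perm}) L4 :=
  Good.word (m := 7) (by norm_num) g3 (w := [0,2,1,1]) (by decide +kernel)
noncomputable def c5_0 : ℕ := 0x3cf372de15b8b8
noncomputable def c5_1 : ℕ := 0x13485a200000006a699dc
noncomputable def c5_2 : ℕ := 0x7b6000291c000294e0000380
noncomputable def c5_3 : ℕ := 0x9000e00e0038004800a018800e
noncomputable def c5_4 : ℕ := 0x8183010200002080c0840008202
noncomputable def c5_5 : ℕ := 0x2040800000811004008000048900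
noncomputable def c5_6 : ℕ := 0x225088108442152850a100050880
noncomputable def c5_7 : ℕ := 0x200090202049922440101024c992
noncomputable def c5_8 : ℕ := 0x80c2070208207040c2050c00200
noncomputable def c5_9 : ℕ := 0xfc05f00b806a010406b000c00e
noncomputable def c5_10 : ℕ := 0x7900024150001bcf00033e0
noncomputable def c5_11 : ℕ := 0x2b3833b00000006968a38
noncomputable def c5_12 : ℕ := 0x3cff6fa810e654
noncomputable def c5 : Net := .cons 56 c5_0 <| .cons 28 c5_1 <| .cons 14 c5_2 <| .cons 7 c5_3 <| .cons 4 c5_4 <| .cons 2 c5_5 <| .cons 1 c5_6 <| .cons 2 c5_7 <| .cons 4 c5_8 <| .cons 7 c5_9 <| .cons 14 c5_10 <| .cons 28 c5_11 <| .cons 56 c5_12 <| .nil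
noncomputable def L5 : List Net := c5 :: L4
theorem g5 : Good 112 (Subgroup.closure {na.perm, nb.perm}) L5 :=
  Good.word (m := 7) (by norm_num) g4 (w := [4,4,3,3,5]) (by decide +kernel)
noncomputable def c6_0 : ℕ := 0xecc21015d175ae
noncomputable def c6_1 : ℕ := 0xb694cec0000000c30b4a4
noncomputable def c6_2 : ℕ := 0x3fb2000090a00028640000270
noncomputable def c6_3 : ℕ := 0x9001c01200020198012011807a
noncomputable def c6_4 : ℕ := 0x103820c1000700183000e00100
noncomputable def c6_5 : ℕ := 0x400002000010200081000000800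
noncomputable def c6_6 : ℕ := 0x22042842800a0402108802810a14
noncomputable def c6_7 : ℕ := 0x40091000491024041802004800
noncomputable def c6_8 : ℕ := 0xe1038700101840e182800600280
noncomputable def c6_9 : ℕ := 0x4007d002007501b8056011c062
noncomputable def c6_10 : ℕ := 0x30130002a020000cee0000606
noncomputable def c6_11 : ℕ := 0x7212ca40000000d12d96a
noncomputable def c6_12 : ℕ := 0xecc1d555f24966
noncomputable def c6 : Net := .cons 56 c6_0 <| .cons 28 c6_1 <| .cons 14 c6_2 <| .cons 7 c6_3 <| .cons 4 c6_4 <| .cons 2 c6_5 <| .cons 1 c6_6 <| .cons 2 c6_7 <| .cons 4 c6_8 <| .cons 7 c6_9 <| .cons 14 c6_10 <| .cons 28 c6_11 <| .cons 56 c6_12 <| .nil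
noncomputable def L6 : List Net := c6 :: L5
theorem g6 : Good 112 (Subgroup.closure {na.perm, nb.perm}) L6 :=
  Good.word (m := 7) (by norm_num) g5 (w := [3,0,3,3]) (by decide +kernel)
noncomputable def c7_0 : ℕ := 0xd30d2d635134c2
noncomputable def c7_1 : ℕ := 0x2c730a400000007417380
noncomputable def c7_2 : ℕ := 0x3acc000085c0002d500002fe0
noncomputable def c7_3 : ℕ := 0x80068018000001e00380048058
noncomputable def c7_4 : ℕ := 0xc182000418304040c1000800200
noncomputable def c7_5 : ℕ := 0x8800000800020000020008100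
noncomputable def c7_6 : ℕ := 0x2044a91025020020040810a04200
noncomputable def c7_7 : ℕ := 0x2004010240010104480022008010
noncomputable def c7_8 : ℕ := 0x418204040430404041030a04002
noncomputable def c7_9 : ℕ := 0x1b007300c40400010034010407a
noncomputable def c7_10 : ℕ := 0x59c0000c9d000206400025b8
noncomputable def c7_11 : ℕ := 0xbc77dbc00000005079f18
noncomputable def c7_12 : ℕ := 0xd308ed678f95ea
noncomputable def c7 : Net := .cons 56 c7_0 <| .cons 28 c7_1 <| .cons 14 c7_2 <| .cons 7 c7_3 <| .cons 4 c7_4 <| .cons 2 c7_5 <| .cons 1 c7_6 <| .cons 2 c7_7 <| .cons 4 c7_8 <| .cons 7 c7_9 <| .cons 14 c7_10 <| .cons 28 c7_11 <| .cons 56 c7_12 <| .nil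
noncomputable def L7 : List Net := c7 :: L6
theorem g7 : Good 112 (Subgroup.closure {na.perm, nb.perm}) L7 :=
  Good.word (m := 7) (by norm_num) g6 (w := [2,5,5,3]) (by decide +kernel)
noncomputable def c8_0 : ℕ := 0x29b9b836b32c20
noncomputable def c8_1 : ℕ := 0x833130c00000008ef6c8c
noncomputable def c8_2 : ℕ := 0xa8c00008e8000035000012b0
noncomputable def c8_3 : ℕ := 0x1c0030017000000d001a0190048
noncomputable def c8_4 : ℕ := 0x808301041420304100820018304
noncomputable def c8_5 : ℕ := 0x2008010000001020481002008000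
noncomputable def c8_6 : ℕ := 0x2044294020401528448812250204
noncomputable def c8_7 : ℕ := 0x200898020488010248180044c100
noncomputable def c8_8 : ℕ := 0x81c301061c20002080010214300
noncomputable def c8_9 : ℕ := 0x1d402801e406601540020018048
noncomputable def c8_10 : ℕ := 0x2aa40001b8f00027cb00002f0
noncomputable def c8_11 : ℕ := 0x8339b0c00000008ebee5c
noncomputable def c8_12 : ℕ := 0x29b02036d02418
noncomputable def c8 : Net := .cons 56 c8_0 <| .cons 28 c8_1 <| .cons 14 c8_2 <| .cons 7 c8_3 <| .cons 4 c8_4 <| .cons 2 c8_5 <| .cons 1 c8_6 <| .cons 2 c8_7 <| .cons 4 c8_8 <| .cons 7 c8_9 <| .cons 14 c8_10 <| .cons 28 c8_11 <| .cons 56 c8_12 <| .nil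
noncomputable def L8 : List Net := c8 :: L7
theorem g8 : Good 112 (Subgroup.closure {na.perm, nb.perm}) L8 :=
  Good.word (m := 7) (by norm_num) g7 (w := [2,0]) (by decide +kernel)
def C : List NLv := [(0, [8,7], [0,1,0,1,0,1,0,1,0,1,0,0,0], 100),
  (1, [6,5], [0,1,0,1,0,1,0,1,0,1,0], 77),
  (2, [4,3], [0,1,0,1,0,1,0,1,0,0], 60),
  (8, [2,1], [0,1,0,1,0,1,0,1,1], 32),
  (3, [0], [0,0], 3)]
theorem hC : chainN 7 L8 C = true := by decide +kernel
theorem gL : Good 112 (Subgroup.closure {na.perm, nb.perm}) L8 := g8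
theorem gen_top : Subgroup.closure {hsEquiv ⟨_, ma⟩, hsEquiv ⟨_, mb⟩} = ⊤ :=
  have : Finite ↥Spor.HS := Nat.finite_of_card_ne_zero (by rw [card]; norm_num)
  rep.gen gL hC (by rw [card]; decide +kernel)
theorem gen : Subgroup.closure {hsa.el, hsb.el} = St2 vV vU1 := closure_eq_of_top ma mb hsEquiv gen_top
end H79.RepHS
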