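import Cfsg.Agent.H88.OutC
import Cfsg.Agent.H79.RepHS
set_option maxRecDepth 1000000
set_option Elab.async false
namespace H79.OutHS
open H71 H81 H88
theorem good0 : Good 112 (H79.RepHS.ρ).range [H79.RepHS.nb, H79.RepHS.na] :=
  H79.RepHS.good0
noncomputable def n2_0 : ℕ := 0xd73c38b5c4c68
noncomputable def n2_1 : ℕ := 0xd6deb0000000000a407d2
noncomputable def n2_2 : ℕ := 0x7b00000faa00028400003c10
noncomputable def n2_3 : ℕ := 0x8004a018000201b003e000002e
noncomputable def n2_4 : ℕ := 0xc1000108183060c141820e00300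
noncomputable def n2_5 : ℕ := 0x2000010004880000081000000010
noncomputable def n2_6 : ℕ := 0x2a10011284481002108900250a14
noncomputable def n2_7 : ℕ := 0x2000883220801002409000608890
noncomputable def n2_8 : ℕ := 0x141820c1c2030c043800e08180
noncomputable def n2_9 : ℕ := 0x13007c01e800600b001c0060027
noncomputable def n2_10 : ℕ := 0x6650000faf00008d2000107a
noncomputable def n2_11 : ℕ := 0xd3b347200000002a42ff0
noncomputable def n2_12 : ℕ := 0xd72e088dded2a
noncomputable def n2 : Net := .cons 56 n2_0 <| .cons 28 n2_1 <| .cons 14 n2_2 <| .cons 7 n2_3 <| .cons 4 n2_4 <| .cons 2 n2_5 <| .cons 1 n2_6 <| .cons 2 n2_7 <| .cons 4 n2_8 <| .cons 7 n2_9 <| .cons 14 n2_10 <| .cons 28 n2_11 <| .cons 56 n2_12 <| .nil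
noncomputable def La2 : List Net := n2 :: [H79.RepHS.nb, H79.RepHS.na]
theorem ga2 : Good 112 (H79.RepHS.ρ).range La2 :=
  Good.word (m := 7) (by norm_num) good0 (w := [3,3,0,2,0]) (by decide +kernel)
noncomputable def Tn2 : H88.Tr := (.leaf (nat_lit 0) (nat_lit 0xfff894cbc0c6290409c36d0610b00000fff70b409b89826ac21022e964010000000a3d29280b9bfee1e590449d520000ff01579942192f3d7b069ea2c70a0000f0f6401f4f515cf88dd3d7284c520000ccc5acea50df7c45ec4c80f8545b0000aaa995370bb868b2aaa2e8791779))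
noncomputable def ln2 : Lt := ⟨Tn2, n2⟩
theorem on2 : OK 112 (H79.RepHS.ρ).range ln2 := OK.of (m := 7) (by norm_num) (H := 128) ga2 (by decide +kernel)
noncomputable def n3_0 : ℕ := 0x68d80dd5dd6610
noncomputable def n3_1 : ℕ := 0xf81964000000003a54e7c
noncomputable def n3_2 : ℕ := 0x10a80000a9000039080000456
noncomputable def n3_3 : ℕ := 0x15000e00e001c007802c006807c
noncomputable def n3_4 : ℕ := 0x18303040008402081850c10300
noncomputable def n3_5 : ℕ := 0x400110000800020480020448100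
noncomputable def n3_6 : ℕ := 0x20421002108102a440812250210
noncomputable def n3_7 : ℕ := 0x604902060c901064c1810240182
noncomputable def n3_8 : ℕ := 0x210103000c081020c1840810206
noncomputable def n3_9 : ℕ := 0x1e401e0078027006803001e807f
noncomputable def n3_10 : ℕ := 0x18bd00019a60003c4800020fe
noncomputable def n3_11 : ℕ := 0xb05776200000003a51c95
noncomputable def n3_12 : ℕ := 0x68de7e6801a3b9
noncomputable def n3 : Net := .cons 56 n3_0 <| .cons 28 n3_1 <| .cons 14 n3_2 <| .cons 7 n3_3 <| .cons 4 n3_4 <| .cons 2 n3_5 <| .cons 1 n3_6 <| .cons 2 n3_7 <| .cons 4 n3_8 <| .cons 7 n3_9 <| .cons 14 n3_10 <| .cons 28 n3_11 <| .cons 56 n3_12 <| .nil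
noncomputable def La3 : List Net := n3 :: La2
theorem ga3 : Good 112 (H79.RepHS.ρ).range La3 :=
  Good.word (m := 7) (by norm_num) ga2 (w := [2,5,3,4,2,4,2]) (by decide +kernel)
noncomputable def Tn3 : H88.Tr := (.leaf (nat_lit 0) (nat_lit 0xfff0100379a0b224e8b9c871c8200000fff70d2c010d05d91000316c1c570000000a0ff60e0410a5617b9f8d81ed0000ff058b77a648ee1426127a99c6740000f0fabd025e913fc4474e3096d4b40000ccce7a4ebd4b0aa98c78598add180000aaadebbef730b982392929245721))
noncomputable def ln3 : Lt := ⟨Tn3, n3⟩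
theorem on3 : OK 112 (H79.RepHS.ρ).range ln3 := OK.of (m := 7) (by norm_num) (H := 128) ga3 (by decide +kernel)
noncomputable def n4_0 : ℕ := 0xfbcfc86d8a047e
noncomputable def n4_1 : ℕ := 0xe353800000000d5e8148
noncomputable def n4_2 : ℕ := 0x2c080001408000009c00011d0
noncomputable def n4_3 : ℕ := 0x19006c01a805e01000200080024
noncomputable def n4_4 : ℕ := 0x400080020000000082020008080
noncomputable def n4_5 : ℕ := 0x40112004880024000000000102
noncomputable def n4_6 : ℕ := 0x844a11224481422100010040a01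
noncomputable def n4_7 : ℕ := 0x4440920648883244c9100000082
noncomputable def n4_8 : ℕ := 0x20c184040038204102010014100
noncomputable def n4_9 : ℕ := 0x10807d01ec04e01ac00a00c4024
noncomputable def n4_10 : ℕ := 0x1c590001ca8000118700011d2
noncomputable def n4_11 : ℕ := 0x9e756840000000d5c85fe
noncomputable def n4_12 : ℕ := 0xfbcf137a928944
noncomputable def n4 : Net := .cons 56 n4_0 <| .cons 28 n4_1 <| .cons 14 n4_2 <| .cons 7 n4_3 <| .cons 4 n4_4 <| .cons 2 n4_5 <| .cons 1 n4_6 <| .cons 2 n4_7 <| .cons 4 n4_8 <| .cons 7 n4_9 <| .cons 14 n4_10 <| .cons 28 n4_11 <| .cons 56 n4_12 <| .nil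
noncomputable def La4 : List Net := n4 :: La3
theorem ga4 : Good 112 (H79.RepHS.ρ).range La4 :=
  Good.word (m := 7) (by norm_num) ga3 (w := [3,0,0,2,0,0]) (by decide +kernel)
noncomputable def Tn4 : H88.Tr := (.leaf (nat_lit 0) (nat_lit 0xfff662d5e0356301ae900200dc020000fffa9d0201c2c698112109af807800000004159b388401d5455777645c7f0000ff002806af4f115b7e932f0c26ed0000f0f1dba5f0609d9657f8340c38a90000cccc628aa7c16efb876b146d0d830000aaaee9a2a5f62b5621e06052775d))
noncomputable def ln4 : Lt := ⟨Tn4, n4⟩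
theorem on4 : OK 112 (H79.RepHS.ρ).range ln4 := OK.of (m := 7) (by norm_num) (H := 128) ga4 (by decide +kernel)
noncomputable def n5_0 : ℕ := 0x39a79578d7c6cc
noncomputable def n5_1 : ℕ := 0x39ec47a0000000738c802
noncomputable def n5_2 : ℕ := 0xf8000131c000283a0001a60
noncomputable def n5_3 : ℕ := 0x140060018002001600680120000
noncomputable def n5_4 : ℕ := 0xa040000810105081c0000010002
noncomputable def n5_5 : ℕ := 0x800044000000000100008802
noncomputable def n5_6 : ℕ := 0x80480528442100a540940a10a91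
noncomputable def n5_7 : ℕ := 0x2008913060411202480012448982
noncomputable def n5_8 : ℕ := 0x43010a001810e0c0030804102
noncomputable def n5_9 : ℕ := 0x10402c000c06b002c04a00fc002
noncomputable def n5_10 : ℕ := 0xebb000065e000052f0003a65
noncomputable def n5_11 : ℕ := 0x30681be0000000b38aa81
noncomputable def n5_12 : ℕ := 0x39affe37fc938b
noncomputable def n5 : Net := .cons 56 n5_0 <| .cons 28 n5_1 <| .cons 14 n5_2 <| .cons 7 n5_3 <| .cons 4 n5_4 <| .cons 2 n5_5 <| .cons 1 n5_6 <| .cons 2 n5_7 <| .cons 4 n5_8 <| .cons 7 n5_9 <| .cons 14 n5_10 <| .cons 28 n5_11 <| .cons 56 n5_12 <| .nil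
noncomputable def La5 : List Net := n5 :: La4
theorem ga5 : Good 112 (H79.RepHS.ρ).range La5 :=
  Good.word (m := 7) (by norm_num) ga4 (w := [5,3,3,3,4,2]) (by decide +kernel)
noncomputable def Tn5 : H88.Tr := (.leaf (nat_lit 0) (nat_lit 0xffff04cce2d64010983c840809b20000fff13b110b0322c8234320eda4410000000e5dc0f97536e70c81bd22a8050000ff06371818d4f9255b975350af030000f0fc52bd54613941fc0b6da0dd620000cccdd48abc86caf4860b43e74dc50000aaa672873387224f58b8cec1778d))
noncomputable def ln5 : Lt := ⟨Tn5, n5⟩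
theorem on5 : OK 112 (H79.RepHS.ρ).range ln5 := OK.of (m := 7) (by norm_num) (H := 128) ga5 (by decide +kernel)
noncomputable def n6_0 : ℕ := 0x1b75d6b7978962
noncomputable def n6_1 : ℕ := 0x87e1ad800000008e8ff20
noncomputable def n6_2 : ℕ := 0x1564000077a00009a00003018
noncomputable def n6_3 : ℕ := 0x100030013804000c803c0070032
noncomputable def n6_4 : ℕ := 0xc08104021020004002060808384
noncomputable def n6_5 : ℕ := 0x2000802204000000000000448000
noncomputable def n6_6 : ℕ := 0x2214884204420402408842844214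
noncomputable def n6_7 : ℕ := 0x244c913040080102008022408902
noncomputable def n6_8 : ℕ := 0x40c080021000000043870c04085
noncomputable def n6_9 : ℕ := 0x11002301b8018004c04c00b8011
noncomputable def n6_10 : ℕ := 0x1400000056f0001920000093d
noncomputable def n6_11 : ℕ := 0x84f911400000008e0cb64
noncomputable def n6_12 : ℕ := 0x1b7734b68ebd3b
noncomputable def n6 : Net := .cons 56 n6_0 <| .cons 28 n6_1 <| .cons 14 n6_2 <| .cons 7 n6_3 <| .cons 4 n6_4 <| .cons 2 n6_5 <| .cons 1 n6_6 <| .cons 2 n6_7 <| .cons 4 n6_8 <| .cons 7 n6_9 <| .cons 14 n6_10 <| .cons 28 n6_11 <| .cons 56 n6_12 <| .nil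
noncomputable def La6 : List Net := n6 :: La5
theorem ga6 : Good 112 (H79.RepHS.ρ).range La6 :=
  Good.word (m := 7) (by norm_num) ga5 (w := [0,3,1,2,1,3,3,1]) (by decide +kernel)
noncomputable def Tn6 : H88.Tr := (.leaf (nat_lit 0) (nat_lit 0xfff2d2a03ea12628a0282585c4c10000fff00c1941dac1870b3250609c380000000769e33a18dcf68c133ae7000d0000ff0ffc09ee2c791bc9c03e9002780000f0f94da7a96abb7fb0cd046130a00000ccc9afccbf04288e602b782ff83a0000aaaadde4491a6855468eef44c69b))
noncomputable def ln6 : Lt := ⟨Tn6, n6⟩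
theorem on6 : OK 112 (H79.RepHS.ρ).range ln6 := OK.of (m := 7) (by norm_num) (H := 128) ga6 (by decide +kernel)
noncomputable def n7_0 : ℕ := 0xefb979b53d8130
noncomputable def n7_1 : ℕ := 0xabb99320000000a9628c0
noncomputable def n7_2 : ℕ := 0x6540001f2800014200002c40
noncomputable def n7_3 : ℕ := 0xb004000a804000100180090014
noncomputable def n7_4 : ℕ := 0x1040010281000c2070018001
noncomputable def n7_5 : ℕ := 0x2040000040000020400000008000
noncomputable def n7_6 : ℕ := 0x22440812814a9020500142010a90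
noncomputable def n7_7 : ℕ := 0x220c00106489930008090200c102
noncomputable def n7_8 : ℕ := 0xc04100061838100042060a18181
noncomputable def n7_9 : ℕ := 0x3c061003c026011005d0158035
noncomputable def n7_10 : ℕ := 0xe520001cbc0001a620003954
noncomputable def n7_11 : ℕ := 0x2f22b6a0000000b968825
noncomputable def n7_12 : ℕ := 0xefbef1bd6d3139
noncomputable def n7 : Net := .cons 56 n7_0 <| .cons 28 n7_1 <| .cons 14 n7_2 <| .cons 7 n7_3 <| .cons 4 n7_4 <| .cons 2 n7_5 <| .cons 1 n7_6 <| .cons 2 n7_7 <| .cons 4 n7_8 <| .cons 7 n7_9 <| .cons 14 n7_10 <| .cons 28 n7_11 <| .cons 56 n7_12 <| .nil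
noncomputable def La7 : List Net := n7 :: La6
theorem ga7 : Good 112 (H79.RepHS.ρ).range La7 :=
  Good.word (m := 7) (by norm_num) ga6 (w := [5,3,3,4,2,2]) (by decide +kernel)
noncomputable def Tn7 : H88.Tr := (.leaf (nat_lit 0) (nat_lit 0xfffad38386c81211c68400d2d0610000fffc04487005001e29313b6c2c360000000251a8381ccfefc55245a634d30000ff031d5dfe1399a3c214781b23520000f0f496b4b913ba447ad921bb54d00000cccfaef68d417f86cd54926408530000aaa384bad208e8dd4e1ff1c7ca0e))
noncomputable def ln7 : Lt := ⟨Tn7, n7⟩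
theorem on7 : OK 112 (H79.RepHS.ρ).range ln7 := OK.of (m := 7) (by norm_num) (H := 128) ga7 (by decide +kernel)
noncomputable def n8_0 : ℕ := 0x1b3c412080ffc
noncomputable def n8_1 : ℕ := 0xb83e894000000061350f4
noncomputable def n8_2 : ℕ := 0x335000034f6000091a000162a
noncomputable def n8_3 : ℕ := 0x138024009800201c8072007806c
noncomputable def n8_4 : ℕ := 0xc04104000000200003020000005
noncomputable def n8_5 : ℕ := 0x408000000000200408000000900
noncomputable def n8_6 : ℕ := 0x28442810a408040044a850044a01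
noncomputable def n8_7 : ℕ := 0x44c081064000324448130404912
noncomputable def n8_8 : ℕ := 0xc0c3000c0c08000103830004184
noncomputable def n8_9 : ℕ := 0x380650130021019c02e00f806c
noncomputable def n8_10 : ℕ := 0x1b5100035f7000354f000120a
noncomputable def n8_11 : ℕ := 0xb82a8b70000000f134f55
noncomputable def n8_12 : ℕ := 0x1ba931ad94e55
noncomputable def n8 : Net := .cons 56 n8_0 <| .cons 28 n8_1 <| .cons 14 n8_2 <| .cons 7 n8_3 <| .cons 4 n8_4 <| .cons 2 n8_5 <| .cons 1 n8_6 <| .cons 2 n8_7 <| .cons 4 n8_8 <| .cons 7 n8_9 <| .cons 14 n8_10 <| .cons 28 n8_11 <| .cons 56 n8_12 <| .nil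
noncomputable def La8 : List Net := n8 :: La7
theorem ga8 : Good 112 (H79.RepHS.ρ).range La8 :=
  Good.word (m := 7) (by norm_num) ga7 (w := [2,0,3,0]) (by decide +kernel)
noncomputable def Tn8 : H88.Tr := (.leaf (nat_lit 0) (nat_lit 0xfff345c38600a0008e7c229895350000fff49a00695610cf50771c4300880000000847b11007d55f83889cb78ddc0000ff019c17079194bbbd0a918a6ecd0000f0fabde7b14f12710609cb6aa0c50000cccbd0ac2c89364df7ebaf04050f0000aaa159a1e29ae81151b8df793e8b))
noncomputable def ln8 : Lt := ⟨Tn8, n8⟩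
theorem on8 : OK 112 (H79.RepHS.ρ).range ln8 := OK.of (m := 7) (by norm_num) (H := 128) ga8 (by decide +kernel)
noncomputable def nx_0 : ℕ := 0x354af3d1e6260
noncomputable def nx_1 : ℕ := 0xa8fcd180000000b3bcad2
noncomputable def nx_2 : ℕ := 0x3118000150000014300003c48
noncomputable def nx_3 : ℕ := 0x8004c000005800d003a0028070
noncomputable def nx_4 : ℕ := 0x418004000808504082060414287
noncomputable def nx_5 : ℕ := 0x440100004081000088000000002
noncomputable def nx_6 : ℕ := 0x8400850040a1502508940050094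
noncomputable def nx_7 : ℕ := 0x2408100004489026448802408900
noncomputable def nx_8 : ℕ := 0x418205041c1800e103030414382
noncomputable def nx_9 : ℕ := 0x18c011000c039007c07f0188063
noncomputable def nx_10 : ℕ := 0x19f500005d0000393a0000e42
noncomputable def nx_11 : ℕ := 0xa9a683800000008733386
noncomputable def nx_12 : ℕ := 0x354bb199aa069
noncomputable def nx : Net := .cons 56 nx_0 <| .cons 28 nx_1 <| .cons 14 nx_2 <| .cons 7 nx_3 <| .cons 4 nx_4 <| .cons 2 nx_5 <| .cons 1 nx_6 <| .cons 2 nx_7 <| .cons 4 nx_8 <| .cons 7 nx_9 <| .cons 14 nx_10 <| .cons 28 nx_11 <| .cons 56 nx_12 <| .nil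
noncomputable def La9 : List Net := nx :: La8
theorem ga9 : Good 112 (H79.RepHS.ρ).range La9 :=
  Good.word (m := 7) (by norm_num) ga8 (w := [16,16,16,13,10,10,6,6,9,6,8,5,1]) (by decide +kernel)
noncomputable def Tnx : H88.Tr := (.leaf (nat_lit 0) (nat_lit 0xfffa5b8a10413e200209f69302490000fff0a418618b49d870a40544c4a600000005b516148410fb4b8a73adaf310000ff0ca8c732fa02b3e8e883e131cd0000f0f08a7491dc775acf7c10ea0ec10000ccc6dc8e3c3b71e1c41a492adeca0000aaa30a51d03323b54997feecc78c))
noncomputable def lnx : Lt := ⟨Tnx, nx⟩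
theorem onx : OK 112 (H79.RepHS.ρ).range lnx := OK.of (m := 7) (by norm_num) (H := 128) ga9 (by decide +kernel)
noncomputable def nq_0 : ℕ := 0xe8a44aad31600
noncomputable def nq_1 : ℕ := 0xf88ef8000000070a4610
noncomputable def nq_2 : ℕ := 0x140c0002e1000020800002a6c
noncomputable def nq_3 : ℕ := 0x200200038014019005201b8040
noncomputable def nq_4 : ℕ := 0x410000060c00300081020010203
noncomputable def nq_5 : ℕ := 0x40800240081204480020400110
noncomputable def nq_6 : ℕ := 0x508012214a110244a140214094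
noncomputable def nq_7 : ℕ := 0x440890020888204401130600900
noncomputable def nq_8 : ℕ := 0x4003810e041030a0c3000e04306
noncomputable def nq_9 : ℕ := 0xa007200d401200f405e01e804b
noncomputable def nq_10 : ℕ := 0x176c0002c9a0003cb9000087f
noncomputable def nq_11 : ℕ := 0x30fdbc000000051c1f59
noncomputable def nq_12 : ℕ := 0xe8a042f5165fc
noncomputable def nq : Net := .cons 56 nq_0 <| .cons 28 nq_1 <| .cons 14 nq_2 <| .cons 7 nq_3 <| .cons 4 nq_4 <| .cons 2 nq_5 <| .cons 1 nq_6 <| .cons 2 nq_7 <| .cons 4 nq_8 <| .cons 7 nq_9 <| .cons 14 nq_10 <| .cons 28 nq_11 <| .cons 56 nq_12 <| .nil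
noncomputable def La10 : List Net := nq :: La9
theorem ga10 : Good 112 (H79.RepHS.ρ).range La10 :=
  Good.word (m := 7) (by norm_num) ga9 (w := [18,17,13,15,12,12,8,8,10,10,5,6,6]) (by decide +kernel)
noncomputable def Tnq : H88.Tr := (.leaf (nat_lit 0) (nat_lit 0xfffacbc4a4c34008bc64668100190000fff23019590522f1591b090aa1060000000027b59066e6de82bd81a5b8d80000ff0cb60426541615874f9bf7d10b0000f0fc554c61bcd9e9a75501a4ea520000ccc7d5344ffe215cccfb2c30144a0000aaa3bb01e2d838a0f3f9baaa98f0))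
noncomputable def lnq : Lt := ⟨Tnq, nq⟩
theorem onq : OK 112 (H79.RepHS.ρ).range lnq := OK.of (m := 7) (by norm_num) (H := 128) ga10 (by decide +kernel)
noncomputable def nu_0 : ℕ := 0x618503dbe92aa0
noncomputable def nu_1 : ℕ := 0x3d67bc800000009c571d8
noncomputable def nu_2 : ℕ := 0x230a000362e0002b5a0001c68
noncomputable def nu_3 : ℕ := 0x2804000b8050006001c0000030
noncomputable def nu_4 : ℕ := 0xc203000830402102800810101
noncomputable def nu_5 : ℕ := 0x8100040001000001022400010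
noncomputable def nu_6 : ℕ := 0x2804081081481108140812204811
noncomputable def nu_7 : ℕ := 0x44018200080802004083200c912
noncomputable def nu_8 : ℕ := 0x4083830e0820402142800000080
noncomputable def nu_9 : ℕ := 0x1e005f0188053014c01e019c07c
noncomputable def nu_10 : ℕ := 0x226b0001eee0002e480001974
noncomputable def nu_11 : ℕ := 0x1ce9a7a00000008e3050b
noncomputable def nu_12 : ℕ := 0x6184bac68bda20
noncomputable def nu : Net := .cons 56 nu_0 <| .cons 28 nu_1 <| .cons 14 nu_2 <| .cons 7 nu_3 <| .cons 4 nu_4 <| .cons 2 nu_5 <| .cons 1 nu_6 <| .cons 2 nu_7 <| .cons 4 nu_8 <| .cons 7 nu_9 <| .cons 14 nu_10 <| .cons 28 nu_11 <| .cons 56 nu_12 <| .nil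
noncomputable def La11 : List Net := nu :: La10
theorem ga11 : Good 112 (H79.RepHS.ρ).range La11 :=
  Good.word (m := 7) (by norm_num) ga10 (w := [18,21,21,16,14,14,16,10,12,12,11,8,7,8,8,4]) (by decide +kernel)
noncomputable def Tnu : H88.Tr := (.leaf (nat_lit 0) (nat_lit 0xfff03bc569e8a74180410b10042d0000fffe643e1467403a1004b021b91000000000d6f11e05d23db49d419ae0ab0000ff041fa14197da6c2d6326cb391a0000f0ff08d33c92602857d14fe3663a0000ccc101672e3c96f3376b52b1ed500000aaa603257ad9882936c6fc2f83ed))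
noncomputable def lnu : Lt := ⟨Tnu, nu⟩
theorem onu : OK 112 (H79.RepHS.ρ).range lnu := OK.of (m := 7) (by norm_num) (H := 128) ga11 (by decide +kernel)
noncomputable def nc1_0 : ℕ := 0x528bf246b1ddd0
noncomputable def nc1_1 : ℕ := 0x5c1ca4800000003e08626
noncomputable def nc1_2 : ℕ := 0x6820003c9000010d60002f8e
noncomputable def nc1_3 : ℕ := 0x10008010807001e00340198004
noncomputable def nc1_4 : ℕ := 0x81840c1c0060c002010a08004
noncomputable def nc1_5 : ℕ := 0x408000040801020009022440000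
noncomputable def nc1_6 : ℕ := 0x810284221081128508842240005
noncomputable def nc1_7 : ℕ := 0x20c813020491002008012048013
noncomputable def nc1_8 : ℕ := 0x8187081c0040c003810410207
noncomputable def nc1_9 : ℕ := 0x84028010805b01b006300f4000
noncomputable def nc1_10 : ℕ := 0x202000349b000155e0001efa
noncomputable def nc1_11 : ℕ := 0x4c16e1c000000037705d7
noncomputable def nc1_12 : ℕ := 0x528efef1dcf80b
noncomputable def nc1 : Net := .cons 56 nc1_0 <| .cons 28 nc1_1 <| .cons 14 nc1_2 <| .cons 7 nc1_3 <| .cons 4 nc1_4 <| .cons 2 nc1_5 <| .cons 1 nc1_6 <| .cons 2 nc1_7 <| .cons 4 nc1_8 <| .cons 7 nc1_9 <| .cons 14 nc1_10 <| .cons 28 nc1_11 <| .cons 56 nc1_12 <| .nil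
noncomputable def La12 : List Net := nc1 :: La11
theorem ga12 : Good 112 (H79.RepHS.ρ).range La12 :=
  Good.word (m := 7) (by norm_num) ga11 (w := [23,20,23,23,23,17,19,11,9]) (by decide +kernel)
noncomputable def Tnc1 : H88.Tr := (.leaf (nat_lit 0) (nat_lit 0xfff27a0c29c6514d1c048804e1680000fff801531400a4a1d6322733185300000008b5ed2e763eace8446159062a0000ff0221a7f8f566564182ec7a41370000f0f34225552c3efe20fcde1334290000ccc0675c46f67a90174fbfbe90040000aaa00a28236d4cf3bb263fdc0bbb))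
noncomputable def lnc1 : Lt := ⟨Tnc1, nc1⟩
theorem onc1 : OK 112 (H79.RepHS.ρ).range lnc1 := OK.of (m := 7) (by norm_num) (H := 128) ga12 (by decide +kernel)
noncomputable def B2 : Subgroup (Equiv.Perm ℕ) := Subgroup.closure {lnx.p, lnq.p, lnu.p}
theorem good2 : Good 112 B2 [nu, nq, nx] := (good_three onx onq onu).1
theorem le2 : B2 ≤ (H79.RepHS.ρ).range := (good_three onx onq onu).2
theorem sup2 : B2 ≤ supp 112 := (good_three (onx.mono onx.supp) (onq.mono onq.supp) (onu.mono onu.supp)).2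
theorem pnx : OK 112 B2 lnx := onx.mono (good2 _ (by simp [lnx])).2
theorem pnq : OK 112 B2 lnq := onq.mono (good2 _ (by simp [lnq])).2
theorem pnu : OK 112 B2 lnu := onu.mono (good2 _ (by simp [lnu])).2
noncomputable def m3_0 : ℕ := 0x42d31fa1307fc
noncomputable def m3_1 : ℕ := 0xf940414000000090142d0
noncomputable def m3_2 : ℕ := 0x19200002ab40000b0c0000cb4
noncomputable def m3_3 : ℕ := 0x8000800c0062009004201a0020
noncomputable def m3_4 : ℕ := 0x214205000010006180000400004
noncomputable def m3_5 : ℕ := 0x400000240880204081000040100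
noncomputable def m3_6 : ℕ := 0x24488528108042210a002850a14
noncomputable def m3_7 : ℕ := 0x40c90106049030604911224c010
noncomputable def m3_8 : ℕ := 0xe1c3010200102001c3840208101
noncomputable def m3_9 : ℕ := 0x108011009004a013806600b804d
noncomputable def m3_10 : ℕ := 0xf380002b9b000270c0000ca9
noncomputable def m3_11 : ℕ := 0xfd6774f00000001344a29
noncomputable def m3_12 : ℕ := 0x42d0b412e5e67
noncomputable def m3 : Net := .cons 56 m3_0 <| .cons 28 m3_1 <| .cons 14 m3_2 <| .cons 7 m3_3 <| .cons 4 m3_4 <| .cons 2 m3_5 <| .cons 1 m3_6 <| .cons 2 m3_7 <| .cons 4 m3_8 <| .cons 7 m3_9 <| .cons 14 m3_10 <| .cons 28 m3_11 <| .cons 56 m3_12 <| .nil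
noncomputable def Lb3 : List Net := m3 :: [nu, nq, nx]
theorem gb3 : Good 112 B2 Lb3 :=
  Good.word (m := 7) (by norm_num) good2 (w := [1,5,5]) (by decide +kernel)
noncomputable def Tm3 : H88.Tr := (.leaf (nat_lit 0) (nat_lit 0xfff2204580c2c250ce5343268ec80000fff953b00f19180bb00714306122000000041c1925fd57aa1a7c45ca2e2a0000ff01ebc7cd4d676803008acc7baa0000f0ff11ddbacc29bb4104c383326d0000ccc483b55631f7c3c9b073e4a16c0000aaa636d57e62f828b88158cf5c72))
noncomputable def lm3 : Lt := ⟨Tm3, m3⟩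
theorem om3 : OK 112 B2 lm3 := OK.of (m := 7) (by norm_num) (H := 128) gb3 (by decide +kernel)
noncomputable def m4_0 : ℕ := 0x839d2210441254
noncomputable def m4_1 : ℕ := 0xc4c6900000000021eba84
noncomputable def m4_2 : ℕ := 0x16ac000077400035600001488
noncomputable def m4_3 : ℕ := 0x18005001f0042001006a0090056
noncomputable def m4_4 : ℕ := 0x1c304021808204002820004383
noncomputable def m4_5 : ℕ := 0x448002200880000001020400000
noncomputable def m4_6 : ℕ := 0x2440942244a0420542040250205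
noncomputable def m4_7 : ℕ := 0x4082260c103044c0812408913
noncomputable def m4_8 : ℕ := 0xc384000c30600003010004380
noncomputable def m4_9 : ℕ := 0x19400100c806f019006900b4023
noncomputable def m4_10 : ℕ := 0x37390002f9e00029100001f1c
noncomputable def m4_11 : ℕ := 0x475c589000000025cf2ca
noncomputable def m4_12 : ℕ := 0x839eb5f222f629
noncomputable def m4 : Net := .cons 56 m4_0 <| .cons 28 m4_1 <| .cons 14 m4_2 <| .cons 7 m4_3 <| .cons 4 m4_4 <| .cons 2 m4_5 <| .cons 1 m4_6 <| .cons 2 m4_7 <| .cons 4 m4_8 <| .cons 7 m4_9 <| .cons 14 m4_10 <| .cons 28 m4_11 <| .cons 56 m4_12 <| .nil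
noncomputable def Lb4 : List Net := m4 :: Lb3
theorem gb4 : Good 112 B2 Lb4 :=
  Good.word (m := 7) (by norm_num) gb3 (w := [6,4,3]) (by decide +kernel)
noncomputable def Tm4 : H88.Tr := (.leaf (nat_lit 0) (nat_lit 0xfffb0a100803018f80fe218604df0000fff424af36dcdc002200d194c60000000000a01526345b629c5e7638b3bf0000ff0791417bede02116f65c50515d0000f0f787d7a539f40d5e59302a281a0000ccca25751c8d05ea37191afb8d550000aaa716c4926a7bb82d9b9bb090ce))
noncomputable def lm4 : Lt := ⟨Tm4, m4⟩
theorem om4 : OK 112 B2 lm4 := OK.of (m := 7) (by norm_num) (H := 128) gb4 (by decide +kernel)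
noncomputable def m5_0 : ℕ := 0xa83ff6716f06a0
noncomputable def m5_1 : ℕ := 0xb6c1eb8000000092577a4
noncomputable def m5_2 : ℕ := 0x1cd80003a4c00038660002464
noncomputable def m5_3 : ℕ := 0x2001001c002e012806800c8008
noncomputable def m5_4 : ℕ := 0xa18182000c08500182000808104
noncomputable def m5_5 : ℕ := 0x2000802004880020000002400000
noncomputable def m5_6 : ℕ := 0x2210a040044a8122102152840285
noncomputable def m5_7 : ℕ := 0x60c881000408300480832200003
noncomputable def m5_8 : ℕ := 0x2081010000281040c2070c10007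
noncomputable def m5_9 : ℕ := 0x18c00700c0035016c061006000a
noncomputable def m5_10 : ℕ := 0x30e0000104b00008e600035ae
noncomputable def m5_11 : ℕ := 0x3ec70e0000000091d56de
noncomputable def m5_12 : ℕ := 0xa83269503a62da
noncomputable def m5 : Net := .cons 56 m5_0 <| .cons 28 m5_1 <| .cons 14 m5_2 <| .cons 7 m5_3 <| .cons 4 m5_4 <| .cons 2 m5_5 <| .cons 1 m5_6 <| .cons 2 m5_7 <| .cons 4 m5_8 <| .cons 7 m5_9 <| .cons 14 m5_10 <| .cons 28 m5_11 <| .cons 56 m5_12 <| .nil
noncomputable def Lb5 : List Net := m5 :: Lb4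
theorem gb5 : Good 112 B2 Lb5 :=
  Good.word (m := 7) (by norm_num) gb4 (w := [0,3,3,3,1,1]) (by decide +kernel)
noncomputable def Tm5 : H88.Tr := (.leaf (nat_lit 0) (nat_lit 0xfff920ac126ad8b2aa46c06180480000fffccc5020a40f4c443310186327000000029f5eeecc64dc2230ed24904d0000ff07fc904755b699fc0905fc880c0000f0f38222ab94800a7e5cd77e47cd0000ccc69a353e505905c97b6075dec60000aaab271a54834bca93f97678ec0c))
noncomputable def lm5 : Lt := ⟨Tm5, m5⟩
theorem om5 : OK 112 B2 lm5 := OK.of (m := 7) (by norm_num) (H := 128) gb5 (by decide +kernel)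
noncomputable def m6_0 : ℕ := 0x2abe6fc8b9d9b0
noncomputable def m6_1 : ℕ := 0x1856ac60000000048588c
noncomputable def m6_2 : ℕ := 0x9c000026d000026e40003c90
noncomputable def m6_3 : ℕ := 0x178068017800600080000110074
noncomputable def m6_4 : ℕ := 0x210000001c20206002800018301
noncomputable def m6_5 : ℕ := 0x8002004880204080020000800
noncomputable def m6_6 : ℕ := 0x204801004488428502812850810
noncomputable def m6_7 : ℕ := 0x2648003204008100480800600883
noncomputable def m6_8 : ℕ := 0x180040a1c2800a182830418305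
noncomputable def m6_9 : ℕ := 0x140069010c04100900100078031
noncomputable def m6_10 : ℕ := 0xd540002f9200002c60002053
noncomputable def m6_11 : ℕ := 0x12ea676000000080855f1
noncomputable def m6_12 : ℕ := 0x2aba09fa2b79c0
noncomputable def m6 : Net := .cons 56 m6_0 <| .cons 28 m6_1 <| .cons 14 m6_2 <| .cons 7 m6_3 <| .cons 4 m6_4 <| .cons 2 m6_5 <| .cons 1 m6_6 <| .cons 2 m6_7 <| .cons 4 m6_8 <| .cons 7 m6_9 <| .cons 14 m6_10 <| .cons 28 m6_11 <| .cons 56 m6_12 <| .nil
noncomputable def Lb6 : List Net := m6 :: Lb5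
theorem gb6 : Good 112 B2 Lb6 :=
  Good.word (m := 7) (by norm_num) gb5 (w := [5,3,3,5,2,4]) (by decide +kernel)
noncomputable def Tm6 : H88.Tr := (.leaf (nat_lit 0) (nat_lit 0xfff788351eda8044f11124a007100000fff9664328246e290a12014a186d0000000e7034e380536b6902aed5f9340000ff088ca20321cbae336dccf8bd510000f0fea6c2b2705132f446f3e9849c0000cccad4afaf409dc88c0da5f60ace0000aaa89282b883ae6ccedabc99c73a))
noncomputable def lm6 : Lt := ⟨Tm6, m6⟩
theorem om6 : OK 112 B2 lm6 := OK.of (m := 7) (by norm_num) (H := 128) gb6 (by decide +kernel)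
noncomputable def m7_0 : ℕ := 0xaf2fa1de10e862
noncomputable def m7_1 : ℕ := 0x3a3e44800000001e4d99c
noncomputable def m7_2 : ℕ := 0x3c9c000289800024b40002158
noncomputable def m7_3 : ℕ := 0xf80240080008012805c0178078
noncomputable def m7_4 : ℕ := 0xc104081830200080020e00386
noncomputable def m7_5 : ℕ := 0x102040000200008002408000
noncomputable def m7_6 : ℕ := 0x25420428008140050a902204201
noncomputable def m7_7 : ℕ := 0x220c081240c18200401032608183
noncomputable def m7_8 : ℕ := 0x1040a14303041c2010608386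
noncomputable def m7_9 : ℕ := 0x19806e010c02a013404e0058024
noncomputable def m7_10 : ℕ := 0x37db00001ba0002482000014c
noncomputable def m7_11 : ℕ := 0x981c57800000001e13f8b
noncomputable def m7_12 : ℕ := 0xaf29113c3eb11d
noncomputable def m7 : Net := .cons 56 m7_0 <| .cons 28 m7_1 <| .cons 14 m7_2 <| .cons 7 m7_3 <| .cons 4 m7_4 <| .cons 2 m7_5 <| .cons 1 m7_6 <| .cons 2 m7_7 <| .cons 4 m7_8 <| .cons 7 m7_9 <| .cons 14 m7_10 <| .cons 28 m7_11 <| .cons 56 m7_12 <| .nil
noncomputable def Lb7 : List Net := m7 :: Lb6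
theorem gb7 : Good 112 B2 Lb7 :=
  Good.word (m := 7) (by norm_num) gb6 (w := [1,3,0]) (by decide +kernel)
noncomputable def Tm7 : H88.Tr := (.leaf (nat_lit 0) (nat_lit 0xfff9642c2403ca091974470985410000fff083c10bc830a9560ba03266880000000cef8f6a9493c0af017eec28400000ff05fc9385445432cb33722cdb850000f0f7d96975e4365605678e4f23000000ccce54a42ee1797834bb566718ac0000aaae1a53191b92237ffa5e633111))
noncomputable def lm7 : Lt := ⟨Tm7, m7⟩
theorem om7 : OK 112 B2 lm7 := OK.of (m := 7) (by norm_num) (H := 128) gb7 (by decide +kernel)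
noncomputable def m8_0 : ℕ := 0xfc89c63935e11a
noncomputable def m8_1 : ℕ := 0xd21a52c00000008403ed2
noncomputable def m8_2 : ℕ := 0x1ea20003a10000152a0003b90
noncomputable def m8_3 : ℕ := 0x1804801a004c004004401a0004
noncomputable def m8_4 : ℕ := 0x400301020810704181000218200
noncomputable def m8_5 : ℕ := 0x2400910200010000400000408000
noncomputable def m8_6 : ℕ := 0x2200891220420420508000210011
noncomputable def m8_7 : ℕ := 0x20498324000832444090000c812
noncomputable def m8_8 : ℕ := 0xa08383020830206001000210207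
noncomputable def m8_9 : ℕ := 0x88051018002801e80560004004
noncomputable def m8_10 : ℕ := 0x13870001e30000353f000295f
noncomputable def m8_11 : ℕ := 0xe61ad1d00000008448e42
noncomputable def m8_12 : ℕ := 0xfc8146fb2c483f
noncomputable def m8 : Net := .cons 56 m8_0 <| .cons 28 m8_1 <| .cons 14 m8_2 <| .cons 7 m8_3 <| .cons 4 m8_4 <| .cons 2 m8_5 <| .cons 1 m8_6 <| .cons 2 m8_7 <| .cons 4 m8_8 <| .cons 7 m8_9 <| .cons 14 m8_10 <| .cons 28 m8_11 <| .cons 56 m8_12 <| .nil
noncomputable def Lb8 : List Net := m8 :: Lb7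
theorem gb8 : Good 112 B2 Lb8 :=
  Good.word (m := 7) (by norm_num) gb7 (w := [4,3]) (by decide +kernel)
noncomputable def Tm8 : H88.Tr := (.leaf (nat_lit 0) (nat_lit 0xfff1540448e3f0381e80b060f4140000fff2023b87088ae67919490201a80000000a58cfc34519c0c7fba28d15150000ff01d871ddd44e5d60cb2c4d8e900000f0fb5e62f81848c8a7e59c9678e00000ccce45f5e7fc55e90c20686e39480000aaa309cb74a6de50eaa079133f27))
noncomputable def lm8 : Lt := ⟨Tm8, m8⟩
theorem om8 : OK 112 B2 lm8 := OK.of (m := 7) (by norm_num) (H := 128) gb8 (by decide +kernel)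
noncomputable def m9_0 : ℕ := 0xd78518cc94c90
noncomputable def m9_1 : ℕ := 0xc861cca000000061aa1cc
noncomputable def m9_2 : ℕ := 0x294a000388c0001e880000294
noncomputable def m9_3 : ℕ := 0x1c80780000060005804201a0068
noncomputable def m9_4 : ℕ := 0x180840c080000c0c1020810200
noncomputable def m9_5 : ℕ := 0x800204880200009000000802
noncomputable def m9_6 : ℕ := 0x40805285088402048900210a84
noncomputable def m9_7 : ℕ := 0x20409810000003024c1002048002
noncomputable def m9_8 : ℕ := 0x804382080818108181820a18181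
noncomputable def m9_9 : ℕ := 0x18805f004806201d800801b806c
noncomputable def m9_10 : ℕ := 0xb4f00035f100016400000582
noncomputable def m9_11 : ℕ := 0xc1690ce000000063a2322
noncomputable def m9_12 : ℕ := 0xd7c6845a04125
noncomputable def m9 : Net := .cons 56 m9_0 <| .cons 28 m9_1 <| .cons 14 m9_2 <| .cons 7 m9_3 <| .cons 4 m9_4 <| .cons 2 m9_5 <| .cons 1 m9_6 <| .cons 2 m9_7 <| .cons 4 m9_8 <| .cons 7 m9_9 <| .cons 14 m9_10 <| .cons 28 m9_11 <| .cons 56 m9_12 <| .nil
noncomputable def Lb9 : List Net := m9 :: Lb8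
theorem gb9 : Good 112 B2 Lb9 :=
  Good.word (m := 7) (by norm_num) gb8 (w := [3,0,3]) (by decide +kernel)
noncomputable def Tm9 : H88.Tr := (.leaf (nat_lit 0) (nat_lit 0xfff4645522e7d08d7031240900460000fff10aea4c108e588b2208e605a800000000e49ec8946b2278da75d6ac260000ff0d72b031005f86c64b37dd1c9a0000f0f0c629cf4875d3b00b9ec336170000cccfd8aca979d913e93469818e940000aaa19d516d83fe97ae9ea3308622))
noncomputable def lm9 : Lt := ⟨Tm9, m9⟩
theorem om9 : OK 112 B2 lm9 := OK.of (m := 7) (by norm_num) (H := 128) gb9 (by decide +kernel)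
noncomputable def m10_0 : ℕ := 0xcb99295455a000
noncomputable def m10_1 : ℕ := 0xeaeaa04000000021b9c00
noncomputable def m10_2 : ℕ := 0x20c4000128000038080000204
noncomputable def m10_3 : ℕ := 0x8001c009000c004000a001005c
noncomputable def m10_4 : ℕ := 0x181000c0008200100000008084
noncomputable def m10_5 : ℕ := 0x2040010000080000000000000110
noncomputable def m10_6 : ℕ := 0x2040010000080000142000040894
noncomputable def m10_7 : ℕ := 0x20489900600983244c0132200110
noncomputable def m10_8 : ℕ := 0x21c1010c1000300100000a08085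
noncomputable def m10_9 : ℕ := 0xc401c009801900c000a001005c
noncomputable def m10_10 : ℕ := 0x30cc00016a000038080000304
noncomputable def m10_11 : ℕ := 0xeaeaa06000000021b9c00
noncomputable def m10_12 : ℕ := 0xcb99295455a000
noncomputable def m10 : Net := .cons 56 m10_0 <| .cons 28 m10_1 <| .cons 14 m10_2 <| .cons 7 m10_3 <| .cons 4 m10_4 <| .cons 2 m10_5 <| .cons 1 m10_6 <| .cons 2 m10_7 <| .cons 4 m10_8 <| .cons 7 m10_9 <| .cons 14 m10_10 <| .cons 28 m10_11 <| .cons 56 m10_12 <| .nil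
noncomputable def Lb10 : List Net := m10 :: Lb9
theorem gb10 : Good 112 B2 Lb10 :=
  Good.word (m := 7) (by norm_num) gb9 (w := [3,3]) (by decide +kernel)
noncomputable def Tm10 : H88.Tr := (.leaf (nat_lit 0) (nat_lit 0xfffc5c5694d22a499145140229800000fff2832b2625d0d66202c054848500000006fef50009f39f0c2d6f2390240000ff085ca1eb8d458b7714e36aeb000000f0f35051b8fcc78e3e602c9a456d0000cccbcd969565c5b88e199464f1710000aaa5a8219d0796c975433ef63237))
noncomputable def lm10 : Lt := ⟨Tm10, m10⟩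
theorem om10 : OK 112 B2 lm10 := OK.of (m := 7) (by norm_num) (H := 128) gb10 (by decide +kernel)
noncomputable def m11_0 : ℕ := 0x5b508423812000
noncomputable def m11_1 : ℕ := 0x33b15120000000fa6e750
noncomputable def m11_2 : ℕ := 0x203800014800003e120001800
noncomputable def m11_3 : ℕ := 0x480480000044008001000a0008
noncomputable def m11_4 : ℕ := 0x400080080008306040830410004
noncomputable def m11_5 : ℕ := 0x2040900200800200081020040110
noncomputable def m11_6 : ℕ := 0x2240891201029108442010044210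
noncomputable def m11_7 : ℕ := 0x240900224898224080910440012
noncomputable def m11_8 : ℕ := 0xa04083080008306041810410006
noncomputable def m11_9 : ℕ := 0x1c8048000005c008002e01a0056
noncomputable def m11_10 : ℕ := 0x243c00014800003a320001800
noncomputable def m11_11 : ℕ := 0x33b15120000000fa6e170
noncomputable def m11_12 : ℕ := 0x5b508423812000
noncomputable def m11 : Net := .cons 56 m11_0 <| .cons 28 m11_1 <| .cons 14 m11_2 <| .cons 7 m11_3 <| .cons 4 m11_4 <| .cons 2 m11_5 <| .cons 1 m11_6 <| .cons 2 m11_7 <| .cons 4 m11_8 <| .cons 7 m11_9 <| .cons 14 m11_10 <| .cons 28 m11_11 <| .cons 56 m11_12 <| .nil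
noncomputable def Lb11 : List Net := m11 :: Lb10
theorem gb11 : Good 112 B2 Lb11 :=
  Good.word (m := 7) (by norm_num) gb10 (w := [2,0,3]) (by decide +kernel)
noncomputable def Tm11 : H88.Tr := (.leaf (nat_lit 0) (nat_lit 0xfffaeab468438c51928483a111000000fff017093698722e4c4b2298440400000007f9ec9c2cf59ee201685581500000ff0efc1bc18c275b4fa0ac0cf8600000f0f9e1a9dbe027ca1107947f26c40000ccc1d89df2589a073f3adf5588820000aaafaeb9a22af90074c98c382fba))
noncomputable def lm11 : Lt := ⟨Tm11, m11⟩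
theorem om11 : OK 112 B2 lm11 := OK.of (m := 7) (by norm_num) (H := 128) gb11 (by decide +kernel)
noncomputable def D1_0 : ℕ := 0xfffffffffffffffffffffffff
noncomputable def R1_0 : ℕ := 0x27c7
noncomputable def S1_0 : H88.Tr := (.leaf (nat_lit 0) (nat_lit 0xd44c4f910567c283ad4caa509000000065d250c848ea7be06e9d921ea00000005bca0802f4d3db4fd51f4017e))
noncomputable def v1_0 : Lv := ⟨(nat_lit 9), D1_0, 100, [ln4, ln2, lnx, lnu, ln5, lnq, ln3, ln6], [2,3,5,6,2,4,5,6,0,1], S1_0, true, (nat_lit 0), (nat_lit 0), R1_0, 1, 10, [1]⟩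
noncomputable def D1_1 : ℕ := 0xde1fffdbb7f2a5eefd7dff9ff
noncomputable def S1_1 : H88.Tr := (.leaf (nat_lit 0) (nat_lit 0xe10209a000025440428209200000000d004c00011f08062c92d2b8200000000d4074409b43221843c50d9100))
noncomputable def v1_1 : Lv := ⟨(nat_lit 87), D1_1, 77, [ln2, ln5, ln3, ln4, ln8, ln6, ln7], [0,2,1,3,0,1,4,2,0], S1_1, false, (nat_lit 0), (nat_lit 1), 0, 0, 0, []⟩
noncomputable def D1_2 : ℕ := 0xde1796d93572a5eef57cfb874
noncomputable def S1_2 : H88.Tr := (.leaf (nat_lit 0) (nat_lit 0x80002080060800a804000010000000056048000111004a0043cf082000000001415900130022140610840804))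
noncomputable def v1_2 : Lv := ⟨(nat_lit 74), D1_2, 60, [ln5, ln6, ln8, ln4, ln7], [0,3,0,1,2,0,4,0], S1_2, false, (nat_lit 0), (nat_lit 1), 0, 0, 0, []⟩
noncomputable def D1_3 : ℕ := 0x60496110570a1e82140f2054
noncomputable def S1_3 : H88.Tr := (.leaf (nat_lit 0) (nat_lit 0x400040004108000004010040000000002009001012000600100a2000))
noncomputable def v1_3 : Lv := ⟨(nat_lit 18), D1_3, 32, [ln7, ln6, ln8], [0,1,0,2,1,0,1], S1_3, false, (nat_lit 0), (nat_lit 1), 0, 0, 0, []⟩
noncomputable def D1_4 : ℕ := 0x102000000010000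
noncomputable def S1_4 : H88.Tr := (.leaf (nat_lit 0) (nat_lit 0))
noncomputable def v1_4 : Lv := ⟨(nat_lit 49), D1_4, 3, [ln8], [0,0], S1_4, false, (nat_lit 0), (nat_lit 1), 0, 0, 0, []⟩
noncomputable def L1 : List Lv := [v1_0, v1_1, v1_2, v1_3, v1_4]
theorem lok1 : LOK 112 (H79.RepHS.ρ).range L1 :=
  (LOK.cons (AOK.cons on4 (AOK.cons on2 (AOK.cons onx (AOK.cons onu (AOK.cons on5 (AOK.cons onq (AOK.cons on3 (AOK.cons on6 AOK.nil))))))))
  (LOK.cons (AOK.cons on2 (AOK.cons on5 (AOK.cons on3 (AOK.cons on4 (AOK.cons on8 (AOK.cons on6 (AOK.cons on7 AOK.nil)))))))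
  (LOK.cons (AOK.cons on5 (AOK.cons on6 (AOK.cons on8 (AOK.cons on4 (AOK.cons on7 AOK.nil)))))
  (LOK.cons (AOK.cons on7 (AOK.cons on6 (AOK.cons on8 AOK.nil)))
  (LOK.cons (AOK.cons on8 AOK.nil)
  LOK.nil)))))
noncomputable def V1 : List (List Lt) := [[]]
noncomputable def F1 (X : ℕ) : Bool := search lnx.T (nat_lit 9) X 7 (fin lnx.T (revB L1 []) V1 [80]) L1 [] []
noncomputable def D2_0 : ℕ := 0xfffffffffffffffffffffffff
noncomputable def R2_0 : ℕ := 0x2000010140409b9df
noncomputable def S2_0 : H88.Tr := (.leaf (nat_lit 0) (nat_lit 0xb314a5000fd8048d060b92bc6000000080c6350c91b17a708ca25afe0000000011e8277656a5f6ac2f4700e80))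
noncomputable def v2_0 : Lv := ⟨(nat_lit 65), D2_0, 100, [lnx, lm6, lm5, lnq, lnu, lm3, lm4, lm7], [0,3,4,0,5,1,2,4,5], S2_0, true, (nat_lit 0), (nat_lit 0), R2_0, 1, 4, [1]⟩
noncomputable def D2_1 : ℕ := 0xf9adffdadfdebbc7bfffdbfe4
noncomputable def S2_1 : H88.Tr := (.leaf (nat_lit 0) (nat_lit 0x682103085746104018ae0074000000000824918a000880020906002a4000000090099050c44e0bc58074909c0))
noncomputable def v2_1 : Lv := ⟨(nat_lit 82), D2_1, 77, [lm4, lm3, lm6, lm8, lm10, lm5, lm7, lm9], [0,1,0,3,1,0,5,1,0], S2_1, false, (nat_lit 0), (nat_lit 1), 0, 0, 0, []⟩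
noncomputable def D2_2 : ℕ := 0x61000210001401840002401b
noncomputable def S2_2 : H88.Tr := (.leaf (nat_lit 0) (nat_lit 0x100080000040010000000001000000000001800002001000000000200002000010010400020008))
noncomputable def v2_2 : Lv := ⟨(nat_lit 94), D2_2, 16, [lm9, lm5, lm6, lm10, lm7, lm8, lm11], [1,2,0,4,6], S2_2, false, (nat_lit 0), (nat_lit 1), 0, 0, 0, []⟩
noncomputable def D2_3 : ℕ := 0x42000400200420000000000
noncomputable def S2_3 : H88.Tr := (.leaf (nat_lit 0) (nat_lit 0x40000000000000000000040000000000020000000000))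
noncomputable def v2_3 : Lv := ⟨(nat_lit 70), D2_3, 6, [lm7, lm8, lm9], [0,1,0], S2_3, false, (nat_lit 0), (nat_lit 1), 0, 0, 0, []⟩
noncomputable def D2_4 : ℕ := 0x80000000100000860040000
noncomputable def S2_4 : H88.Tr := (.leaf (nat_lit 0) (nat_lit 0x10000000000000000000000000000000000000040040000))
noncomputable def v2_4 : Lv := ⟨(nat_lit 91), D2_4, 6, [lm9, lm10, lm11], [0,0,1,2], S2_4, false, (nat_lit 0), (nat_lit 1), 0, 0, 0, []⟩
noncomputable def D2_5 : ℕ := 0x8000080a0003100100404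
noncomputable def R2_5 : ℕ := 0xffdffdb7fffbfffffffffffff
noncomputable def S2_5 : H88.Tr := (.leaf (nat_lit 0) (nat_lit 0x800000080000000000404))
noncomputable def v2_5 : Lv := ⟨(nat_lit 20), D2_5, 10, [lm10, lm11], [0,1,0,1,0], S2_5, true, (nat_lit 0), (nat_lit 0), R2_5, 0, 0, [1]⟩
noncomputable def L2 : List Lv := [v2_0, v2_1, v2_2, v2_3, v2_4, v2_5]
theorem lok2 : LOK 112 B2 L2 :=
  (LOK.cons (AOK.cons pnx (AOK.cons om6 (AOK.cons om5 (AOK.cons pnq (AOK.cons pnu (AOK.cons om3 (AOK.cons om4 (AOK.cons om7 AOK.nil))))))))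
  (LOK.cons (AOK.cons om4 (AOK.cons om3 (AOK.cons om6 (AOK.cons om8 (AOK.cons om10 (AOK.cons om5 (AOK.cons om7 (AOK.cons om9 AOK.nil))))))))
  (LOK.cons (AOK.cons om9 (AOK.cons om5 (AOK.cons om6 (AOK.cons om10 (AOK.cons om7 (AOK.cons om8 (AOK.cons om11 AOK.nil)))))))
  (LOK.cons (AOK.cons om7 (AOK.cons om8 (AOK.cons om9 AOK.nil)))
  (LOK.cons (AOK.cons om9 (AOK.cons om10 (AOK.cons om11 AOK.nil)))
  (LOK.cons (AOK.cons om10 (AOK.cons om11 AOK.nil))
  LOK.nil))))))
noncomputable def V2 : List (List Lt) := wds [lnq, lnc1] lnq [[],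
  [1,1,0,0,0],
  [1,1,1,0,0],
  [1,1,1,1,0],
  [1,0,0,0,0]]
theorem vok2 : VOK 112 (H79.RepHS.ρ).range V2 := VOK.wds (AOK.cons onq (AOK.cons onc1 AOK.nil)) onq _
noncomputable def F2 (X : ℕ) : Bool := search lnq.T (nat_lit 65) X 7 (fin lnq.T (revB L2 []) V2 [27]) L2 [] []
def Rels : List (List ℕ) := [[0,2,2,1,0,2,2,1,0,2,2,1],
  [0,1,2,0,1,2,0,1,2,0,1,2,0,1,2,0,1,2,0,1,2],
  [0,0,1,2,1,0,0,1,2,1,0,0,1,2,1,0,0,1,2,1,0,0,1,2,1,0,0,1,2,1,0,0,1,2,1,0,0,1,2,1]]
noncomputable def AL : List (ℕ × List Lt) := [(1, [lnu]), (2, [lnu, lnq, lnq, lnq, lnc1, lnc1, lnc1, lnq, lnq])]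
noncomputable def CR (k j : ℕ) : Bool := candRow lnx.T lnq.T lnu.T lnq.T [49,18,74,87,9] V2 AL [26] Rels k j
noncomputable def ns_0 : ℕ := 0xffed9145dacf8
noncomputable def ns_1 : ℕ := 0x21b001600000003aefd70
noncomputable def ns_2 : ℕ := 0x186a00001180000092000209a
noncomputable def ns_3 : ℕ := 0x11003a00e0076002803a01d001e
noncomputable def ns_4 : ℕ := 0x418500180050a080050418203
noncomputable def ns_5 : ℕ := 0x2000100000081200000120008102
noncomputable def ns_6 : ℕ := 0x22140812800a9102042112050201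
noncomputable def ns_7 : ℕ := 0x220c892240c01324000132200110
noncomputable def ns_8 : ℕ := 0x40c004060810200083810c14001
noncomputable def ns_9 : ℕ := 0x1d403f007c06f004803401f403c
noncomputable def ns_10 : ℕ := 0x1b70000068c0000a820000c9b
noncomputable def ns_11 : ℕ := 0x28387060000000aaeab1b
noncomputable def ns_12 : ℕ := 0xff7f25ffa0278
noncomputable def ns : Net := .cons 56 ns_0 <| .cons 28 ns_1 <| .cons 14 ns_2 <| .cons 7 ns_3 <| .cons 4 ns_4 <| .cons 2 ns_5 <| .cons 1 ns_6 <| .cons 2 ns_7 <| .cons 4 ns_8 <| .cons 7 ns_9 <| .cons 14 ns_10 <| .cons 28 ns_11 <| .cons 56 ns_12 <| .nil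
noncomputable def lns : Lt := ⟨.leaf 0 0, ns⟩
theorem lb1_0 : lbLv 7 112 v1_0 [v1_1, v1_2, v1_3, v1_4] = true := by decide +kernel
theorem st1_0 : statLv lnx 7 112 v1_0 [] = true := by decide +kernel
theorem lb1_1 : lbLv 7 112 v1_1 [v1_2, v1_3, v1_4] = true := by decide +kernel
theorem st1_1 : statLv lnx 7 112 v1_1 [v1_0.b] = true := by decide +kernel
theorem lb1_2 : lbLv 7 112 v1_2 [v1_3, v1_4] = true := by decide +kernel
theorem st1_2 : statLv lnx 7 112 v1_2 [v1_1.b, v1_0.b] = true := by decide +kernel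
theorem lb1_3 : lbLv 7 112 v1_3 [v1_4] = true := by decide +kernel
theorem st1_3 : statLv lnx 7 112 v1_3 [v1_2.b, v1_1.b, v1_0.b] = true := by decide +kernel
theorem lb1_4 : lbLv 7 112 v1_4 [] = true := by decide +kernel
theorem st1_4 : statLv lnx 7 112 v1_4 [v1_3.b, v1_2.b, v1_1.b, v1_0.b] = true := by decide +kernel
theorem s1_0 : F1 (ival 0 112) = true := by decide +kernel
theorem lb2_0 : lbLv 7 112 v2_0 [v2_1, v2_2, v2_3, v2_4, v2_5] = true := by decide +kernel
theorem st2_0 : statLv lnq 7 112 v2_0 [] = true := by decide +kernel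
theorem lb2_1 : lbLv 7 112 v2_1 [v2_2, v2_3, v2_4, v2_5] = true := by decide +kernel
theorem st2_1 : statLv lnq 7 112 v2_1 [v2_0.b] = true := by decide +kernel
theorem lb2_2 : lbLv 7 112 v2_2 [v2_3, v2_4, v2_5] = true := by decide +kernel
theorem st2_2 : statLv lnq 7 112 v2_2 [v2_1.b, v2_0.b] = true := by decide +kernel
theorem lb2_3 : lbLv 7 112 v2_3 [v2_4, v2_5] = true := by decide +kernel
theorem st2_3 : statLv lnq 7 112 v2_3 [v2_2.b, v2_1.b, v2_0.b] = true := by decide +kernel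
theorem lb2_4 : lbLv 7 112 v2_4 [v2_5] = true := by decide +kernel
theorem st2_4 : statLv lnq 7 112 v2_4 [v2_3.b, v2_2.b, v2_1.b, v2_0.b] = true := by decide +kernel
theorem lb2_5 : lbLv 7 112 v2_5 [] = true := by decide +kernel
theorem st2_5 : statLv lnq 7 112 v2_5 [v2_4.b, v2_3.b, v2_2.b, v2_1.b, v2_0.b] = true := by decide +kernel
theorem s2_0 : F2 (ival 0 112) = true := by decide +kernel
theorem bas : basic 112 11 3 1 2 5 lnx lnq lnu lnq [49,18,74,87,9] [1,2] [26] Rels = true := by decide +kernel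
theorem c1_0 : allN (fun i => CR 1 (0 + i)) 5 = true := by decide +kernel
theorem c2_0 : allN (fun i => CR 2 (0 + i)) 5 = true := by decide +kernel
theorem vs : lns.r.valid 112 = true := by decide +kernel
theorem e1 : eqN 7 112 [lns, lnx] (List.replicate 2 lnx ++ [lns]) = true := by decide +kernel
theorem e2 : eqN 7 112 [lns, lnq] [lnq, lns] = true := by decide +kernel
theorem e3 : eqN 7 112 [lns, lnu] ([lnu, lnq, lnq, lnq, lnc1, lnc1, lnc1, lnq, lnq] ++ [lns]) = true := by decide +kernel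
theorem e4 : niChk lnx.T lnq.T lnu.T lnq.T 5 2 [lnu, lnq, lnq, lnq, lnc1, lnc1, lnc1, lnq, lnq] V2 [26] = true := by decide +kernel
theorem lb1 : LB 7 112 L1 := ⟨lb1_0, ⟨lb1_1, ⟨lb1_2, ⟨lb1_3, ⟨lb1_4, trivial⟩⟩⟩⟩⟩
theorem st1 : Stat lnx 7 112 L1 [] := ⟨st1_0, ⟨st1_1, ⟨st1_2, ⟨st1_3, ⟨st1_4, trivial⟩⟩⟩⟩⟩
theorem cov1 : CovX F1 112 := ((CovX.zero F1).step s1_0)
theorem lb2 : LB 7 112 L2 := ⟨lb2_0, ⟨lb2_1, ⟨lb2_2, ⟨lb2_3, ⟨lb2_4, ⟨lb2_5, trivial⟩⟩⟩⟩⟩⟩
theorem st2 : Stat lnq 7 112 L2 [] := ⟨st2_0, ⟨st2_1, ⟨st2_2, ⟨st2_3, ⟨st2_4, ⟨st2_5, trivial⟩⟩⟩⟩⟩⟩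
theorem cov2 : CovX F2 112 := ((CovX.zero F2).step s2_0)
theorem fin0 : Finite (↥Cfsg.Spor.HS) := Nat.finite_of_card_ne_zero (by rw [H79.RepHS.card]; norm_num)
theorem gen2 : B2 = (H79.RepHS.ρ).range := by
  have := fin0
  have := finite_range (H79.RepHS.ρ)
  exact eq_of_lb le2 lok2 lb2 (by rw [card_range (H79.RepHS.inj), H79.RepHS.card]; decide +kernel)
theorem hB : (H79.RepHS.ρ).range ≤ supp 112 := gen2 ▸ sup2
theorem ch1 : Ch 112 L1 (H79.RepHS.ρ).range := by
  have := fin0
  have := finite_range (H79.RepHS.ρ)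
  exact lb_exact L1 _ lok1 lb1 (by rw [card_range (H79.RepHS.inj), H79.RepHS.card]; decide +kernel)
theorem ch2 : Ch 112 L2 (H79.RepHS.ρ).range := by
  have := fin0
  have := finite_range (H79.RepHS.ρ)
  exact lb_exact L2 _ (lok2.mono le2) lb2 (by rw [card_range (H79.RepHS.inj), H79.RepHS.card]; decide +kernel)
theorem base : IsBase 112 (H79.RepHS.ρ).range [49,18,74,87,9] := ch1.isBase
theorem cert : Cert (H79.RepHS.ρ) 112 11 3 1 2 5 lnx lnq lnu lnq [49,18,74,87,9] [1,2] [26] Rels V2 AL :=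
  ⟨H79.RepHS.inj, by norm_num, by rw [H79.RepHS.card]; norm_num, base, onx, onq, onu, onq, vok2, gen2.ge,
   cent_cases (m := 7) (by norm_num) hB ch1 onx (VOK.cons AOK.nil VOK.nil) st1 (by decide +kernel) cov1,
   cent_cases (m := 7) (by norm_num) hB ch2 onq vok2 st2 (by decide +kernel) cov2,
   List.forall_mem_cons.2 ⟨AOK.cons onu AOK.nil, List.forall_mem_cons.2 ⟨(AOK.cons onu (AOK.cons onq (AOK.cons onq (AOK.cons onq (AOK.cons onc1 (AOK.cons onc1 (AOK.cons onc1 (AOK.cons onq (AOK.cons onq AOK.nil))))))))), fun _ h => absurd h List.not_mem_nil⟩⟩,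
   bas, (List.forall_mem_cons.2 ⟨(show CovN (CR 1) 5 from ((CovN.zero _).step c1_0)), (List.forall_mem_cons.2 ⟨(show CovN (CR 2) 5 from ((CovN.zero _).step c2_0)), (fun _ h => absurd h List.not_mem_nil)⟩)⟩)⟩
theorem out : Nat.card (Cfsg.Out (↥Cfsg.Spor.HS)) = 2 := by
  have := fin0
  exact cert.out_two_net (d := 7) (by norm_num) vs e1 e2 e3 e4
end H79.OutHS
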