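import Cfsg.Agent.H14.CBSpec

/-! Tower CB (S1308), job Sq. -/

set_option autoImplicit false

namespace H79.CbSq

open Cfsg Subgroup H14 H98 H1.Gold H31.S2 H14.GC H14.FE H14.NF H14.CB
open scoped commutatorElement

universe u

theorem jobSq : JSq.{u} := by
  intro act G _ _ Q E tg Q₁ T P S ln sec k hk hS
  have EP : E ≤ P := ln.pg.lt.le
  have kc : ∀ y ∈ P, k * y * k⁻¹ = y := fun y hy => by
    rw [← mem_centralizer_iff.1 hk y hy, mul_inv_cancel_right]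
  have pc : ∀ y ∈ P, ∀ e ∈ E, y * e * y⁻¹ = e := fun y hy e he => by
    rw [← mem_centralizer_iff.1 (ln.pg.le hy).2 e he, mul_inv_cancel_right]
  obtain ⟨g, -, hg⟩ := ln.col.p2
  have elT : El T := by
    rw [hg]
    rintro _ ⟨e, he, rfl⟩
    rw [← map_mul, tg.el e he, map_one]
  have fT : Four T := hg ▸ tg.four.cj g
  have nd : ∀ y ∈ P, y ∉ E → ∀ t ∈ T, t * y * t⁻¹ = y → t = 1 := fun y hy hn t ht e => by
    by_contra h1
    exact ln.pg.nd y hy hn t ht h1 (by rw [commutatorElement_def, e, mul_inv_cancel])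
  have TE : ∀ t ∈ T, t ∈ E → t = 1 := fun t ht he => by
    obtain ⟨y, hy, hn⟩ := SetLike.exists_of_lt ln.pg.lt
    refine nd y hy hn t ht ?_
    rw [mem_centralizer_iff.1 (ln.pg.le hy).2 t he, mul_inv_cancel_right]
  have TP : T ≤ nor P := fun t ht => mem_normalizer_fintype fun y hy => by
    rw [show t * y * t⁻¹ = ⁅t, y⁆ * y by rw [commutatorElement_def, inv_mul_cancel_right]]
    exact mul_mem (EP (ln.pg.cm t ht y hy)) hy
  have s1 : ∀ t ∈ T, t ≠ 1 → ∃ y ∈ P, y ∉ E ∧ k * t * k⁻¹ = t * y ∧ ⁅t, k * k⁆ = ⁅t, y⁆ := by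
    intro t ht h1
    have hs : k * t * k⁻¹ ∈ S := hS ⟨t, ht, rfl⟩
    have hs' : k * t * k⁻¹ ∈ T ⊔ P := sup_comm P T ▸ sec.le hs
    obtain ⟨t1, ht1, y, hy, e⟩ := (mem_sup_left_norm TP).1 hs'
    have yE : y ∉ E := fun h => by
      have h2 : k * t * k⁻¹ ∈ E := sec.inf ⟨hs, by
        rw [e]; exact mul_mem (mem_sup_right ht1) (mem_sup_left h)⟩
      have h3 := kc _ (EP h2)
      have h4 : k * t * k⁻¹ = t := by
        calc k * t * k⁻¹ = k⁻¹ * (k * (k * t * k⁻¹) * k⁻¹) * k := by group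
          _ = t := by rw [h3]; group
      exact h1 (TE t ht (h4 ▸ h2))
    have c1 : t1 * y * t1⁻¹ = t * y * t⁻¹ := by
      have a1 := kc _ (conj_mem_of_mem_normalizer (TP ht) hy)
      calc t1 * y * t1⁻¹ = (t1 * y) * y * (t1 * y)⁻¹ := by group
        _ = (k * t * k⁻¹) * (k * y * k⁻¹) * (k * t * k⁻¹)⁻¹ := by rw [kc y hy, e]
        _ = k * (t * y * t⁻¹) * k⁻¹ := by group
        _ = t * y * t⁻¹ := a1
    have c2 : t⁻¹ * t1 = 1 := nd y hy yE _ (mul_mem (inv_mem ht) ht1) (by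
      rw [show t⁻¹ * t1 * y * (t⁻¹ * t1)⁻¹ = t⁻¹ * (t1 * y * t1⁻¹) * t by group, c1]; group)
    obtain rfl : t = t1 := inv_mul_eq_one.1 c2
    refine ⟨y, hy, yE, e, ?_⟩
    have ti : t⁻¹ = t := inv_eq_of_mul_eq_one_left (elT t ht)
    have c3 : t * y * t⁻¹ = y⁻¹ := by
      have := sec.el _ hs
      rw [e, ← mul_assoc] at this
      rw [ti]
      exact eq_inv_of_mul_eq_one_left this
    have c4 : ⁅t, y⁆ = (y * y)⁻¹ := by rw [commutatorElement_def, c3, mul_inv_rev]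
    have c5 : k * k * t * (k * k)⁻¹ = t * (y * y) := by
      calc k * k * t * (k * k)⁻¹ = k * (k * t * k⁻¹) * k⁻¹ := by group
        _ = k * (t * y) * k⁻¹ := by rw [e]
        _ = (k * t * k⁻¹) * (k * y * k⁻¹) := by group
        _ = t * (y * y) := by rw [e, kc y hy, mul_assoc]
    have c6 : ⁅t, k * k⁆ = t * ⁅t, y⁆ * t⁻¹ := by
      rw [c4, show ⁅t, k * k⁆ = t * (k * k * t * (k * k)⁻¹)⁻¹ by
        simp only [commutatorElement_def, mul_inv_rev, inv_inv, mul_assoc], c5]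
      group
    rw [c6, ← mem_centralizer_iff.1 (ln.col.comm ht) _ (ln.pg.cm t ht y hy), mul_inv_cancel_right]
  have kE : k * k ∈ cen E := centralizer_le EP (mul_mem hk hk)
  obtain ⟨y0, hy0, h0⟩ := act G Q E tg Q₁ T P ln (k * k) kE fun t ht => by
    by_cases h1 : t = 1
    · rw [h1, commutatorElement_one_left]; exact one_mem E
    · obtain ⟨y, hy, -, -, e⟩ := s1 t ht h1
      rw [e]; exact ln.pg.cm t ht y hy
  have s2 : ∀ t ∈ T, t ≠ 1 → ∃ y ∈ P, y ∉ E ∧ k * t * k⁻¹ = t * y ∧ y0⁻¹ * y ∈ E := by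
    intro t ht h1
    obtain ⟨y, hy, yE, e, c⟩ := s1 t ht h1
    refine ⟨y, hy, yE, e, by_contra fun hn => h1 (nd _ (mul_mem (inv_mem hy0) hy) hn t ht ?_)⟩
    calc t * (y0⁻¹ * y) * t⁻¹ = (⁅t, y0⁆ * y0)⁻¹ * (⁅t, y⁆ * y) := by
          simp only [commutatorElement_def]; group
      _ = y0⁻¹ * y := by rw [← h0 t ht, c]; group
  obtain ⟨t1, m1, t2, m2, i1, i2, ne, -⟩ := fT
  have n3 : t1 * t2 ≠ 1 := fun e => ne (mul_left_cancel (i1.2.trans e.symm))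
  obtain ⟨y1, p1, q1, e1, -⟩ := s2 t1 m1 i1.1
  obtain ⟨y2, p2, -, e2, f2⟩ := s2 t2 m2 i2.1
  obtain ⟨y3, p3, -, e3, f3⟩ := s2 _ (mul_mem m1 m2) n3
  have e4 : t1 * t2 * y3 = t1 * y1 * (t2 * y2) := by
    rw [← e1, ← e2, ← e3]; group
  have e5 : y1 = ⁅t2⁻¹, y1⁆⁻¹ * (y0 * ((y0⁻¹ * y3) * (y0⁻¹ * y2)⁻¹) * y0⁻¹) := by
    have : y3 = t2⁻¹ * y1 * t2 * y2 := by
      calc y3 = (t1 * t2)⁻¹ * (t1 * t2 * y3) := by group
        _ = _ := by rw [e4]; group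
    rw [this, commutatorElement_def]; group
  rw [pc y0 hy0 _ (mul_mem f3 (inv_mem f2))] at e5
  exact q1 (e5 ▸ mul_mem (inv_mem (ln.pg.cm _ (inv_mem m2) y1 p1)) (mul_mem f3 (inv_mem f2)))

end H79.CbSq
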