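import Cfsg.Agent.H79.UMJ
import Cfsg.Agent.H76.SAFD

/-! STD-UM (row S3128), job FD: the image of `Q` under an isomorphism of `2`-subgroups of `Aut X`. -/

set_option autoImplicit false
set_option linter.unusedSectionVars false

namespace H79.UMD

open H64.SG (O2 Syl Cz Cs Ns Is2 Inv2 IsO2 mem_Cs mem_Cz is2_of_sq)
open Matrix Subgroup H67 H67.UA H79.UMJ
open H67.SA (St cI cm mem_cI mem_St_of_finite)
open H76.SAFD (conj_map cm_conj conj_cm)

section Gen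
variable {X : Type} [Group X] [Finite X] [GA.Dat X] [GA.FO X] [GA.FB X]

theorem mem_of_conj {H : Subgroup X} (hH : H ≤ GA.UU X) {a : X} (ha : Is2 a)
    (h : MulAut.conj a ∈ cI H) : a ∈ H := by
  obtain ⟨b, hb, e⟩ := mem_cI.1 h
  rwa [GA.conj_inj ha (GA.is2_of_UU (hH hb)) e]

theorem mem_cU {D : Subgroup (MulAut X)} (hD : IsPGroup 2 D) (hU : cI (GA.UU X) ≤ D)
    {β : MulAut X} (hβ : β ∈ D) (h : GA.out X β = 1) : β ∈ cI (GA.UU X) := by
  obtain ⟨s, -, rfl⟩ := GA.inner_of_out h (H64.SG.isPGroup_iff_is2.1 hD β hβ)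
  have : H98.IsSyl 2 (cI (GA.UU X)) (cI ⊤) := (H64.SG.syl_iff.1 GA.syl_UU).map _
  exact (this.eq_of_le (hD.to_inf_left (K := cI ⊤)) (le_inf hU (map_mono le_top)) inf_le_right).le
    ⟨hβ, mem_map_of_mem _ trivial⟩

theorem St_of_mem {D : Subgroup (MulAut X)} (hD : IsPGroup 2 D) (hU : cI (GA.UU X) ≤ D)
    {β : MulAut X} (hβ : β ∈ D) : β ∈ St (GA.UU X) := mem_St_of_finite fun u hu =>
  mem_of_conj le_rfl ((GA.is2_of_UU hu).map β.toMonoidHom) (mem_cU hD hU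
    (conj_map β u ▸ mul_mem (mul_mem hβ (hU (mem_map_of_mem _ hu))) (inv_mem hβ)) (GA.out_conj _))

end Gen

variable {n : ℕ} {K : Type} [Field K] [StarRing K] [CharP K 2] [Finite K] [hp : Par n K] [Base n K]

theorem memZ {g : XU n K} : g ∈ GA.ZZ (XU n K) ↔ ∀ v, Wk 1 (nl g v) :=
  FV.mem_M 1 (by have := hp.five; omega) g

theorem nlU {g : XU n K} (h : g ∈ GA.UU (XU n K)) {k : ℕ} {v : Vn n K} (hv : Wk (k + 1) v) :
    Wk k (nl g v) := (FV.mem_U g).1 h k v hv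

theorem nl0 {g : XU n K} (h : g ∈ GA.UU (XU n K)) {v : Vn n K} (hv : Wk 1 v) : nl g v = 0 :=
  funext fun i => nlU h hv i (Nat.zero_le _)

theorem wn (v : Vn n K) : Wk (n + 1) v := fun i hi => absurd i.2 (by omega)

theorem perp0 {v : Vn n K} (h : Wk n v) : hf v (ev 0) = 0 := h.perp (w0 le_rfl) le_rfl

theorem w1_eq {v : Vn n K} (h : Wk 1 v) : v = v 0 • ev 0 := funext fun i => by
  rw [Pi.smul_apply, ev_apply]
  split_ifs with hi
  · rw [hi, smul_eq_mul, mul_one]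
  · rw [h i (Nat.one_le_iff_ne_zero.2 fun e => hi (Fin.ext e)), smul_zero]

theorem ac0 {g : XU n K} (h : g ∈ GA.UU (XU n K)) : ac g (ev 0) = ev 0 := by
  rw [ac_eq, nl0 h (w0 le_rfl), add_zero]

theorem exOk {u x : Vn n K} (hu : Iso u) (h : hf x u = 0) : ∃ c, Ok u x c :=
  (FQ.trs _ (star_hf x x)).imp fun _ hc => ⟨hu, h, hc⟩

theorem cm_EE {a : XU n K} (h : a ∈ GA.UU (XU n K)) {x : Vn n K} {c : K} (o : Ok (ev 0) x c) :
    ∃ d, Ok (ev 0) (nl a x) d ∧ cm a (EE (ev 0) x c) = EE (ev 0) (nl a x) d := by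
  have o1 := o.ac a
  rw [ac0 h] at o1
  exact ⟨_, o1.add o.star, by rw [cm, EE_conj o, ac0 h, EE_inv o, EE_mul o1 o.star]; rfl⟩

theorem EE_Z {x : Vn n K} {c : K} (o : Ok (ev 0) x c) (h : EE (ev 0) x c ∈ GA.ZZ (XU n K)) :
    Wk 1 x := fun i hi => by
  have := memZ.1 h (ev (Fin.last n)) i hi
  have l0 : hf (ev (Fin.last n) : Vn n K) (ev 0) = 1 := by simp [hf_ev]
  have e0 : (ev 0 : Vn n K) i = 0 := w0 le_rfl i hi
  simp only [nl, ac_EE o, l0, Pi.add_apply, Pi.smul_apply, e0, smul_zero, one_smul] at this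
  linear_combination this - (ev (Fin.last n) : Vn n K) i * two0 K

theorem EE_UU {x : Vn n K} {c : K} (o : Ok (ev 1) x c) (hx : Wk (n - 1) x) :
    EE (ev 1) x c ∈ GA.UU (XU n K) := by
  have := hp.five
  exact GA.Qk_le_UU (rgk K (k := 2) (by omega) (by omega))
    (FV.EE_Q 2 (by omega) _ _ _ o (w1 le_rfl) (hx.mono (by omega)))

/-- a normal subgroup of `U` that is elementary abelian modulo `Z` -/
structure VV (V : Subgroup (XU n K)) : Prop where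
  le : V ≤ GA.UU (XU n K)
  cj : ∀ s ∈ GA.UU (XU n K), ∀ a ∈ V, s * a * s⁻¹ ∈ V
  cm : ∀ a ∈ V, ∀ b ∈ V, cm a b ∈ GA.ZZ (XU n K)
  sq : ∀ a ∈ V, a * a ∈ GA.ZZ (XU n K)

namespace VV
variable {V : Subgroup (XU n K)} (h : VV V) {a b : XU n K}
include h

theorem cmU (ha : a ∈ V) {s : XU n K} (hs : s ∈ GA.UU (XU n K)) : SA.cm a s ∈ V := by
  simpa [mul_assoc] using mul_mem ha (h.cj s hs _ (inv_mem ha))

theorem kill (ha : a ∈ V) {x : Vn n K} {c : K} (o : Ok (ev 0) x c) (hx : EE (ev 0) x c ∈ V) :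
    Wk 1 (nl a x) := by
  obtain ⟨d, o', e⟩ := cm_EE (h.le ha) o
  exact EE_Z o' (e ▸ h.cm a ha _ hx)

theorem exE (ha : a ∈ V) {x : Vn n K} (hx : Wk n x) :
    ∃ d, Ok (ev 0) (nl a x) d ∧ EE (ev 0) (nl a x) d ∈ V := by
  obtain ⟨c, o⟩ := exOk iso0 (perp0 hx)
  obtain ⟨d, o', e⟩ := cm_EE (h.le ha) o
  exact ⟨d, o', e ▸ h.cmU ha (GA.QQ_le_UU ((FV.mem_Q _).2 ⟨x, c, o, rfl⟩))⟩

theorem nn (ha : a ∈ V) (hb : b ∈ V) {x : Vn n K} (hx : Wk n x) : Wk 1 (nl a (nl b x)) := by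
  obtain ⟨d, o, e⟩ := h.exE hb hx
  exact h.kill ha o e

theorem sq' (ha : a ∈ V) (v : Vn n K) : Wk 1 (nl a (nl a v)) := by
  have := memZ.1 (h.sq a ha) v
  rwa [nl, ac_mul, ac_eq a (ac a v), ac_eq a v, nl_add, add_assoc v, ← add_assoc (nl a v),
    v_add_self, zero_add, add_right_comm, v_add_self, zero_add] at this

theorem cm' (ha : a ∈ V) (hb : b ∈ V) (v : Vn n K) : Wk 1 (nl a (nl b v) + nl b (nl a v)) := by
  have := memZ.1 (h.cm a ha b hb) (ac b (ac a v))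
  simp only [nl, ac_mul, ac_inv_ac] at this
  convert this using 1
  simp only [nl, ac_add]
  ext i
  simp only [Pi.add_apply]
  linear_combination (ac a v i + ac b v i + v i) * two0 K

theorem sa (ha : a ∈ V) {v : Vn n K} (hv : Wk n v) (w : Vn n K) :
    hf (nl a v) w = hf v (nl a w) := by
  have := hv.perp (memZ.1 (h.sq a ha) (ac a⁻¹ w)) le_rfl
  rw [nl, ac_mul, ac_ac_inv, hf_add_right] at this
  rw [nl, nl, hf_add_left, hf_add_right, hf_ac_left, ← CharTwo.add_eq_zero.1 this]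

theorem e12 (hb : b ∈ V) : nl b (ev 2) 1 = 0 := by
  have h5 := hp.five
  have u := h.le hb
  set w := nl b (ev 2) with hw
  have ww : Wk 2 w := nlU u (w2 le_rfl)
  have i2 : Iso (ev 2 : Vn n K) := pp12.r
  have tU : TT (ev 2) ∈ GA.UU (XU n K) := GA.Mk_le_UU (rgk K (k := 3) (by omega) le_rfl)
    (Tc_mem (six K) (w2 le_rfl) (star_one K))
  have x1 : Wk n (ev (1 : Fin (n + 1)).rev : Vn n K) := wk_ev (by rw [Fin.val_rev, v1 K]; omega)
  have := h.nn hb (h.cmU hb tU) x1 1 (v1 K).ge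
  have e1 : hf (ev (1 : Fin (n + 1)).rev : Vn n K) (ev 2) = 0 := by
    rw [hf_ev, Fin.rev_rev, if_neg (ne12 (K := K)).symm]
  have e2 : hf (ev (1 : Fin (n + 1)).rev : Vn n K) w = star (w 1) := by rw [hf_ev_left, Fin.rev_rev]
  have e3 : nl b w 1 = 0 := nlU u ww 1 (v1 K).ge
  rw [SA.cm, Tc_conj i2 (star_one K), inv_eq_of_mul_eq_one_right (Tc_mul_self i2 (star_one K)),
    show nl (Tc 1 _ * Tc 1 _) _ = star (w 1) • (ev 2 + w) by
      rw [nl, ac_mul, ac_Tc i2 (star_one K), e1, mul_zero, zero_smul, add_zero,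
        ac_Tc (i2.ac b) (star_one K), ac_eq b, ← hw, hf_add_right, e1, e2, zero_add, one_mul,
        add_right_comm, v_add_self, zero_add], nl_smul, nl_add, ← hw] at this
  simpa [e3] using this

/-- an element of `V` that moves `e_1` forces `V ≤ Q` -/
theorem main (ha : a ∈ V) (h1 : nl a (ev 1) ≠ 0) (hb : b ∈ V) : b ∈ GA.QQ (XU n K) := by
  have h5 := hp.five
  have u := h.le ha
  set x := nl a (ev (Fin.last n)) with hx
  have xn : Wk n x := nlU u (wn _)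
  have f1 : Wk 1 (nl a (ev 1)) := nlU u (w1 le_rfl)
  have fn : Wk n (ev 1 : Vn n K) := w1 (by omega)
  have l0 : hf x (ev 1) ≠ 0 := fun e => h1 (by
    rw [← star_hf, star_eq_zero, ← h.sa ha fn, hf_ev_right, Fin.rev_last] at e
    rw [w1_eq f1, e, zero_smul])
  have k0 : ∀ b ∈ V, hf (nl b x) x = 0 := fun b hb => by
    have := xn.perp (h.cm' ha hb (ev (Fin.last n))) le_rfl
    rw [hf_add_right, ← h.sa ha xn, (h.sq' ha _).perp (nlU (h.le hb) (wn _)) (by omega),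
      zero_add] at this
    exact hf_symm this
  have bf : ∀ v, Wk n v → hf (nl b (ev 1)) v = 0 := fun v hv =>
    (nlU (h.le hb) (w1 le_rfl)).perp hv (by omega)
  have k1 : ∀ w, Wk (n - 1) w → hf (nl b w) w = tr (hf (nl b x) w) := fun w hw => by
    have hw' : Wk (n - 1) ((hf x (ev 1))⁻¹ • w) := hw.smul _
    have wn' : Wk n w := hw.mono (by omega)
    obtain ⟨c, o⟩ := exOk pp01.r (hw'.perp (w1 le_rfl) (by omega))
    have := k0 _ (h.cj _ (inv_mem (EE_UU o hw')) _ hb)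
    rw [inv_inv, nl, ac_mul, ac_mul, hf_add_left, hf_ac_left, inv_inv, ← hf_ac (EE (ev 1) ((hf x (ev 1))⁻¹ • w) c) x x,
      ← hf_add_left, ← nl, ac_EE o, smul_smul, mul_inv_cancel₀ l0, one_smul, add_assoc x,
      add_assoc x, add_right_comm _ w, ← add_smul] at this
    generalize hf x _ + c * _ = μ at this
    simp only [nl_add, nl_smul, hf_add_left, hf_add_right, hf_smul_left, hf_smul_right, bf _ xn,
      bf _ fn, bf _ wn', k0 b hb, h.sa hb xn (ev 1), h.sa hb wn' (ev 1), hf_symm (bf _ xn),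
      hf_symm (bf _ wn'), h.sa hb wn' x] at this
    rw [tr, star_hf]
    linear_combination this - (hf (nl b x) w + hf w (nl b x)) * two0 K
  have k2 : ∀ v w, Wk (n - 1) v → Wk (n - 1) w → hf v (nl b w) = 0 := fun v w hv hw =>
    FQ.trn _ fun r => by
      have e := k1 _ ((hv.smul r).add hw)
      rw [nl_add, hf_add_left, hf_add_right, hf_add_right, hf_add_right, k1 _ (hv.smul r), k1 _ hw,
        h.sa hb ((hv.smul r).mono (by omega)), ← star_hf (r • v) (nl b w), hf_smul_left] at e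
      simp only [tr, star_add] at e ⊢
      linear_combination e
  have k3 : ∀ w, Wk (n - 1) w → hf w (nl b x) = 0 := fun w hw => FQ.trn _ fun r => by
    have e := k1 _ (hw.smul r)
    rw [h.sa hb ((hw.smul r).mono (by omega)), k2 _ _ (hw.smul r) (hw.smul r), ← star_hf,
      hf_smul_left] at e
    simp only [tr, star_star] at e ⊢
    linear_combination -e
  have dec : ∀ v, Wk n v → ∃ r w, Wk (n - 1) w ∧ v = r • x + w := fun v hv =>
    ⟨hf v (ev 1) / hf x (ev 1), (hf v (ev 1) / hf x (ev 1)) • x + v, fun i hi => by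
      by_cases c : n ≤ i.val
      · exact ((xn.smul _).add hv) i c
      · have : i = (1 : Fin (n + 1)).rev := by rw [Fin.ext_iff, Fin.val_rev, v1 K]; omega
        rw [this, ← hf_ev_right (_ + v), hf_add_left, hf_smul_left, div_mul_cancel₀ _ l0,
          CharTwo.add_self_eq_zero], by rw [← add_assoc, v_add_self, zero_add]⟩
  refine (FV.mem_Qk 1 (by omega) b).2 ⟨fun v hv => by rw [ac_eq, nl0 (h.le hb) hv, add_zero],
    fun v hv => ?_⟩
  have := (FV.wk_perp n (by omega) (nl b v)).2 fun z hz => by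
    obtain ⟨r, w, hw, rfl⟩ := dec v hv
    obtain ⟨r', w', hw', rfl⟩ := dec z hz
    simp only [nl_add, nl_smul, hf_add_left, hf_add_right, hf_smul_left, hf_smul_right, k0 b hb,
      hf_symm (k3 w' hw'), h.sa hb (hw.mono (by omega : n - 1 ≤ n)), k3 w hw, k2 w w' hw hw']
    simp
  rwa [Nat.add_sub_cancel_left] at this

theorem le_Q (hq : ∀ v ∈ V, v ∉ GA.ZZ (XU n K) → ∃ a ∈ V, SA.cm a v ≠ 1) :
    V ≤ GA.QQ (XU n K) := fun b hb => by
  have h5 := hp.five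
  by_contra hn
  have fx1 : ∀ a ∈ V, nl a (ev 1) = 0 := fun a ha => by_contra fun e => hn (h.main ha e hb)
  have k : ∀ y c, Ok (ev 0) y c → EE (ev 0) y c ∈ V → Wk 2 y → Wk 1 y := fun y c o m hy => by
    by_contra h1
    obtain ⟨a, ha, e⟩ := hq _ m fun z => h1 (EE_Z o z)
    have e1 : y = y 1 • ev 1 + (y 1 • ev 1 + y) := by rw [← add_assoc, v_add_self, zero_add]
    have e2 : Wk 1 (y 1 • ev 1 + y) := fun i hi => by
      by_cases c : 2 ≤ i.val
      · exact (((w1 le_rfl).smul _).add hy) i c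
      · obtain rfl : i = 1 := by rw [Fin.ext_iff, v1 K]; omega
        simp [ev_apply, CharTwo.add_self_eq_zero]
    refine e (by
      rw [SA.cm, EE_conj o, ac0 (h.le ha), ac_eq a, e1, nl_add, nl_smul, fx1 a ha, nl0 (h.le ha) e2,
        smul_zero, add_zero, add_zero, mul_inv_cancel])
  refine hn ((FV.mem_Qk 1 (by omega) b).2 ⟨fun v hv => by rw [ac_eq, nl0 (h.le hb) hv, add_zero],
    fun v hv => ?_⟩)
  obtain ⟨d, o, m⟩ := h.exE hb (x := v) hv
  have y1 : Wk (n - 1) (nl b v) := nlU (h.le hb) (Wk.mono hv (by omega))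
  refine k _ _ o m ?_
  have := (FV.wk_perp (n - 1) (by omega) (nl b v)).2 fun w hw => by
    obtain ⟨c, o'⟩ := exOk pp01.r (hw.perp (w1 le_rfl) (by omega))
    obtain ⟨d', o2, e⟩ := cm_EE (EE_UU o' hw) o
    have e2 : nl (EE (ev 1) w c) (nl b v) = hf (nl b v) w • ev 1 := by
      rw [nl, ac_EE_perp o' (y1.perp (w1 le_rfl) (by omega)), add_right_comm, v_add_self, zero_add]
    have m2 : SA.cm (EE (ev 1) w c) (EE (ev 0) (nl b v) d) ∈ V :=
      mul_mem (h.cj _ (EE_UU o' hw) _ m) (inv_mem m)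
    rw [e2] at o2 e
    simpa [ev_apply] using k _ _ o2 (e ▸ m2) ((w1 le_rfl).smul _) 1 (v1 K).ge
  exact this.mono (by omega)

end VV

omit [StarRing K] hp in
theorem e12_mul {g h : SA.SLn n K} (hg : g ∈ SA.UU n K) (hh : h ∈ SA.UU n K) {i j : Fin (n + 1)}
    (e : j.val = i.val + 1) : (g * h).1 i j = g.1 i j + h.1 i j := by
  have ne : i ≠ j := fun c => by rw [c] at e; omega
  rw [SA.val_mul, mul_apply, Finset.sum_eq_add i j ne (fun k _ hk => ?_) (by simp) (by simp),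
    (SA.mem_UU.1 hg).1, (SA.mem_UU.1 hh).1, one_mul, mul_one, add_comm (h.1 i j)]
  rcases lt_or_gt_of_ne hk.1 with c | c
  · rw [(SA.mem_UU.1 hg).2 i k c, zero_mul]
  · rw [(SA.mem_UU.1 hh).2 k j (by have := Fin.val_ne_of_ne hk.2; rw [Fin.lt_def] at c ⊢; omega),
      mul_zero]

theorem inner [FY n K] {β : MulAut (XU n K)} (hβ : β ∈ St (GA.UU (XU n K)))
    (hz : ∀ z ∈ GA.ZZ (XU n K), β z = z)
    (h : ∀ s ∈ GA.UU (XU n K), nl (β s * s⁻¹) (ev 2) 1 = 0) : GA.out (XU n K) β = 1 := by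
  have h5 := hp.five
  obtain ⟨γ, hγ⟩ := FX.ext β
  obtain ⟨u, hu, d, hd⟩ := SA.fa_exU (by omega) γ (FY.stU β γ hγ.1 hβ)
  simp only [hγ.2, if_true] at hd
  rw [FX.out_eq β γ hγ]
  set σ := (SA.out n K γ).1
  have n0 : (0 : Fin (n + 1)) ≠ (0 : Fin (n + 1)).rev := by rw [Ne, Fin.ext_iff, Fin.val_rev]; simp; omega
  have z1 : ∀ c, star c = c → d 0 * σ c * ((d (0 : Fin (n + 1)).rev)⁻¹ : Kˣ) = c := fun c hc => by
    have := hγ.1 (Tc c (ev 0))
    rw [hz _ ((FV.mem_Z _).2 ⟨c, hc, rfl⟩), FV.Tc_val 0 c n0 hc, hd,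
      ← mem_Cs.1 (SA.UU_le_Cs hu) _ (SA.mem_ZZ.2 ⟨_, by rw [Fin.rev_zero]⟩), mul_inv_cancel_right] at this
    exact (SA.x_inj n0 this).symm
  refine (FQ.gal σ fun c hc => ?_).resolve_right fun e => ?_
  · have := z1 1 (star_one K)
    rw [map_one, mul_one] at this
    have e := z1 c hc
    rwa [mul_right_comm, this, one_mul] at e
  have a1 := v1 (n := n) K
  have a2 := v2 (n := n) K
  have l1 : (1 : Fin (n + 1)) < 2 := by rw [Fin.lt_def]; omega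
  have l2 : (2 : Fin (n + 1)).rev < (1 : Fin (n + 1)).rev := Fin.rev_lt_rev.2 l1
  have p : (2 : Fin (n + 1)).val = (1 : Fin (n + 1)).val + 1 := by omega
  have iv : ∀ g ∈ SA.UU n K, (g⁻¹).1 1 2 = g.1 1 2 := fun g hg => by
    have := e12_mul hg (inv_mem hg) p
    rw [mul_inv_cancel, SA.val_one, one_apply_ne l1.ne] at this
    exact (CharTwo.add_eq_zero.1 this.symm).symm
  have cj : ∀ g ∈ SA.UU n K, (u * g * u⁻¹).1 1 2 = g.1 1 2 := fun g hg => by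
    rw [e12_mul (mul_mem hu hg) (inv_mem hu) p, e12_mul hu hg p, iv u hu, add_right_comm,
      CharTwo.add_self_eq_zero, zero_add]
  have x2 : ∀ c : K, (SA.x (2 : Fin (n + 1)).rev (1 : Fin (n + 1)).rev c).1 1 2 = 0 := fun c => by
    rw [SA.x_apply l2.ne, if_neg l1.ne, if_neg (by simp only [Fin.ext_iff, Fin.val_rev]; omega), add_zero]
  have k : ∀ κ : K, d 1 * star κ * ((d 2)⁻¹ : Kˣ) = κ := fun κ => by
    have v := FV.ss_val (n := n) 1 2 κ (by rw [Ne, Fin.ext_iff, Fin.val_rev]; omega)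
      (by rw [Ne, Fin.ext_iff, Fin.val_rev]; omega) l1.ne (by rw [Ne, Fin.ext_iff, Fin.val_rev]; omega)
    have m : (ss 1 2 κ : XU n K).1 ∈ SA.UU n K := v ▸ mul_mem (SA.x_mem_UU l1 _) (SA.x_mem_UU l2 _)
    have := h _ (mem_UU.2 m)
    rw [nl, Pi.add_apply, ac_ev, ev_apply, if_neg l1.ne, add_zero, UA.mt, Subgroup.coe_mul,
      e12_mul (mem_UU.1 ((hβ _).1 (mem_UU.2 m))) (by exact inv_mem m) p, Subgroup.coe_inv, iv _ m, hγ.1, v,
      map_mul, hd, hd, e12_mul (mul_mem (mul_mem hu (SA.x_mem_UU l1 _)) (inv_mem hu))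
        (mul_mem (mul_mem hu (SA.x_mem_UU l2 _)) (inv_mem hu)) p, cj _ (SA.x_mem_UU l1 _),
      cj _ (SA.x_mem_UU l2 _), e12_mul (SA.x_mem_UU l1 _) (SA.x_mem_UU l2 _) p, x2, x2,
      SA.x_apply_same l1.ne, SA.x_apply_same l1.ne, add_zero, add_zero, e] at this
    exact CharTwo.add_eq_zero.1 this
  obtain ⟨a, ha⟩ := hp.ne
  have := k 1
  rw [star_one, mul_one] at this
  have e := k a
  rw [mul_right_comm, this, one_mul] at e
  exact ha e

theorem jobFD : JobFD := fun n K _ _ _ _ hp B fy _ d1 => ⟨d1.sb, d1.si1,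
  fun D D' hD hD' hU hU' hZ _ θ hm hb hz => by
  let θh : D' →* MulAut (XU n K) := MonoidHom.mk' (fun a => θ a) fun a b => hm a a.2 b b.2
  have hcm : ∀ a ∈ D', ∀ b ∈ D', θ (cm a b) = cm (θ a) (θ b) := fun a ha b hb =>
    map_commutatorElement θh ⟨a, ha⟩ ⟨b, hb⟩
  have cj' : ∀ u ∈ GA.QQ (XU n K), MulAut.conj u ∈ D' := fun u hu =>
    hU' (mem_map_of_mem _ (GA.QQ_le_UU hu))
  set A := ((cI (GA.QQ (XU n K))).subgroupOf D').map θh with hA
  have mA : ∀ {a}, a ∈ A ↔ ∃ u ∈ GA.QQ (XU n K), θ (MulAut.conj u) = a := fun {a} =>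
    ⟨by rintro ⟨⟨_, _⟩, ⟨u, hu, rfl⟩, rfl⟩; exact ⟨u, hu, rfl⟩,
      by rintro ⟨u, hu, rfl⟩; exact ⟨⟨_, cj' u hu⟩, ⟨u, hu, rfl⟩, rfl⟩⟩
  have nA : ∀ δ ∈ D, ∀ a ∈ A, δ * a * δ⁻¹ ∈ A := fun δ hδ a ha => by
    obtain ⟨δ, h1, rfl⟩ := hb.surjOn hδ
    obtain ⟨u, hu, rfl⟩ := mA.1 ha
    refine mA.2 ⟨δ u, (GA.st_QQ (St_of_mem hD' hU' h1) u).1 hu, ?_⟩
    rw [← conj_map]
    have := map_mul θh (⟨δ, h1⟩ * ⟨_, cj' u hu⟩) ⟨δ, h1⟩⁻¹
    rw [map_mul θh ⟨δ, h1⟩, map_inv] at this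
    exact this
  set V := GA.UU (XU n K) ⊓ A.comap MulAut.conj with hV
  have vv : VV V := ⟨inf_le_left, fun s hs a ha => mem_inf.2 ⟨mul_mem (mul_mem hs ha.1) (inv_mem hs), by
      simpa only [mem_comap, map_mul, map_inv] using
        nA _ (hU (mem_map_of_mem _ hs)) _ ha.2⟩,
    fun a ha b hb => mem_of_conj GA.ZZ_le_UU (GA.is2_of_UU (mul_mem (mul_mem (mul_mem ha.1 hb.1)
      (inv_mem ha.1)) (inv_mem hb.1))) (by
      obtain ⟨u, hu, e⟩ := mA.1 ha.2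
      obtain ⟨v, hv, e'⟩ := mA.1 hb.2
      rw [← conj_cm, ← e, ← e', ← hcm _ (cj' u hu) _ (cj' v hv), conj_cm]
      exact hz _ (mem_map_of_mem _ (GA.FB.cmQ 1 GA.rg1 u hu v hv))),
    fun a ha => mem_of_conj GA.ZZ_le_UU (GA.is2_of_UU (mul_mem ha.1 ha.1)) (by
      obtain ⟨u, hu, e⟩ := mA.1 ha.2
      rw [map_mul, ← e, ← hm _ (cj' u hu) _ (cj' u hu), ← map_mul]
      exact hz _ (mem_map_of_mem _ (GA.FB.sqQ 1 GA.rg1 u hu)))⟩
  have iA : ∀ β ∈ A, ∃ v ∈ V, β = MulAut.conj v := fun β hβ => by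
    have m : β ∈ D := by obtain ⟨u, hu, rfl⟩ := mA.1 hβ; exact hb.mapsTo (cj' u hu)
    have st := St_of_mem hD hU m
    obtain ⟨v, hv, rfl⟩ := mem_cI.1 (mem_cU hD hU m (inner st (hZ β m) fun s hs =>
      vv.e12 (mem_inf.2 ⟨mul_mem ((st s).1 hs) (inv_mem hs), by
        rw [mem_comap, ← cm_conj]
        simpa only [mul_assoc] using mul_mem hβ (nA _ (hU (mem_map_of_mem _ hs)) _ (inv_mem hβ))⟩)))
    exact ⟨v, ⟨hv, hβ⟩, rfl⟩
  have q := vv.le_Q fun v hv h1 => by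
    obtain ⟨u, hu, e⟩ := mA.1 hv.2
    obtain ⟨z, hz1, hz2⟩ := GA.exists_ZZ (X := XU n K)
    obtain ⟨u', hu', rfl⟩ := GA.FA.qz u hu (fun c => h1 (mem_of_conj GA.ZZ_le_UU (GA.is2_of_UU hv.1)
      (e ▸ hz _ (mem_map_of_mem _ c)))) z hz1
    obtain ⟨a, ha, e'⟩ := iA _ (mA.2 ⟨u', hu', rfl⟩)
    refine ⟨a, ha, fun c => hz2 (GA.conj_inj (GA.is2_of_UU (GA.ZZ_le_UU hz1))
      (GA.is2_of_UU (one_mem _)) (hb.injOn (cj' _ (GA.ZZ_le_QQ hz1)) (cj' _ (one_mem _)) ?_))⟩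
    rw [← conj_cm, hcm _ (cj' u hu) _ (cj' u' hu'), e, e', conj_cm,
      SA.cm_eq_one.2 (SA.cm_eq_one.1 c).symm, map_one]
    exact (map_one θh).symm
  rintro _ ⟨u, hu, rfl⟩
  obtain ⟨v, hv, e⟩ := iA _ (mA.2 ⟨u, hu, rfl⟩)
  exact e ▸ mem_map_of_mem _ (q hv)⟩

end H79.UMD
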