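import Cfsg.Agent.H38.HeF
import Cfsg.Agent.H88.HeIso
import Cfsg.Agent.H25.STAut

/-! STD-S (row S3095), slot HeH: the facts `FH` for the Held group. -/

set_option autoImplicit false
set_option maxRecDepth 100000
set_option linter.unusedSectionVars false

namespace H79.STHe

open H49 H38.He H25.ST H64.SG Subgroup
open H67.SA (cm)

/-- `L ∪ g L` -/
noncomputable def sp (g : X) (L : List X) : List X := L ++ L.map (g * ·)

theorem sp_mem {H : Subgroup X} {g : X} {L : List X} (hg : g ∈ H) (h : ∀ x ∈ L, x ∈ H) :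
    ∀ x ∈ sp g L, x ∈ H := fun x hx => (List.mem_append.1 hx).elim (h x) fun e => by
  obtain ⟨y, hy, rfl⟩ := List.mem_map.1 e
  exact mul_mem hg (h y hy)

theorem one_mem' (H : Subgroup X) : ∀ x ∈ [(1 : X)], x ∈ H := fun _ hx =>
  List.mem_singleton.1 hx ▸ one_mem H

noncomputable def L0 : List X := sp x14 (sp xz [1])
noncomputable def L1 : List X := sp x13 L0
/-- the normal subgroup of order `16` that contains `x14` -/
noncomputable def AL : List X := sp xa L1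
def AN : List ℕ := [17043521, 17043523, 17043537, 17043539, 17043529, 17043531, 17043545, 17043547,
  17043525, 17043527, 17043541, 17043543, 17043533, 17043535, 17043549, 17043551]

theorem AL_c : AL.map UG.c = AN := by decide +kernel

theorem mem_AL {v : X} (h1 : v * xa = xa * v) (h2 : v * x13 = x13 * v) (h3 : v * x14 = x14 * v) :
    v ∈ AL := by
  have := X_all (p := fun c => impB (cmB c xa.c) (impB (cmB c x13.c) (impB (cmB c x14.c)
    (anyB (Nat.beq c) AN)))) (by decide +kernel) v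
  simp only [impB_iff, cmB_iff, anyB_iff, ← AL_c] at this
  obtain ⟨_, ha, e⟩ := this h1 h2 h3
  obtain ⟨y, hy, rfl⟩ := List.mem_map.1 ha
  rwa [beq_c.1 e]

theorem AL_conj (g : X) : ∀ x ∈ AL, g * x * g⁻¹ ∈ AL := by
  refine X_ind (P := fun g => ∀ x ∈ AL, g * x * g⁻¹ ∈ AL) (by simp) (fun s hs g h x hx => ?_) g
  have := (by decide +kernel : ∀ s ∈ [xa, xb, xc, xd, xm, xn], ∀ x ∈ AL, s * x * s⁻¹ ∈ AL) s hs _ (h x hx)
  simpa only [mul_inv_rev, mul_assoc] using this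

theorem AL_sq : ∀ x ∈ AL, x * x = 1 := by decide +kernel

/-- `AL` as a subgroup -/
noncomputable def A1 : Subgroup X := centralizer {xa, x13, x14}

theorem mem_A1 {v : X} : v ∈ A1 ↔ v ∈ AL :=
  ⟨fun h => mem_AL (h _ (by simp)).symm (h _ (by simp)).symm (h _ (by simp)).symm, fun h y hy =>
    (by decide +kernel : ∀ v ∈ AL, ∀ y ∈ [xa, x13, x14], y * v = v * y) v h y (by simpa using hy)⟩

instance : A1.Normal := ⟨fun x hx g => mem_A1.2 (AL_conj g x (mem_A1.1 hx))⟩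

theorem A1_le : A1 ≤ Cfsg.pCore 2 X :=
  le_sSup ⟨inferInstance, El.isPGroup fun x hx => AL_sq x (mem_A1.1 hx)⟩

theorem aut_z (γ : MulAut X) : γ xz = xz :=
  (cen_X _ fun x => by rw [← γ.apply_symm_apply x, ← map_mul, z_comm, map_mul]).resolve_left
    fun e => absurd (γ.map_eq_one_iff.1 e) (by decide +kernel)

theorem map_wd' (γ : MulAut X) (S : List X) (w : List ℕ) : γ (wd S w) = wd (S.map γ) w :=
  (map_wd γ.toMonoidHom S w).trans ((map_wd (MonoidHom.id X) (S.map γ) w).trans (by simp)).symm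

noncomputable def g1 : X := UG.lit (wd gens [0, 5]) 8917061 8917061
noncomputable def g2 : X := UG.lit (wd gens [3, 2, 4]) 19537985 19032129
def wa : List ℕ := [0, 1, 0, 1, 0, 1, 1, 1, 0, 1, 1, 0, 1, 1, 0, 1, 0, 1, 1, 0, 1, 0, 1, 0, 1, 1, 0, 1, 1]
def WG : List (List ℕ) := [wa,
  [1, 0, 1, 1, 0, 1, 1, 0, 1, 1, 1, 0, 1, 0, 1, 0, 1, 1, 0, 1, 0, 1, 1, 0, 1, 0, 1, 1],
  [0, 1, 1, 1, 0, 1, 0, 1, 1, 0, 1, 1, 1, 0, 1, 0, 1, 1],
  [0, 1, 0, 1, 0, 1, 1, 0, 1, 1, 1, 0, 1, 0, 1, 1, 0, 1, 0, 1, 1, 0, 1, 0, 1, 0, 1, 1, 1],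
  [0, 1, 0, 1, 1, 0, 1, 0, 1, 0, 1, 1, 1, 0, 1, 1, 0, 1],
  [1, 0, 1, 0, 1, 1, 1, 0, 1, 1, 0, 1, 1, 0, 1, 0, 1, 1, 0, 1, 0, 1, 0, 1, 1, 0, 1, 1]]
def RG : List (List ℕ) := [[0, 0], [1, 1, 1, 1], [0, 1, 0, 1, 0, 1, 0, 1, 0, 1, 0, 1, 0, 1],
  [0, 1, 0, 1, 1, 0, 1, 0, 1, 1, 0, 1, 0, 1, 1, 0, 1, 0, 1, 1, 0, 1, 0, 1, 1, 0, 1, 0, 1, 1, 0, 1, 0, 1, 1]]

theorem gen12 {H : Subgroup X} (h1 : g1 ∈ H) (h2 : g2 ∈ H) (x : X) : x ∈ H := by
  refine X_ind (P := (· ∈ H)) (one_mem H) (fun s hs x hx => mul_mem ?_ hx) x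
  rw [show [xa, xb, xc, xd, xm, xn] = WG.map (wd [g1, g2]) by decide +kernel] at hs
  obtain ⟨w, -, rfl⟩ := List.mem_map.1 hs
  exact wd_mem (K := H.toSubmonoid) (by simpa using ⟨h1, h2⟩) w

theorem inn3 (γ : MulAut X) (h1 : γ xa = xa) (h2 : γ x13 = x13) (h3 : γ x14 = x14) : Inn γ := by
  have f : ∀ x ∈ AL, x ∈ fx γ := sp_mem h1 (sp_mem h2 (sp_mem h3 (sp_mem (aut_z γ) (one_mem' _))))
  have k : ∀ g, γ g * g⁻¹ ∈ AL := fun g => mem_A1.1 fun y hy => by
    have hy' : y ∈ AL := (by decide +kernel : ∀ y ∈ [xa, x13, x14], y ∈ AL) y (by simpa using hy)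
    have e := mem_fx.1 (f _ (AL_conj g⁻¹ y hy'))
    rw [map_mul, map_mul, mem_fx.1 (f y hy'), inv_inv, map_inv] at e
    calc _ = γ g * ((γ g)⁻¹ * y * γ g) * g⁻¹ := by group
      _ = _ := by rw [e]; group
  have c : allB (fun a => allB (fun b => frc (m5r a g1.c) fun u => frc (m5r b g2.c) fun v =>
      impB (allB (fun r => Nat.beq (wdN [u, v] r) 17043521) RG) (impB (Nat.beq (wdN [u, v] wa) xa.c)
        (anyB (fun c => andB (Nat.beq (m5 c g1.c) (m5 u c)) (Nat.beq (m5 c g2.c) (m5 v c))) AN))) AN)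
      AN = true := by decide +kernel
  simp only [← AL_c, allB_iff, anyB_iff, impB_iff, andB_iff, frc_eq, List.forall_mem_map,
    mul_c''] at c
  have c := c _ (k g1) _ (k g2)
  rw [inv_mul_cancel_right, inv_mul_cancel_right] at c
  have e : ∀ w, wdN [(γ g1).c, (γ g2).c] w = (γ (wd [g1, g2] w)).c := fun w => by
    rw [map_wd']; exact wdN_eq [γ g1, γ g2] w
  obtain ⟨_, hc, e1, e2⟩ := c (fun r hr => by
    rw [e, (by decide +kernel : ∀ r ∈ RG, wd [g1, g2] r = 1) r hr, map_one]; exact beq_one.2 rfl)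
    (by rw [e, show wd [g1, g2] wa = xa by decide +kernel, h1]; exact beq_c.2 rfl)
  obtain ⟨c, -, rfl⟩ := List.mem_map.1 hc
  rw [mul_c', mul_c', beq_c] at e1 e2
  refine ⟨c, MulEquiv.ext (gen12 (H := MonoidHom.eqLocus γ.toMonoidHom (MulAut.conj c).toMonoidHom)
    ?_ ?_)⟩
  · exact eq_mul_inv_of_mul_eq e1.symm
  · exact eq_mul_inv_of_mul_eq e2.symm

theorem inn_of {γ : MulAut X} {c : X} (h : Inn ((MulAut.conj c)⁻¹ * γ)) : Inn γ := by
  simpa using (inn_conj c).mul h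

theorem img {γ : MulAut X} (h : γ x14 = x14) {y : X} (c : X) (e : c * x14 * c⁻¹ = y) {L : List X}
    (hL : ∀ x ∈ L, x ∈ fx γ) (hy : y ∉ L) : γ y ∈ AL ∧ γ y ∉ L := by
  refine ⟨?_, fun m => hy (γ.injective (mem_fx.1 (hL _ m)) ▸ m)⟩
  rw [← e, map_mul, map_mul, h, map_inv]
  exact AL_conj _ _ (by decide +kernel)

theorem fix_of {γ : MulAut X} {c y : X} (e : c * y = γ y * c) : ((MulAut.conj c)⁻¹ * γ) y = y := by
  rw [MulAut.mul_apply, MulAut.conj_inv_apply, mul_assoc, ← e, inv_mul_cancel_left]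

theorem inn2 (γ : MulAut X) (h2 : γ x13 = x13) (h3 : γ x14 = x14) : Inn γ := by
  obtain ⟨m, n⟩ := img h3 (xm * xn) (y := xa) (by decide +kernel)
    (sp_mem h2 (sp_mem h3 (sp_mem (aut_z γ) (one_mem' _)))) (by decide +kernel)
  obtain ⟨w, -, e1, e2, e3⟩ := ((by decide +kernel : ∀ p ∈ AL, p ∈ L1 ∨
    ∃ w ∈ [[], [4, 5, 3, 5, 4], [4, 2, 4], [3, 4, 2, 3, 4], [1], [1, 4, 5, 3, 5, 4], [2, 1, 2],
      [3, 2, 1, 2, 3]], wd gens w * xa = p * wd gens w ∧ wd gens w * x13 = x13 * wd gens w ∧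
      wd gens w * x14 = x14 * wd gens w) _ m).resolve_left n
  exact inn_of (inn3 _ (fix_of e1) (fix_of (h2.symm ▸ e2)) (fix_of (h3.symm ▸ e3)))

theorem inn1 (γ : MulAut X) (h3 : γ x14 = x14) : Inn γ := by
  obtain ⟨m, n⟩ := img h3 xn (y := x13) (by decide +kernel)
    (sp_mem h3 (sp_mem (aut_z γ) (one_mem' _))) (by decide +kernel)
  obtain ⟨w, -, e1, e2⟩ := ((by decide +kernel : ∀ p ∈ AL, p ∈ L0 ∨
    ∃ w ∈ [[], [5, 3, 5], [2], [3, 2, 3], [4], [4, 5, 3, 5], [4, 2], [3, 4, 2, 3], [1, 4],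
      [1, 4, 5, 3, 5], [1, 4, 2], [1, 3, 4, 2, 3]], wd gens w * x13 = p * wd gens w ∧
      wd gens w * x14 = x14 * wd gens w) _ m).resolve_left n
  exact inn_of (inn2 _ (fix_of e1) (fix_of (h3.symm ▸ e2)))

/-- a `2`-subgroup of order `128` -/
noncomputable def U0 : Subgroup X := Cz x13 ⊓ Cz x14

theorem U0_two : IsPGroup 2 U0 := fun ⟨v, h1, h2⟩ => ⟨2, Subtype.ext (by
  have := X_all (p := fun c => impB (cmB c x13.c) (impB (cmB c x14.c) (frc (m5r c c) sqB)))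
    (by decide +kernel) v
  simp only [impB_iff, cmB_iff, frc_eq, mul_c'', sqB_iff] at this
  simpa [pow_succ, mul_assoc] using this (mem_Cz.1 h1).symm (mem_Cz.1 h2).symm)⟩

theorem fin : Finite X := Nat.finite_of_card_ne_zero (by rw [card_X]; decide)

theorem U0_card : 64 ≤ Nat.card U0 := by
  classical
  have := fin
  have k : ∀ y ∈ [xb, x24, xa, x13, x14, xz], x13 * y = y * x13 ∧ x14 * y = y * x14 := by decide +kernel
  have m : ∀ y ∈ [xb, x24, xa, x13, x14, xz], y ∈ U0 := fun y hy =>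
    ⟨mem_Cz.2 (k y hy).1, mem_Cz.2 (k y hy).2⟩
  have h : ∀ x ∈ sp xb (sp x24 AL), x ∈ U0 := sp_mem (m _ (by simp)) (sp_mem (m _ (by simp))
    (sp_mem (m _ (by simp)) (sp_mem (m _ (by simp)) (sp_mem (m _ (by simp)) (sp_mem (m _ (by simp))
      (one_mem' _))))))
  have n : (sp xb (sp x24 AL)).Nodup := by decide +kernel
  have := Set.ncard_le_ncard (s := (sp xb (sp x24 AL)).toFinset) (t := U0)
    fun x hx => h x (List.mem_toFinset.1 hx)
  rwa [Set.ncard_coe_finset, List.toFinset_card_of_nodup n] at this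

theorem X_perf (x : X) : x ∈ commutator X := by
  have c : ∀ a b : X, cm a b ∈ commutator X := fun a b =>
    commutator_mem_commutator (mem_top a) (mem_top b)
  have d : ∀ g a b : X, g * cm a b * g⁻¹ ∈ commutator X := fun g a b =>
    Normal.conj_mem inferInstance _ (c a b) g
  refine gen12 ?_ ?_ x
  · rw [show g1 = cm x13 x32 * (xc * xn * cm x32 x24 * (xc * xn)⁻¹) by decide +kernel]
    exact mul_mem (c _ _) (d _ _ _)
  · rw [show g2 = cm x43 x35 * cm x32 x24 * (xb * xm * cm x24 x43 * (xb * xm)⁻¹) by decide +kernel]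
    exact mul_mem (mul_mem (c _ _) (c _ _)) (d _ _ _)

theorem core {y : X} (hy : y ∈ Cfsg.pCore 2 X) (h2 : y * y = 1) : cls y.c ≤ 3 ∨ y = 1 := by
  have := fin
  obtain ⟨h8, g, e⟩ := cls_rep y h2
  by_contra! hn
  have h7 : cls y.c ≠ 8 := fun c => hn.2 (eq_one_of_cls h2 c)
  have N := Cfsg.pCore_normal 2 X
  have m : rep (cls y.c) ∈ Cfsg.pCore 2 X := by
    have := N.conj_mem _ hy g⁻¹
    rwa [← e, show ∀ r : X, g⁻¹ * (g * r * g⁻¹) * g⁻¹⁻¹ = r from fun r => by group] at this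
  obtain ⟨h1, h3⟩ := (by decide +kernel : ∀ k ∈ [4, 5, 6, 7],
    rep k * (xm * xn * xm * rep k * (xm * xn * xm)⁻¹) ≠ 1 ∧
    (rep k * (xm * xn * xm * rep k * (xm * xn * xm)⁻¹)) ^ 3 = 1) (cls y.c) (by
      simp only [List.mem_cons, List.not_mem_nil]; omega)
  obtain ⟨k, hk⟩ := H98.isPGroup_pCore 2 X ⟨_, mul_mem m (N.conj_mem _ m (xm * xn * xm))⟩
  exact h1 (H99.Wr.one_of_odd (Odd.of_dvd_nat (by decide) (orderOf_dvd_of_pow_eq_one h3))
    (congrArg Subtype.val hk))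

variable {G : Type} [Group G] [Finite G] {j : X →* G} (h : Ctx j)
include h

theorem cz_iff {g : G} : g ∈ Cz (j xz) ↔ ∃ x, j x = g :=
  ⟨fun e => h.cen g (mem_Cz.1 e).symm, fun ⟨x, e⟩ => mem_Cz.2 (by rw [← e, ← map_mul, ← map_mul, z_comm])⟩

theorem map_top : (⊤ : Subgroup X).map j = Cz (j xz) := Subgroup.ext fun _ => by
  rw [cz_iff h, mem_map]; simp

/-- `X ≅ C(z)` -/
noncomputable def eq : X ≃* Cz (j xz) := MulEquiv.ofBijective
  (j.codRestrict _ fun x => (cz_iff h).2 ⟨x, rfl⟩) ⟨fun _ _ e => h.inj (congrArg Subtype.val e),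
    fun g => ((cz_iff h).1 g.2).imp fun _ e => Subtype.ext e⟩

theorem eq_val (x : X) : (eq h x : G) = j x := rfl

theorem core_iff {g : G} : g ∈ Cfsg.pCoreOf 2 (Cz (j xz)) ↔ ∃ x ∈ Cfsg.pCore 2 X, j x = g := by
  have : Fact (Nat.Prime 2) := ⟨Nat.prime_two⟩
  rw [← map_top h, ← H98.map_pCoreOf_of_injective h.inj, H98.pCoreOf_top, mem_map]

theorem comm_iff {a b : X} : j b ∈ Cz (j a) ↔ a * b = b * a := by
  rw [mem_Cz, ← map_mul, ← map_mul, h.inj.eq_iff]

theorem Iz (hG : Nat.card G = 4030387200) : I (j xz) := by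
  refine ⟨⟨by rw [← map_mul, z_sq, map_one], fun e =>
    absurd (h.inj (e.trans (map_one j).symm)) (by decide +kernel)⟩, ?_⟩
  have := (Cz (j xz)).card_mul_index
  rw [← Nat.card_congr (eq h).toEquiv, card_X, hG] at this
  rw [show (Cz (j xz)).index = 187425 by omega]; decide

/-- lemma B -/
def LB (G : Type) [Group G] : Prop := ∀ (U : Subgroup G) (β : MulAut G), IsPGroup 2 U →
  64 ≤ Nat.card U → U ≤ fx β → Inn β

theorem inn (hB : LB G) {β : MulAut G} (hβ : ∀ u ∈ U0, β (j u) = j u) :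
    ∃ v ∈ AL, β = MulAut.conj (j v) := by
  obtain ⟨f, rfl⟩ := hB (U0.map j) β (U0_two.map j) (by rw [card_map_of_injective h.inj]; exact U0_card)
    (by rintro _ ⟨u, hu, rfl⟩; exact hβ u hu)
  have k : ∀ y ∈ [xa, x13, x14, xz], x13 * y = y * x13 ∧ x14 * y = y * x14 := by decide +kernel
  have m : ∀ y ∈ [xa, x13, x14, xz], f * j y = j y * f := fun y hy =>
    mul_inv_eq_iff_eq_mul.1 (hβ y ⟨mem_Cz.2 (k y hy).1, mem_Cz.2 (k y hy).2⟩)
  obtain ⟨v, rfl⟩ := h.cen f (m _ (by simp))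
  simp only [← map_mul, h.inj.eq_iff] at m
  exact ⟨v, mem_AL (m _ (by simp)) (m _ (by simp)) (m _ (by simp)), rfl⟩

theorem ln (hG : Nat.card G = 4030387200) (c : IsConj (j xz) (j x14)) : Ln2 (j xz) (j x14) :=
  ⟨Iz h hG, (Iz h hG).isConj c, h.inj.ne (by decide +kernel),
    (core_iff h).2 ⟨_, A1_le (mem_A1.2 (by decide +kernel)), rfl⟩⟩

theorem lh (hG : Nat.card G = 4030387200) (hB : LB G) (c : IsConj (j xz) (j x14)) :
    LH (j xz) (j x14) := by
  have jz : ∀ x, j x ∈ Cz (j xz) := fun x => (cz_iff h).2 ⟨x, rfl⟩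
  refine ⟨ln h hG c, ?_, fun β hβ => ?_, fun O h1 h2 h3 => ?_, ⟨⊥, 1, .inl rfl, one_mem _,
    fun x hx _ => ⟨1, one_mem _, .inl (by simpa using hx)⟩, fun γ hγ _ => ?_⟩,
    ⟨j x14, j x13, j (xd * x35), ⟨1, one_mem _, by simp⟩, ⟨j xn, jz _, ?_⟩, ⟨j (xc * xn), jz _, ?_⟩,
      jz _, ?_, ?_, fun β hβ => ?_⟩⟩
  · obtain ⟨t, T⟩ := h.exists_tb c
    have e1 : j xd * j xz * (j xd)⁻¹ = j xz := by
      rw [← map_inv, ← map_mul, ← map_mul]; exact congrArg j (by decide +kernel)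
    have e2 : j xd * j x14 * (j xd)⁻¹ = j x14 * j xz := by
      rw [← map_inv, ← map_mul, ← map_mul, ← map_mul]; exact congrArg j (by decide +kernel)
    have e3 := conj_back T.sq T.tz
    refine ⟨t * j xd, T.br, ?_, ?_⟩
    · calc _ = t * (j xd * j xz * (j xd)⁻¹) * t⁻¹ := by group
        _ = _ := by rw [e1, T.tz]
    · calc _ = t * (j xd * j x14 * (j xd)⁻¹) * t⁻¹ := by group
        _ = t * j x14 * t⁻¹ * (t * j xz * t⁻¹) := by rw [e2]; group
        _ = _ := by rw [e3, T.tz]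
  · obtain ⟨v, hv, rfl⟩ := inn h hB fun u hu => hβ ⟨jz u, (comm_iff h).2 (mem_Cz.1 hu.2)⟩
    have m : ∀ y, x14 * y = y * x14 → v * y = y * v := fun y hy => by
      have := mul_inv_eq_iff_eq_mul.1 (show j v * j y * (j v)⁻¹ = j y from hβ ⟨jz y, (comm_iff h).2 hy⟩)
      rwa [← map_mul, ← map_mul, h.inj.eq_iff] at this
    refine ⟨j v, sp_mem (H := (closure {j xz, j x14}).comap j) (g := x14) (subset_closure (by simp))
      (sp_mem (g := xz) (subset_closure (by simp)) (one_mem' _)) v ?_, rfl⟩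
    exact (by decide +kernel : ∀ v ∈ AL, v * xb = xb * v → v * xm = xm * v → v ∈ L0) v hv
      (m _ (by decide +kernel)) (m _ (by decide +kernel))
  · refine eq_bot_iff.2 fun o ho => ?_
    obtain ⟨v, rfl⟩ := (cz_iff h).1 (h1 ho).1
    have sq : ∀ a ∈ A1, j a ∈ O → a = 1 := fun a ha hO => h.inj ((H99.Wr.one_of_odd_sq
      (H99.Wr.odd_of_mem h2 hO) (by rw [← map_mul, AL_sq a (mem_A1.1 ha), map_one])).trans
        (map_one j).symm)
    have : v ∈ A1 := fun a ha => by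
      have a1 : a ∈ A1 := mem_A1.2
        ((by decide +kernel : ∀ y ∈ [xa, x13, x14], y ∈ AL) a (by simpa using ha))
      refine H67.SA.cm_eq_one.1 (sq _ ?_ ?_)
      · simpa only [mul_assoc] using mul_mem a1 (Normal.conj_mem inferInstance _ (inv_mem a1) v)
      · simpa only [map_mul, map_inv] using mul_mem (H98.conj_mem_of_mem_normalizer
          (h3 ⟨jz a, (comm_iff h).2 (a1 x14 (by simp))⟩) ho) (inv_mem ho)
    rw [sq v this ho, map_one]; exact one_mem _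
  · obtain ⟨g, e⟩ := inn1 (((eq h).trans γ).trans (eq h).symm) (by
      rw [MulEquiv.trans_apply, MulEquiv.trans_apply, hγ _ (eq_val h _), MulEquiv.symm_apply_apply])
    refine ⟨eq h g, MulEquiv.ext fun a => ?_⟩
    obtain ⟨x, rfl⟩ := (eq h).surjective a
    simpa using congrArg (fun f : MulAut X => eq h (f x)) e
  · rw [← map_inv, ← map_mul, ← map_mul]; exact congrArg j (by decide +kernel)
  · rw [← map_inv, ← map_mul, ← map_mul, ← map_mul]; exact congrArg j (by decide +kernel)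
  · rw [← map_inv, ← map_mul, ← map_mul, ← map_mul]; exact congrArg j (by decide +kernel)
  · rw [← map_inv, ← map_mul, ← map_mul, ← map_mul]; exact congrArg j (by decide +kernel)
  · obtain ⟨v, hv, rfl⟩ := inn h hB fun u hu =>
      hβ ⟨(comm_iff h).2 (mem_Cz.1 hu.2), (comm_iff h).2 (mem_Cz.1 hu.1)⟩
    refine ⟨j v, rfl, ?_⟩
    rw [cm, ← map_inv, ← map_inv, ← map_mul, ← map_mul, ← map_mul]
    rcases (by decide +kernel : ∀ v ∈ AL, cm (xd * x35) v = 1 ∨ cm (xd * x35) v = xz) v hv with e | e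
    · rw [show _ * _ = (1 : X) from e, map_one]; exact one_mem _
    · rw [show _ * _ = xz from e]; exact mem_zpowers _

theorem fhd (hF : F0 G) (hG : Nat.card G = 4030387200) (hB : LB G) (c : IsConj (j xz) (j x14))
    (c' : IsConj (j xz) (j x25)) : FHd (j xz) (j x14) (j x25) := by
  have e1 : (j.comp τ) xz = j xz := congrArg j τz
  have e2 : (j.comp τ) x14 = j x25 := congrArg j τ14
  have jz : ∀ x, j x ∈ Cz (j xz) := fun x => (cz_iff h).2 ⟨x, rfl⟩
  have l1 : LH (j xz) (j x25) := e1 ▸ e2 ▸ lh h.tau hG hB (by rwa [e1, e2])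
  have r : ∀ y : X, y * y = 1 → cls y.c = 1 ∨ cls y.c = 2 →
      ∃ x ∈ Cz (j xz), j y = x * j x14 * x⁻¹ ∨ j y = x * j x25 * x⁻¹ := fun y h2 hk => by
    obtain ⟨-, g, e⟩ := cls_rep y h2
    refine ⟨j g, jz g, hk.imp (fun k => ?_) fun k => ?_⟩ <;>
      (rw [k] at e; rw [← e, map_mul, map_mul, map_inv]; rfl)
  refine ⟨fun g hg => ?_, fun β hβ => ?_, lh h hG hB c, l1, fun y hy => ?_, fun γ a ha => ?_⟩
  · obtain ⟨x, rfl⟩ := (cz_iff h).1 hg
    have := mem_map_of_mem j (X_perf x)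
    rwa [commutator_def, map_commutator, map_top h] at this
  · obtain ⟨v, -, rfl⟩ := inn h hB fun u _ => hβ (jz u)
    refine (cen_X v fun x => h.inj ?_).imp (fun e => by rw [e, map_one, map_one]) fun e => by rw [e]
    rw [map_mul, map_mul]
    exact (mul_inv_eq_iff_eq_mul.1 (hβ (jz x))).symm
  · obtain ⟨x, hx, rfl⟩ := (core_iff h).1 hy.2.2.2
    have h2 : x * x = 1 := h.inj (by rw [map_mul, hy.2.1.sq, map_one])
    have h3 := (core hx h2).resolve_right fun e => hy.2.1.ne (by rw [e, map_one])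
    have h0 : cls x.c ≠ 0 := fun e => hy.2.2.1 (by rw [eq_z_of_cls h2 e])
    have h4 : cls x.c ≠ 3 := fun e => h.not_conj_U ((hF.one _ _ hy.1 hy.2.1).trans (by
      have := isConj_rep' (j := j) h2
      rw [e] at this
      exact this.symm))
    exact r x h2 (by omega)
  · set δ : MulAut X := ((eq h).trans γ).trans (eq h).symm
    have e : (γ a : G) = j (δ x14) := by
      rw [← eq_val h (δ x14), show a = eq h x14 from Subtype.ext ha]; simp [δ]
    have h2 : δ x14 * δ x14 = 1 := by rw [← map_mul, show x14 * x14 = 1 by decide +kernel, map_one]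
    have h8 := (cls_rep _ h2).1
    have h1 : cls (δ x14).c ≠ 8 := fun c => absurd (δ.map_eq_one_iff.1 (eq_one_of_cls h2 c))
      (by decide +kernel)
    have h0 : cls (δ x14).c ≠ 0 := fun c => absurd (δ.injective ((eq_z_of_cls h2 c).trans
      (aut_z δ).symm)) (by decide +kernel)
    have h3 : ¬ 3 ≤ cls (δ x14).c := fun c => by
      have := two_cent h2 c (by omega) (p := δ xx) (by
        rw [← map_mul, ← map_mul, show xx * x14 = x14 * xx by decide +kernel])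
      rw [← map_pow, δ.map_eq_one_iff] at this
      exact absurd this (by decide +kernel)
    obtain ⟨x, hx, k⟩ := r _ h2 (by omega)
    have z : x * j xz * x⁻¹ = j xz := mul_inv_eq_iff_eq_mul.2 (mem_Cz.1 hx).symm
    rw [e, ← z]
    rcases k with k | k <;> rw [k]
    exacts [(ln h hG c).conj x, l1.ln.conj x]

theorem both [IsSimpleGroup G] (c : IsConj (j xz) (j x14)) : IsConj (j xz) (j x25) := by
  by_contra hn
  obtain ⟨t, T | T⟩ := h.exists_type c
  · obtain ⟨f⟩ := iso_A h (T.satA h (one_mul 1)) (top_A h T hn (mem_gen_j (by decide))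
      (H71.mem_gen (vG j t 1) (l := 6) (by decide)))
    exact not_simple_A f.symm.isSimpleGroup
  · obtain ⟨m, -, e⟩ := T.c25 h (M := ⊤) (fun _ => trivial) trivial
    exact hn (isConj_iff.mpr ⟨m, e⟩)

omit h in
/-- `C(z)` in the Held group, with both fusions. -/
theorem exists_ctx : ∃ j : X →* Cfsg.Spor.He, Ctx j ∧ IsConj (j xz) (j x14) ∧ IsConj (j xz) (j x25) := by
  have := H71.He.simple
  have : Finite Cfsg.Spor.He := Nat.finite_of_card_ne_zero (by rw [H71.He.card]; decide)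
  obtain ⟨z, hz, ⟨e⟩⟩ := H88.HeLoc.cent_iso _ toSL_z
  obtain ⟨j, h, rfl⟩ := ctx_of_equiv toSL_z (fun e => by
    rw [e, orderOf_one] at hz; exact absurd hz (by decide)) e
  obtain ⟨g, h1, h2⟩ := exists_conj_comm_of_simple hz (by rw [H71.He.card]; decide)
  have e1 : (j.comp τ) xz = j xz := congrArg j τz
  have e2 : (j.comp τ) x14 = j x25 := congrArg j τ14
  have e3 : (j.comp τ) x25 = j x14 := congrArg j τ25
  refine ⟨j, h, (h.reduce h1 h2).elim (fun c => ⟨c, both h c⟩) fun c => ⟨?_, c⟩⟩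
  rw [← e1, ← e3]
  exact both h.tau (by rwa [e1, e2])

omit h in
theorem fh (hF : F0 Cfsg.Spor.He) (hB : LB Cfsg.Spor.He) : FH Cfsg.Spor.He := by
  have := hF.fin
  obtain ⟨j, h, c, c'⟩ := exists_ctx
  exact ⟨_, _, _, fhd h hF H71.He.card hB c c'⟩

end H79.STHe
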