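import Cfsg.Agent.H26.DP0ASpec
import Cfsg.Agent.H14.Rel

/-! S3275, section A, job CB1: elements of order three normalise every component. -/

set_option autoImplicit false

namespace H79.Dp0CB1

open Subgroup Cfsg H98 H48.DP H57.DPC H48.DP2 H26.DA

universe u

variable {G : Type u} [Group G]

theorem mul_ex {y z : G} (h : Commute y z) (i j k l : ℕ) :
    (y ^ i * z ^ j) * (y ^ k * z ^ l) = y ^ (i + k) * z ^ (j + l) := by
  rw [pow_add, pow_add]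
  have e : z ^ j * y ^ k = y ^ k * z ^ j := (h.symm.pow_pow j k).eq
  calc (y ^ i * z ^ j) * (y ^ k * z ^ l) = y ^ i * (z ^ j * y ^ k) * z ^ l := by
        simp only [mul_assoc]
    _ = _ := by rw [e]; simp only [mul_assoc]

theorem pow_ex {y z : G} (h : Commute y z) (i j a : ℕ) :
    (y ^ i * z ^ j) ^ a = y ^ (i * a) * z ^ (j * a) := by
  rw [(h.pow_pow i j).mul_pow, ← pow_mul, ← pow_mul]

theorem pow_red {y : G} (hy : y ^ 3 = 1) (n : ℕ) : y ^ n = y ^ (n % 3) := by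
  conv_lhs => rw [← Nat.div_add_mod n 3, pow_add, pow_mul, hy, one_pow, one_mul]

/-- The elements `y ^ i * z ^ j`. -/
def Ex {y z : G} (h : Commute y z) (hy : y ^ 3 = 1) (hz : z ^ 3 = 1) : Subgroup G where
  carrier := {e | ∃ i j : ℕ, e = y ^ i * z ^ j}
  one_mem' := ⟨0, 0, by simp⟩
  mul_mem' := by
    rintro _ _ ⟨i, j, rfl⟩ ⟨k, l, rfl⟩
    exact ⟨i + k, j + l, mul_ex h i j k l⟩
  inv_mem' := by
    rintro _ ⟨i, j, rfl⟩
    refine ⟨i * 2, j * 2, ?_⟩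
    rw [inv_eq_iff_mul_eq_one, mul_ex h, show i + i * 2 = 3 * i by ring,
      show j + j * 2 = 3 * j by ring, pow_mul, pow_mul, hy, hz]
    simp

theorem mem_ex {y z : G} (h : Commute y z) (hy : y ^ 3 = 1) (hz : z ^ 3 = 1) {e : G}
    (he : e ∈ zpowers y ⊔ zpowers z) : ∃ i j : Fin 3, e = y ^ (i : ℕ) * z ^ (j : ℕ) := by
  have hle : zpowers y ⊔ zpowers z ≤ Ex h hy hz :=
    sup_le (zpowers_le_of_mem ⟨1, 0, by simp⟩) (zpowers_le_of_mem ⟨0, 1, by simp⟩)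
  obtain ⟨i, j, rfl⟩ := hle he
  exact ⟨⟨i % 3, Nat.mod_lt _ (by norm_num)⟩, ⟨j % 3, Nat.mod_lt _ (by norm_num)⟩, by
    rw [pow_red hy i, pow_red hz j]⟩

theorem dep : ∀ i1 j1 i2 j2 i3 j3 : Fin 3, ∃ a b c : Fin 3, (a ≠ 0 ∨ b ≠ 0 ∨ c ≠ 0) ∧
    ((i1 : ℕ) * a + i2 * b + i3 * c) % 3 = 0 ∧ ((j1 : ℕ) * a + j2 * b + j3 * c) % 3 = 0 := by
  decide +kernel

theorem ind {X : Subgroup G} (hX : X ⊓ Ce X = ⊥) {e c : G} (he : e ∈ X) (h3 : e ^ 3 = 1)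
    (h1 : e ≠ 1) (hc : c ∈ Ce X) (a : Fin 3) (h : e ^ (a : ℕ) * c = 1) : a = 0 := by
  have hm : e ^ (a : ℕ) ∈ X ⊓ Ce X := by
    refine ⟨pow_mem he _, ?_⟩
    rw [eq_inv_of_mul_eq_one_left h]
    exact (Ce X).inv_mem hc
  rw [hX, mem_bot] at hm
  fin_cases a
  · rfl
  · exact absurd (by simpa using hm) h1
  · exfalso
    apply h1
    have h2 : e ^ 2 = 1 := hm
    rw [pow_succ, h2, one_mul] at h3
    exact h3

theorem le_ce [Finite G] {K L : Subgroup G} (hK : IsComponentOf K ⊤) (hL : IsComponentOf L ⊤)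
    (h : K ≠ L) : K ≤ Ce L :=
  Subgroup.commutator_eq_bot_iff_le_centralizer.mp
    (((H14.cp_iff.mpr hK).eq_or_commute (H14.cp_iff.mpr hL)).resolve_left h)

theorem comp_cj {K : Subgroup G} (hK : IsComponentOf K ⊤) (g : G) : IsComponentOf (cj g K) ⊤ :=
  H14.cp_iff.mp ((H14.cp_iff.mpr hK).cj_of_mem_normalizer (by
    rw [Subgroup.normalizer_eq_top]; trivial))

theorem jobCB1 : JobCB1.{u} := by
  intro hCA G _ _ P K y z h hy hK b hb
  have hyz : Commute y z := by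
    have := h.cz h.yP
    rw [mem_centralizer_singleton_iff] at this
    exact this
  have hy3 : y ^ 3 = 1 := by rw [← h.y3]; exact pow_orderOf_eq_one y
  have hz3 : z ^ 3 = 1 := by rw [← h.z3]; exact pow_orderOf_eq_one z
  by_contra hbK
  have hb4 : b = (b * b) * (b * b) := by
    rw [show (b * b) * (b * b) = b ^ 3 * b by simp only [pow_succ, pow_zero, one_mul, mul_assoc],
      hb, one_mul]
  have h12 : K ≠ cj b K := fun e => hbK (cj_eq_self_iff.mp e.symm)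
  have h13 : K ≠ cj (b * b) K := fun e => hbK (by
    have hbb : b * b ∈ No K := cj_eq_self_iff.mp e.symm
    rw [hb4]; exact mul_mem hbb hbb)
  have h23 : cj b K ≠ cj (b * b) K := fun e => h12 (by
    rw [← cj_cj] at e
    exact cj_inj.mp e)
  have hJ := comp_cj hK b
  have hJ' := comp_cj hK (b * b)
  obtain ⟨e1, ⟨m1, n1⟩, o1⟩ := ((hCA G P K y z h hK).2 (hy K hK)).1
  obtain ⟨e2, ⟨m2, n2⟩, o2⟩ := ((hCA G P _ y z h hJ).2 (hy _ hJ)).1
  obtain ⟨e3, ⟨m3, n3⟩, o3⟩ := ((hCA G P _ y z h hJ').2 (hy _ hJ')).1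
  obtain ⟨i1, j1, q1⟩ := mem_ex hyz hy3 hz3 n1
  obtain ⟨i2, j2, q2⟩ := mem_ex hyz hy3 hz3 n2
  obtain ⟨i3, j3, q3⟩ := mem_ex hyz hy3 hz3 n3
  have cube : ∀ i j : ℕ, (y ^ i * z ^ j) ^ 3 = 1 := fun i j => by
    rw [pow_ex hyz, mul_comm i, mul_comm j, pow_mul, pow_mul, hy3, hz3]; simp
  obtain ⟨a, c, d, hne, s1, s2⟩ := dep i1 j1 i2 j2 i3 j3
  have r1 : e1 ^ (a : ℕ) * (e2 ^ (c : ℕ) * e3 ^ (d : ℕ)) = 1 := by
    rw [← mul_assoc, q1, q2, q3, pow_ex hyz, pow_ex hyz, pow_ex hyz, mul_ex hyz, mul_ex hyz,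
      pow_red hy3, pow_red hz3, s1, s2]
    simp
  have ha : a = 0 := ind (h.str.cm K hK).2.sm.cen m1 (q1 ▸ cube _ _) o1
    (mul_mem (pow_mem (le_ce hJ hK h12.symm m2) _) (pow_mem (le_ce hJ' hK h13.symm m3) _)) a r1
  subst ha
  have r2 : e2 ^ (c : ℕ) * e3 ^ (d : ℕ) = 1 := by simpa using r1
  have hc : c = 0 := ind (h.str.cm _ hJ).2.sm.cen m2 (q2 ▸ cube _ _) o2
    (pow_mem (le_ce hJ' hJ h23.symm m3) _) c r2
  subst hc
  have r3 : e3 ^ (d : ℕ) * 1 = 1 := by simpa using r2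
  have hd : d = 0 := ind (h.str.cm _ hJ').2.sm.cen m3 (q3 ▸ cube _ _) o3 (one_mem _) d r3
  subst hd
  simp at hne

end H79.Dp0CB1
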