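import Cfsg.Agent.H28.TESpec

/-! Tower NF (S1308), chapter TE part 1, job On. -/

set_option autoImplicit false

open Cfsg Subgroup H14 H98 H1.Gold H31.S2 H14.GC H14.FE H14.NF H28.TE
open scoped commutatorElement

namespace H79.TeOn

universe u

variable {G : Type u} [Group G]

/-- Conjugacy under `N`. -/
def Cn (N : Subgroup G) (a b : G) : Prop := ∃ h ∈ N, h * a * h⁻¹ = b

theorem Cn.symm {N : Subgroup G} {a b : G} (h : Cn N a b) : Cn N b a := by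
  obtain ⟨g, hg, rfl⟩ := h
  exact ⟨g⁻¹, inv_mem hg, by group⟩

theorem Cn.trans {N : Subgroup G} {a b c : G} (h : Cn N a b) (k : Cn N b c) : Cn N a c := by
  obtain ⟨g, hg, rfl⟩ := h
  obtain ⟨g', hg', rfl⟩ := k
  exact ⟨g' * g, mul_mem hg' hg, by group⟩

theorem jobOn : JobOn.{u} := by
  intro kt kp ars sw s0 sq G _ _ Q Q₁ E Q₂ T ln R ar fu e he e1
  have k := kt G Q Q₁ E Q₂ T ln
  have p := kp G Q Q₁ E Q₂ T ln R ar
  obtain ⟨y0, hy0, ny0⟩ := SetLike.exists_of_lt p.lt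
  have tr0 := p.tr y0 hy0 ny0
  have r1 : y0 * y0 ≠ 1 := sq G Q Q₁ E Q₂ T ln y0 tr0
  obtain ⟨R', ar', -⟩ := ars G Q Q₂ T Q₁ E ln.symm ⊥ IsPGroup.of_bot bot_le fun a _ b hb => by
    rw [mem_bot.1 hb, commutatorElement_one_right]; exact one_mem T
  have p' := kp G Q Q₂ T Q₁ E ln.symm R' ar'
  obtain ⟨v, hv, nv⟩ := SetLike.exists_of_lt p'.lt
  obtain ⟨w, hw⟩ := sw G Q Q₁ E Q₂ T ln y0 v tr0 (p'.tr v hv nv)
  have A : ∀ t ∈ T, t ≠ 1 → ∀ a ∈ E, Cn (nor (E ⊔ T)) t (t * a) := fun t ht t1 a ha => by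
    obtain ⟨y, hy, c⟩ := fu t ht t1 a ha
    refine ⟨y, hy.2, ?_⟩
    have ti : t⁻¹ = t := inv_eq_of_mul_eq_one_left (ln.elT t ht)
    rw [← c, commutatorElement_def, ti, ← mul_assoc, ← mul_assoc, ← mul_assoc, ln.elT t ht, one_mul]
  have B : ∀ a ∈ E, a ≠ 1 → ∀ t ∈ T, Cn (nor (E ⊔ T)) a (a * t) := fun a ha a1 t ht => by
    have h1 := A _ (hw.et a ha) (fun h => a1 (by simpa using h)) _ (hw.te t ht)
    have h2 : Cn (nor (E ⊔ T)) a (w * a * w⁻¹) := ⟨w, hw.nF, rfl⟩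
    have h3 : Cn (nor (E ⊔ T)) (a * t) (w * a * w⁻¹ * (w * t * w⁻¹)) := ⟨w, hw.nF, by group⟩
    exact (h2.trans h1).trans h3.symm
  obtain ⟨t0, m0, i0⟩ := four_exists_inv ln.fT
  obtain ⟨h, hN, hr⟩ : Cn (nor (E ⊔ T)) (y0 * y0) e := by
    have h1 := B _ tr0.sq r1 t0 m0
    have h2 := A t0 m0 i0.1 _ tr0.sq
    have h3 := A t0 m0 i0.1 e he
    have h4 := B e he e1 t0 m0
    rw [ln.comm _ tr0.sq t0 m0] at h1
    rw [ln.comm e he t0 m0] at h4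
    exact ((h1.trans h2.symm).trans h3).trans h4.symm
  have EQ1 : E ≤ Q₁ := ln.sE.le.trans inf_le_left
  have TQ2 : T ≤ Q₂ := ln.sT.le.trans inf_le_left
  have TN : T ≤ nor Q₁ := ln.sT.le.trans inf_le_right
  have hQ : h ∈ nor Q₁ := by
    by_contra hn
    exact ln.hy.ti _ _ (vx_cj ln.v1 h) ln.v1 (fun c => hn (cj_eq_self_iff.1 c)) e
      ⟨hr ▸ conj_mem_cj (EQ1 tr0.sq), EQ1 he⟩ ⟨e1, ln.elE e he⟩
  have tr1 := k.cj y0 tr0 h hN hQ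
  have sq1 : h * y0 * h⁻¹ * (h * y0 * h⁻¹) = e := by rw [← hr]; group
  generalize h * y0 * h⁻¹ = y1 at tr1 sq1
  obtain ⟨y, hy, c0⟩ := fu t0 m0 i0.1 _ (tr1.cm t0 m0)
  have ny : y ∉ E := fun hE => k.nd y1 tr1 t0 m0 i0.1 (by
    rw [← c0]; exact commutatorElement_eq_one_iff_mul_comm.2 (ln.comm y hE t0 m0).symm)
  have tr := p.tr y hy ny
  have c1 : y⁻¹ * y1 ∈ cen1 t0 := by
    refine mem_centralizer_singleton_iff.2 ?_
    calc y⁻¹ * y1 * t0 = y⁻¹ * (⁅t0, y1⁆⁻¹ * t0) * y1 := by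
          simp only [commutatorElement_def]; group
      _ = t0 * (y⁻¹ * y1) := by rw [← c0]; simp only [commutatorElement_def]; group
  have c2 : y⁻¹ * y1 ∈ nor Q₂ := ln.hy.cen_le Q₂ ln.v2 t0 (TQ2 m0) i0 c1
  have c3 : y⁻¹ * y1 ∈ nor (E ⊔ T) := mul_mem (inv_mem (k.nrF y tr)) (k.nrF y1 tr1)
  have c4 : y⁻¹ * y1 ∈ Q₁ := mul_mem (inv_mem tr.mem) tr1.mem
  have al : Al T y y1 := fun t ht => by
    have d1 : y⁻¹ * y1 * t⁻¹ * (y⁻¹ * y1)⁻¹ ∈ T :=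
      k.inT _ (conj_mem_of_mem_normalizer c3 (mem_sup_right (inv_mem ht)))
        (conj_mem_of_mem_normalizer c2 (TQ2 (inv_mem ht)))
    have d2 : ⁅t, y⁻¹ * y1⁆ ∈ T := by
      rw [commutatorElement_def, mul_assoc, mul_assoc, ← mul_assoc (y⁻¹ * y1)]
      exact mul_mem ht d1
    have d3 : ⁅t, y⁻¹ * y1⁆ = 1 :=
      k.dis _ (k.inE _ (mem_sup_right d2) (comm_mem_right (TN ht) c4)) d2
    calc ⁅t, y⁆ = ⁅t, y⁆ * (y * ⁅t, y⁻¹ * y1⁆ * y⁻¹) := by rw [d3]; group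
      _ = ⁅t, y1⁆ := by simp only [commutatorElement_def]; group
  exact ⟨y, hy, (s0 G Q Q₁ E Q₂ T ln y y1 tr tr1 al).trans sq1⟩

end H79.TeOn
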