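/- The double cover of the Rudvalis group; the point stabiliser is not perfect. -/
import Cfsg.Agent.H79.RuP2
import Cfsg.Agent.H79.RuP3
import Cfsg.Agent.H79.RuP5

set_option autoImplicit false
set_option maxRecDepth 100000

namespace H79.Ru

open Cfsg Cfsg.Spor H71 H77 H81 MulAction
open scoped commutatorElement

theorem exists_mp {t : ℕ} (ht : t < 5) (h1 : ∀ v, mp t (gI • v) = gI • mp t v)
    (h2 : ∀ v, ruNorm (mp t v) = ruNorm v) :
    ∃ g : fourRu, ∀ x : ruLattice, ((g • x : ruLattice) : RuVec) = mp t x := by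
  obtain ⟨g, hg⟩ := exists_el' (AddMonoidHom.mk' (fun x : ruLattice =>
    (⟨mp t x, mp_mem ht x.2⟩ : ruLattice)) fun x y => Subtype.ext (mp_add ht _ _))
    (fun x => Subtype.ext (h1 _)) fun x => by rw [← ruNorm_eq, ← ruNorm_eq]; exact h2 _
  exact ⟨g, fun x => by rw [hg]; rfl⟩

theorem sq_mem : io ^ 2 ∈ commutator fourRu := by
  have hi : gI.norm = 1 := by decide
  have hs : ∀ a, gI * (gI * a) = -a := fun a => by
    rw [← mul_assoc, show gI * gI = -1 by decide, neg_one_mul]
  obtain ⟨j, hj⟩ := exists_mp (t := 1) (by norm_num)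
    (fun v => by
      funext ⟨n, t⟩
      fin_cases t
      exacts [rfl, rfl, rfl, (mul_neg _ _).symm])
    fun v => by
      refine (Fintype.sum_prod_type _).trans ((Finset.sum_congr rfl fun n _ => ?_).trans
        (Fintype.sum_prod_type _).symm)
      rw [Fin.sum_univ_four, Fin.sum_univ_four]
      change (gI * v (n, 1)).norm + (gI * v (n, 0)).norm + (v (n, 3)).norm + (-v (n, 2)).norm = _
      simp only [Zsqrtd.norm_mul, hi, Zsqrtd.norm_neg]
      ring
  obtain ⟨k, hk⟩ := exists_mp (t := 2) (by norm_num)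
    (fun v => by
      funext ⟨n, t⟩
      fin_cases t
      exacts [rfl, (mul_neg _ _).symm, rfl, rfl])
    fun v => by
      refine (Fintype.sum_prod_type _).trans ((Finset.sum_congr rfl fun n _ => ?_).trans
        (Fintype.sum_prod_type _).symm)
      rw [Fin.sum_univ_four, Fin.sum_univ_four]
      change (gI * v (n, 2)).norm + (-v (n, 3)).norm + (gI * v (n, 0)).norm + (v (n, 1)).norm = _
      simp only [Zsqrtd.norm_mul, hi, Zsqrtd.norm_neg]
      ring
  have : j * k = io ^ 2 * (k * j) := four_ext fun x => Subtype.ext (by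
    rw [mul_smul, mul_smul, mul_smul, io_sq, AddSubgroup.coe_neg, hj, hk, hk, hj]
    funext ⟨n, t⟩
    fin_cases t
    exacts [mul_neg _ _, (hs _).trans (neg_neg _).symm,
      (neg_neg _).symm.trans (congrArg Neg.neg (hs _).symm), rfl])
  rw [show io ^ 2 = ⁅j, k⁆ by rw [commutatorElement_def, this]; group]
  exact Subgroup.commutator_mem_commutator trivial trivial

instance finite_Ru : Finite Spor.Ru := Nat.finite_of_card_ne_zero (by rw [card]; norm_num)

theorem perfect : commutator Spor.Ru = ⊤ := by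
  have := simple
  refine (inferInstance : (commutator Spor.Ru).Normal).eq_bot_or_eq_top.resolve_left fun h => ?_
  let := Group.commGroupOfCenterEqTop ((commutator_eq_bot_iff_center_eq_top _).1 h)
  have := IsSimpleGroup.prime_card (α := Spor.Ru)
  rw [card] at this
  exact absurd this (by norm_num)

theorem exists_comm (g : fourRu) : ∃ d ∈ commutator fourRu, d⁻¹ * g ∈ Subgroup.center fourRu := by
  obtain ⟨d, hd, e⟩ : (g : Spor.Ru) ∈ (commutator fourRu).map (QuotientGroup.mk' _) := by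
    rw [map_commutator_eq, MonoidHom.range_eq_top.2 (QuotientGroup.mk'_surjective _),
      ← commutator_def, perfect]
    trivial
  exact ⟨d, hd, QuotientGroup.eq.1 e⟩

theorem hasCov : HasCov Spor.Ru 2 := by
  refine ⟨commutator fourRu, inferInstance, (QuotientGroup.mk' _).comp (Subgroup.subtype _),
    ⟨fun g => ?_, fun z hz => ?_, fun z _ => ?_⟩, ⟨_, sq_mem⟩, ?_, ?_⟩
  · obtain ⟨g, rfl⟩ := QuotientGroup.mk_surjective g
    obtain ⟨d, hd, e⟩ := exists_comm g
    exact ⟨⟨d, hd⟩, QuotientGroup.eq.2 e⟩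
  · exact Subgroup.mem_center_iff.2 fun g => Subtype.ext
      (Subgroup.mem_center_iff.1 ((QuotientGroup.eq_one_iff _).1 hz) g)
  · obtain ⟨y, hy, e⟩ : z.1 ∈ (commutator (commutator fourRu)).map (Subgroup.subtype _) := by
      rw [Subgroup.map_subtype_commutator]
      refine (Subgroup.commutator_le (H₁ := ⊤) (H₂ := ⊤)).2 (fun g _ h _ => ?_) z.2
      obtain ⟨d, hd, e⟩ := exists_comm g
      obtain ⟨c, hc, f⟩ := exists_comm h
      have e' := Subgroup.mem_center_iff.1 e
      have f' := Subgroup.mem_center_iff.1 f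
      rw [show ⁅g, h⁆ = ⁅d, c⁆ by
        rw [← mul_inv_cancel_left d g, ← mul_inv_cancel_left c h]
        generalize d⁻¹ * g = u at e'
        generalize c⁻¹ * h = v at f'
        rw [commutatorElement_def, commutatorElement_def, mul_inv_rev, mul_inv_rev, mul_assoc d u,
          ← e' (c * v), ← mul_assoc _ u⁻¹, ← mul_assoc d, mul_inv_cancel_right, ← mul_assoc d,
          mul_assoc _ v, ← f', ← mul_assoc _ d⁻¹, ← mul_assoc _ v⁻¹, mul_inv_cancel_right]]
      exact Subgroup.commutator_mem_commutator hd hc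
    rwa [← Subtype.ext e]
  · exact (QuotientGroup.eq_one_iff _).2 (zI_le (pow_mem io_mem 2))
  · rw [← Subgroup.orderOf_coe, orderOf_pow' _ (by norm_num), orderOf_io]; rfl

theorem io_not_mem : io ∉ commutator fourRu := fun h =>
  RuP2.main fourRu (QuotientGroup.mk' _) ⟨QuotientGroup.mk'_surjective _,
    (QuotientGroup.ker_mk' _).le, by
      rw [QuotientGroup.ker_mk', center_eq]; exact Subgroup.zpowers_le.2 h⟩ (by
    rw [QuotientGroup.ker_mk', center_eq, card_zI]; rfl)

theorem b0 : chkAp (mx RB) (dv Qs 0) (dv Qs 0) = true := by decide +kernel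
theorem b1 : chkAp (mx RB) (dv Qs 621) (mF 0 (dv Qs 621)) = true := by decide +kernel

theorem not_perfect : ¬ θ.range ⊓ stabilizer (Equiv.Perm ℕ) 0 ≤
    ⁅θ.range ⊓ stabilizer (Equiv.Perm ℕ) 0, θ.range ⊓ stabilizer (Equiv.Perm ℕ) 0⁆ := by
  intro h
  have h0 : (0 : ℕ) < 4060 := by norm_num
  have h1 : (621 : ℕ) < 4060 := by norm_num
  have e : θ.range ⊓ stabilizer (Equiv.Perm ℕ) 0 = (stabilizer fourRu (vL Qs 0)).map θ := by
    refine le_antisymm ?_ ?_
    · rintro _ ⟨⟨g, rfl⟩, hg⟩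
      obtain ⟨z, hz, e⟩ := hθ.act g 0 h0
      rw [show θ g 0 = 0 from hg] at e
      exact ⟨z * g, e, by rw [map_mul, hθ.ker z hz, one_mul]⟩
    · rintro _ ⟨g, hg, rfl⟩
      exact ⟨⟨g, rfl⟩, hθ.inj 0 h0 0 h0 g hg⟩
  rw [e, ← Subgroup.map_commutator] at h
  have h2 : stabilizer fourRu (vL Qs 0) ≤ commutator fourRu := fun s hs => by
    obtain ⟨t, ht, e⟩ := h ⟨s, hs, rfl⟩
    have h3 : t⁻¹ * s ∈ zI := orders.1 ▸ show θ (t⁻¹ * s) = 1 by rw [map_mul, map_inv, e]; simp
    rw [← inv_mul_eq_one.1 (zI_fix h3 (hθ.mem 0 h0)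
      (mul_mem (inv_mem (Subgroup.commutator_le_self _ ht)) hs))]
    exact Subgroup.commutator_mono le_top le_top ht
  have a0 : eb • vL Qs 0 = vL Qs 0 :=
    Subtype.ext ((heb.of_chkAp (hθ.coe 0 h0) (dv_le okQs _) b0).trans (hθ.coe 0 h0).symm)
  have a1 : eb • vL Qs 621 = io • vL Qs 621 :=
    Subtype.ext ((heb.of_chkAp (hθ.coe _ h1) (dv_le okQs _) b1).trans (by
      rw [coe_io, hθ.coe _ h1, mp_vf (by norm_num) fun p hp =>
        (dv_le okQs _ p hp).trans (by norm_num)]))
  obtain ⟨g, hg⟩ := hθ.tr 621 h1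
  obtain ⟨z, -, e⟩ := hθ.act g 0 h0
  rw [hg] at e
  generalize z * g = w at e
  have a2 : io⁻¹ * (w⁻¹ * eb * w⁻¹⁻¹) ∈ stabilizer fourRu (vL Qs 0) := by
    rw [mem_stabilizer_iff, inv_inv, mul_smul, mul_smul, mul_smul, e, a1, ← e, ← mul_smul io,
      ← io_comm, mul_smul, inv_smul_smul, inv_smul_smul]
  exact io_not_mem (inv_mem_iff.1 ((Subgroup.mul_mem_cancel_right _
    ((inferInstance : (commutator fourRu).Normal).conj_mem _ (h2 a0) w⁻¹)).1 (h2 a2)))

end H79.Ru
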