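import Cfsg.Agent.H63.QeKit
import Cfsg.Agent.H88.InvAut
import Cfsg.Agent.S2119

/-! Tower QE, job HS, part 2: general lemmas and alternating groups of degree six and eight. -/

set_option autoImplicit false

namespace H79.QH
open Cfsg Subgroup H14 H98 H36.QE Equiv Equiv.Perm
open H14.CO (cen cen1 nor mem_cen mem_cen1)

section
variable {S G : Type*} [Group S] [Group G] [Finite S] [Finite G]

/-- A perfect group lies in every subgroup of index at most four. -/
theorem perf_le {L K H : Subgroup G} (hL : ⁅L, L⁆ = L) (h1 : L ≤ H) (h2 : K ≤ H)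
    (h : Nat.card H < 5 * Nat.card K) : L ≤ K := by
  by_contra n
  have : Group.IsPerfect L := isPerfect_iff.2 hL
  have a := H88.five_le_index_of_perfect (K.subgroupOf L) fun e => n (subgroupOf_eq_top.1 e)
  have b : K.relIndex L ≤ K.relIndex H := relIndex_le_of_le_right h1 index_ne_zero_of_finite
  have c : Nat.card (K.subgroupOf H) * K.relIndex H = Nat.card H := card_mul_index _
  rw [Nat.card_congr (subgroupOfEquivOfLe h2).toEquiv] at c
  change 5 ≤ K.relIndex L at a
  nlinarith

theorem cp_range {A : Type*} [Group A] [IsSimpleGroup A] (ψ : A →* S) {H L : Subgroup S} (hL : CP L H)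
    (h1 : L ≤ ψ.range) (h2 : ψ.range ≤ H) : L = ψ.range :=
  H63.Qe.cp_eq ψ (commutator_le.2 fun _ a _ b => mul_mem (mul_mem (mul_mem a b) (inv_mem a)) (inv_mem b)) le_rfl (hL.of_le h1 h2)

omit [Finite S] in
theorem zl_range {A : Type*} [Group A] (hz : center A = ⊥) {ψ : A →* S} (hψ : Function.Injective ψ) :
    ∀ x ∈ ψ.range, x ∈ cen ψ.range → x = 1 := by
  rintro _ ⟨a, rfl⟩ h
  rw [mem_bot.1 (hz ▸ mem_center_iff.2 fun b => hψ (by rw [map_mul, map_mul]; exact mem_cen.1 h _ ⟨b, rfl⟩) : a ∈ ⊥),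
    map_one]

theorem dp_pull (ι : S →* G) (hι : Function.Injective ι) {x : S} {f : G} {Q : Subgroup G} {p : ℕ}
    (hf : f ∈ ι.range) (hQ : Q ≤ ι.range) (h0 : f * ι x = ι x * f) (hp : f ^ p = 1)
    (h1 : ∀ q ∈ Q, q * ι x = ι x * q) (h2 : IsPGroup 2 Q) (h3 : ∀ q ∈ Q, f * q * f⁻¹ ∈ Q)
    (h4 : Q ≤ ⁅Q, zpowers f⁆) (h5 : ¬ Cy2 Q) : ∃ f ∈ cen1 x, f ^ p = 1 ∧ ∃ Q : Subgroup S, Q ≤ cen1 x ∧
      IsPGroup 2 Q ∧ f ∈ nor Q ∧ Q ≤ ⁅Q, zpowers f⁆ ∧ ¬ Cy2 Q := by
  obtain ⟨f, rfl⟩ := hf
  have e : (Q.comap ι).map ι = Q := map_comap_eq_self hQ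
  refine ⟨f, mem_cen1.2 (hι (by simpa using h0)), hι (by simpa using hp), Q.comap ι,
    fun q hq => mem_cen1.2 (hι (by simpa using h1 _ hq)), h2.comap_of_injective _ hι,
    mem_normalizer_fintype fun n hn => by simpa using h3 _ hn, ?_, fun h => h5 (e ▸ h.map ι)⟩
  rw [← map_le_map_iff_of_injective hι, map_commutator, e, MonoidHom.map_zpowers]; exact h4

omit [Finite S] in
theorem ord2 {s : S} (h : CO.Inv s) : orderOf s = 2 := orderOf_eq_prime (by rw [pow_two, h.2]) h.1
end

theorem simple_alt {k : ℕ} (h : 5 ≤ k) : IsSimpleGroup (alternatingGroup (Fin k)) :=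
  alternatingGroup.isSimpleGroup (by simpa using h)

theorem one_A6 : H36.QE.One (alternatingGroup (Fin 6)) := by
  have key : ∀ x : alternatingGroup (Fin 6), CO.Inv x → (x : Perm (Fin 6)).cycleType = {2, 2} := fun x hx => by
    have o : orderOf (x : Perm (Fin 6)) = 2 := by rw [Subgroup.orderOf_coe, ord2 hx]
    obtain ⟨n, e⟩ := cycleType_prime_order (o ▸ Nat.prime_two : (orderOf (x : Perm (Fin 6))).Prime)
    have s := sum_cycleType_le (x : Perm (Fin 6))
    have g := (sign_of_cycleType _).symm.trans (mem_alternatingGroup.1 x.2)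
    rw [e, o] at s g ⊢
    simp only [Multiset.sum_replicate, smul_eq_mul, Fintype.card_fin] at s
    obtain rfl | rfl | rfl : n = 0 ∨ n = 1 ∨ n = 2 := by omega
    exacts [absurd g (by decide), rfl, absurd g (by decide)]
  intro x y hx hy
  refine alternatingGroup.isConj_of (isConj_of_cycleType_eq ((key x hx).trans (key y hy).symm)) ?_
  rw [← sum_cycleType, key x hx]; decide

/-- a fixed point free involution -/
def c8 : alternatingGroup (Fin 8) := ⟨swap 0 1 * swap 2 3 * swap 4 5 * swap 6 7, mem_alternatingGroup.2 (by decide)⟩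

theorem c1_c8 : C1 c8 := by
  refine ⟨⟨⟨by decide, by decide⟩, ?_⟩, fun φ => ?_⟩
  · have a := nat_card_centralizer (c8 : Perm (Fin 8))
    rw [(by decide +kernel : (c8 : Perm (Fin 8)).cycleType = {2, 2, 2, 2})] at a
    replace a := a.trans (show _ = 384 by decide +kernel)
    set C := centralizer {(c8 : Perm (Fin 8))}
    have b : Nat.card ((alternatingGroup _).subgroupOf C) * (alternatingGroup _).relIndex C = Nat.card C :=
      card_mul_index _
    have c := relIndex_dvd_index_of_normal (alternatingGroup (Fin 8)) C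
    have d : cen1 c8 = C.subgroupOf _ := by ext x; simp [mem_subgroupOf, C, mem_centralizer_singleton_iff, Subtype.ext_iff]
    have e := (cen1 c8).index_mul_card
    have f : Nat.card (cen1 c8) = Nat.card ((alternatingGroup _).subgroupOf C) := by
      rw [d, ← inf_subgroupOf_right, ← inf_subgroupOf_left (alternatingGroup _),
        Nat.card_congr (subgroupOfEquivOfLe inf_le_right).toEquiv,
        Nat.card_congr (subgroupOfEquivOfLe inf_le_left).toEquiv]
    rw [f, nat_card_alternatingGroup] at e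
    rw [alternatingGroup.index_eq_two, Nat.dvd_prime Nat.prime_two] at c
    rw [a] at b
    norm_num [Nat.factorial] at e
    rw [Nat.odd_iff]
    generalize Nat.card ((alternatingGroup _).subgroupOf C) = m at b e
    generalize (cen1 c8).index = i at e
    clear a d f
    rcases c with c | c <;> rw [c] at b
    · obtain rfl : m = 384 := by omega
      omega
    · obtain rfl : m = 192 := by omega
      omega
  · obtain ⟨σ, rfl⟩ := (Cfsg.Agent.S2119.result 8 (by decide) (by decide)).2 φ
    rcases Int.units_eq_one_or (sign σ) with s | s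
    · exact isConj_iff.2 ⟨⟨σ, s⟩, rfl⟩
    · refine isConj_iff.2 ⟨⟨σ * swap 0 1, by simp [mem_alternatingGroup, s]⟩, Subtype.ext ?_⟩
      have : swap 0 1 * c8.1 * (swap (0 : Fin 8) 1)⁻¹ = c8.1 := by decide
      change σ * swap 0 1 * c8.1 * (σ * swap 0 1)⁻¹ = σ * c8.1 * σ⁻¹
      nth_rw 2 [← this]; group

theorem five_A8 {c : alternatingGroup (Fin 8)} (hc : CO.Inv c) (b : MulAut (alternatingGroup (Fin 8)))
    (h : b c = c) (h5 : b ^ 5 = 1) : b = 1 := by
  have : Fact (Nat.Prime 5) := ⟨Nat.prime_five⟩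
  have B := Cfsg.Agent.S2119.result 8 (by decide) (by decide)
  obtain ⟨σ, rfl⟩ := B.2 b
  replace h5 : σ ^ 5 = 1 := B.1 (by rw [map_pow, h5, map_one])
  by_contra n
  have o := orderOf_eq_prime h5 fun e => n (by rw [e, map_one])
  have cm : Commute σ c.1 := mul_inv_eq_iff_eq_mul.1 (congrArg Subtype.val h)
  have l := lcm_cycleType (σ * c.1)
  rw [cm.orderOf_mul_eq_mul_orderOf_of_coprime (by rw [o, Subgroup.orderOf_coe, ord2 hc]; decide), o,
    Subgroup.orderOf_coe, ord2 hc] at l
  have g := sign_of_cycleType (σ * c.1)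
  rw [map_mul, mem_alternatingGroup.1 c.2, mul_one, show sign σ = 1 by
    have := congrArg sign h5
    rcases Int.units_eq_one_or (sign σ) with s | s
    exacts [s, by rw [map_pow, s] at this; exact absurd this (by decide)]] at g
  have s := sum_cycleType_le (σ * c.1)
  have t := fun a => two_le_of_mem_cycleType (σ := σ * c.1) (n := a)
  generalize (σ * c.1).cycleType = m at l g s t
  have v : ∀ a ∈ m, a = 2 ∨ a = 5 := fun a ha => by
    have a1 : a ∣ 5 * 2 := l ▸ Multiset.dvd_lcm ha
    have a2 := (Multiset.single_le_sum (fun _ _ => Nat.zero_le _) a ha).trans s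
    have := t a ha
    rw [Fintype.card_fin] at a2
    interval_cases a <;> simp_all
  have m5 : 5 ∈ m := not_not.1 fun e => absurd (l ▸ Multiset.lcm_dvd.2 fun a ha =>
    (v a ha).elim (·.symm ▸ dvd_rfl) fun k => (e (k ▸ ha)).elim : 5 * 2 ∣ 2) (by decide)
  have m2 : 2 ∈ m := not_not.1 fun e => absurd (l ▸ Multiset.lcm_dvd.2 fun a ha =>
    (v a ha).elim (fun k => (e (k ▸ ha)).elim) (·.symm ▸ dvd_rfl) : 5 * 2 ∣ 5) (by decide)
  obtain ⟨m, rfl⟩ := Multiset.exists_cons_of_mem m5
  obtain ⟨m, rfl⟩ := Multiset.exists_cons_of_mem ((Multiset.mem_cons.1 m2).resolve_left (by decide))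
  obtain rfl : m = 0 := Multiset.eq_zero_of_forall_notMem fun a ha => by
    have := t a (by simp [ha])
    have := Multiset.single_le_sum (fun _ _ => Nat.zero_le _) a ha
    simp at s; omega
  exact absurd g (by decide)

end H79.QH
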