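import Cfsg.Agent.H79.QH1
import Cfsg.Agent.H79.QH2
import Cfsg.Agent.H80.KFHS
import Cfsg.Agent.H56.OutGrp
import Cfsg.Agent.H21.Multiplier
import Cfsg.Agent.S2046
import Cfsg.Agent.S2072

/-! Tower QE, job HS, part 3: the involutory automorphisms of the Higman-Sims group. -/

set_option autoImplicit false
set_option maxRecDepth 100000

namespace H79.QH
open Cfsg Subgroup H14 H98 H36.QE Equiv Equiv.Perm H49 H22.HK H22.HN
open H14.CO (cen cen1 nor mem_cen mem_cen1)
open H22.HN.S12 (B mB mem_B)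

universe u v

instance nN : N.Normal := normal_of_index_eq_two indexN

/-- conjugation -/
noncomputable abbrev cn : P →* MulAut N := MulAut.conjNormal

theorem fix_iff {p : P} {n : N} : n ∈ Fix (cn p) ↔ p * n = n * p := by
  rw [mem_Fix, Subtype.ext_iff, MulAut.conjNormal_apply, mul_inv_eq_iff_eq_mul]

theorem cn_inj : Function.Injective cn := (injective_iff_map_eq_one _).2 fun p e =>
  cenP p fun n hn => fix_iff.1 (show (⟨n, hn⟩ : N) ∈ Fix (cn p) by rw [mem_Fix, e]; rfl)

theorem zN : center N = ⊥ := eq_bot_iff.2 fun x hx => mem_bot.2 (Subtype.ext (cenP _ fun n hn =>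
  (congrArg Subtype.val (Subgroup.mem_center_iff.1 hx ⟨n, hn⟩)).symm))

theorem cn_surj : Function.Surjective cn := by
  obtain ⟨e⟩ := isoN
  have z : center Spor.HS = ⊥ := eq_bot_iff.2 fun x hx => mem_bot.2 (e.symm.injective (by
    rw [map_one]
    exact mem_bot.1 (zN ▸ Subgroup.mem_center_iff.2 fun n => e.injective (by simpa using Subgroup.mem_center_iff.1 hx (e n)))))
  have c : Nat.card (MulAut N) = Nat.card P := by
    rw [Nat.card_congr (MulAut.congr e).toEquiv, H56.card_mulAut_eq _ z, Cfsg.Agent.S2072.result, H79.RepHS.card, cardP]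
  have : Finite (MulAut N) := Nat.finite_of_card_ne_zero (by rw [c, cardP]; norm_num)
  exact ((Nat.bijective_iff_injective_and_card _).2 ⟨cn_inj, c.symm⟩).2

theorem cardFix (p : P) : Nat.card (Fix (cn p)) * N.relIndex (centralizer {p}) = Nat.card (centralizer {p}) := by
  refine (congrArg (· * _) ?_).trans (N.subgroupOf (centralizer {p})).card_mul_index
  rw [show Fix (cn p) = (centralizer {p}).subgroupOf N from
    Subgroup.ext fun n => by rw [fix_iff, mem_subgroupOf, mem_centralizer_singleton_iff, eq_comm],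
    ← inf_subgroupOf_right, ← inf_subgroupOf_left N, Nat.card_congr (subgroupOfEquivOfLe inf_le_right).toEquiv,
    Nat.card_congr (subgroupOfEquivOfLe inf_le_left).toEquiv]

theorem rel2 (p : P) : N.relIndex (centralizer {p}) = 1 ∧ p ∈ N ∨ N.relIndex (centralizer {p}) = 2 :=
  ((Nat.dvd_prime Nat.prime_two).1 (indexN ▸ relIndex_dvd_index_of_normal N _)).imp_left fun e =>
    ⟨e, relIndex_eq_one.1 e (mem_centralizer_singleton_iff.2 rfl)⟩

theorem fix_cen (u : N) : Fix (cn u) = cen1 u := by rw [MulAut.conjNormal_val, Fix_conj]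

theorem chN {u : N} (h : CO.Inv u) : CharP 2 (cen1 u) ∧ Nat.card (cen1 u) = 7680 ∨ Nat.card (cen1 u) = 2880 := by
  obtain ⟨e⟩ := isoN
  obtain ⟨t, h1, h2⟩ := H80.KFHS.classes (e u) (ord2 (inv_congr e h))
  obtain ⟨g, hg⟩ := isConj_iff.1 h2
  have k : (cen1 u).map (e.trans (MulAut.conj g⁻¹)).toMonoidHom = cen1 t := by
    rw [cen1_map]; congr 1; simp [← hg, mul_assoc]
  have i : Function.Injective (e.trans (MulAut.conj g⁻¹)).toMonoidHom := MulEquiv.injective _
  have c : Nat.card (cen1 u) = Nat.card ((cen1 t).map H79.RepHS.ρ) := by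
    rw [card_map_of_injective H79.RepHS.inj, ← k, card_map_of_injective i]
  rcases h1 with h1 | h1
  · obtain ⟨a, s, b, d⟩ := H80.KFHS.cca
    obtain rfl := H79.RepHS.inj (b.trans h1.symm)
    exact .inl ⟨.of_map_injective i (k ▸ .of_map_injective H79.RepHS.inj (d ▸ H80.KFHS.chpa)), by rw [c, d, a]⟩
  · obtain ⟨a, s, b, d⟩ := H80.KFHS.ccb
    obtain rfl := H79.RepHS.inj (b.trans h1.symm)
    exact .inr (by rw [c, d, a])

/-- the central involution -/
noncomputable def zz : N := ⟨zP, mem_N.2 (by decide +kernel)⟩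
/-- the non-central involution -/
noncomputable def jj : N := ⟨wd bP [4, 4, 5, 8, 4, 7], mem_N.2 (by decide +kernel)⟩

theorem zz_inv : CO.Inv zz := ⟨fun e => absurd (congrArg Subtype.val e) (by decide +kernel), Subtype.ext (by decide +kernel)⟩
theorem jj_inv : CO.Inv jj := ⟨fun e => absurd (congrArg Subtype.val e) (by decide +kernel), Subtype.ext (by decide +kernel)⟩

theorem ch_z : CharP 2 (cen1 zz) := by
  refine ((chN zz_inv).resolve_right fun e => ?_).1
  have a := cardFix zz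
  have b : Nat.card (centralizer {(zz : P)}) = 15360 := by rw [← cardCP, ← centZ, πz]; rfl
  rw [fix_cen, e, b] at a
  rcases rel2 zz with c | c
  · rw [c.1] at a; omega
  · rw [c] at a; omega

/-! ### alternating subgroups -/

/-- the points from `4` on -/
def ek (k : ℕ) (h : k ≤ 8) : Fin k ≃ {i : Fin 12 // 4 ≤ i.val ∧ i.val < 4 + k} where
  toFun i := ⟨⟨i.val + 4, by omega⟩, Nat.le_add_left _ _, by simp; omega⟩
  invFun j := ⟨j.1.val - 4, by omega⟩
  left_inv i := Fin.ext (by simp)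
  right_inv j := Subtype.ext (Fin.ext (Nat.sub_add_cancel j.2.1))

theorem ek_comm {k : ℕ} {h : k ≤ 8} (a : Perm (Fin k)) {τ : Perm (Fin 12)}
    (ht : ∀ i : Fin 12, 4 ≤ i.val ∧ i.val < 4 + k → τ i = i) :
    a.extendDomain (ek k h) * τ = τ * a.extendDomain (ek k h) :=
  (show Perm.Disjoint _ _ from fun i => (em _).elim (fun e => .inr (ht i e))
    fun e => .inl (extendDomain_apply_not_subtype _ _ e)).commute

/-- the embedding of the alternating group -/
def αk (k : ℕ) (h : k ≤ 8) : alternatingGroup (Fin k) →* B :=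
  ((extendDomainHom (ek k h)).comp (alternatingGroup _).subtype).codRestrict B fun a =>
    mem_B.2 ⟨ek_comm _ fun i e => (by decide : ∀ i : Fin 12, 4 ≤ i.val → S12.t i = i) i e.1,
      (sign_extendDomain _ _).trans a.2⟩

theorem α_N {k : ℕ} (h : k ≤ 8) (a : alternatingGroup (Fin k)) : π (β (αk k h a)) ∈ N := by
  refine (show ⊤ ≤ N.comap (π.comp (β.comp (αk k h))) from ?_) (mem_top a)
  rw [← alternatingGroup.closure_isThreeCycles_eq_top, closure_le]
  intro g hg
  have e : g ^ 3 = 1 := Subtype.ext (by rw [← hg.orderOf]; exact pow_orderOf_eq_one _)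
  rw [show g = g ^ 2 * g ^ 2 by rw [← pow_add, pow_succ, e, one_mul], SetLike.mem_coe, mem_comap, map_mul]
  exact N.mul_self_mem_of_index_two indexN _

/-- the embedding into the simple group -/
noncomputable def ψ (k : ℕ) (h : k ≤ 8) : alternatingGroup (Fin k) →* N :=
  (π.comp (β.comp (αk k h))).codRestrict N (α_N h)

theorem ψ_val {k : ℕ} {h : k ≤ 8} {a : alternatingGroup (Fin k)} (w : List ℕ)
    (e : αk k h a = wd gB w := by decide +kernel) : (ψ k h a : P) = wd bP w := πβ w e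

theorem ψ_inj {k : ℕ} (h : k ≤ 8) : Function.Injective (ψ k h) := (injective_iff_map_eq_one _).2 fun a e => by
  have i : ∀ b : B, αk k h a = b → (∀ i : Fin 12, 4 ≤ i.val → b.1 i = i) → a = 1 := fun b e f =>
    Subtype.ext (Equiv.ext fun i => (ek k h).injective (Subtype.ext (by
      have := extendDomain_apply_image a.1 (ek k h) i
      rw [show a.1.extendDomain (ek k h) = b.1 from congrArg Subtype.val e, f _ (ek k h i).2.1] at this
      exact this.symm)))
  rcases (π_ker _).1 (congrArg Subtype.val e) with e | e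
  · exact i 1 (β_inj (e.trans (map_one _).symm)) fun _ _ => rfl
  · exact i tB (β_inj (e.trans β_t.symm)) (by decide)

theorem ψ_comm {k : ℕ} {h : k ≤ 8} {τ : B} (w : List ℕ) (e : τ = wd gB w)
    (ht : ∀ i : Fin 12, 4 ≤ i.val ∧ i.val < 4 + k → τ.1 i = i) : (ψ k h).range ≤ Fix (cn (wd bP w)) := by
  rintro _ ⟨a, rfl⟩
  rw [fix_iff, ← πβ w e]
  exact (((show Commute (αk k h a) τ from Subtype.ext (ek_comm _ ht)).map β).map π).symm

/-- a three-cycle -/
def c3 {k : ℕ} (h : 1 < k) (i : Fin k) : alternatingGroup (Fin k) :=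
  ⟨swap i ⟨1, h⟩ * swap i ⟨0, by omega⟩ * (swap i ⟨1, h⟩ * swap i ⟨0, by omega⟩) *
    (swap i ⟨1, h⟩ * swap i ⟨0, by omega⟩ * (swap i ⟨1, h⟩ * swap i ⟨0, by omega⟩)), by
    rw [mem_alternatingGroup, map_mul, Int.units_mul_self]⟩

theorem cen6 {p : P} (h : (ψ 6 (by decide)).range ≤ Fix (cn p)) : p ∈ VP := cent4 fun i hi => by
  obtain ⟨j, e⟩ := (by decide +kernel : ∀ i ∈ [0, 1, 2, 3], ∃ j : Fin 6, αk 6 (by decide) (c3 (by decide) j) = wd gB [i]) i hi
  rw [← wd_one, ← ψ_val _ e]; exact fix_iff.1 (h ⟨_, rfl⟩)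

theorem cen8 {p : P} (h : (ψ 8 le_rfl).range ≤ Fix (cn p)) : p = 1 ∨ p = wd bP [7] := by
  have k : ∀ i ∈ [0, 1, 2, 3, 4], p * nthD 1 bP i = nthD 1 bP i * p := fun i hi => by
    obtain ⟨j, e⟩ := (by decide +kernel : ∀ i ∈ [0, 1, 2, 3, 4], ∃ j : Fin 8, αk 8 le_rfl (c3 (by decide) j) = wd gB [i]) i hi
    rw [← wd_one, ← ψ_val _ e]; exact fix_iff.1 (h ⟨_, rfl⟩)
  exact (by decide +kernel : ∀ p ∈ VP, p * nthD 1 bP 4 = nthD 1 bP 4 * p → p = 1 ∨ p = wd bP [7]) p
    (cent4 fun i hi => k i (List.mem_append_left [4] hi)) (k 4 (by simp))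

theorem card_ψ {k : ℕ} (h : k ≤ 8) : Nat.card (ψ k h).range = Nat.card (alternatingGroup (Fin k)) :=
  (Nat.card_congr (MonoidHom.ofInjective (ψ_inj h)).toEquiv).symm

theorem card_ψ6 : Nat.card (ψ 6 (by decide)).range = 360 := by
  rw [card_ψ, nat_card_alternatingGroup]; simp [Nat.factorial]
theorem card_ψ8 : Nat.card (ψ 8 le_rfl).range = 20160 := by
  rw [card_ψ, nat_card_alternatingGroup]; simp [Nat.factorial]

theorem z_alt {k : ℕ} (h : 4 ≤ k) : center (alternatingGroup (Fin k)) = ⊥ :=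
  alternatingGroup.center_eq_bot (by simpa using h)

/-! ### the four classes -/

theorem le6 : (ψ 6 (by decide)).range ≤ Fix (cn jj) :=
  ψ_comm (τ := mB (swap 0 3 * swap 0 1 * swap 0 2 * swap 10 11)) _ (by decide +kernel) (by decide)

theorem card_j : Nat.card (cen1 jj) = 2880 := (chN jj_inv).resolve_left fun e => by
  have := card_dvd_of_le le6
  rw [card_ψ6, fix_cen, e.2] at this
  exact absurd this (by decide)

theorem lift_j : Lift4.{v} jj := by
  obtain ⟨e⟩ := isoN
  have := simpleN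
  let σ : N.comap π →* N := (π.comp (N.comap π).subtype).codRestrict N fun x => x.2
  have k : ∀ x ∈ σ.ker, x.1 = 1 ∨ x.1 = t := fun x hx => (π_ker _).1 (congrArg Subtype.val hx)
  have j := πβ (σ := mB (swap 0 3 * swap 0 1 * swap 0 2 * swap 10 11)) [4, 4, 5, 8, 4, 7]
  have := lift4_of_model.{v} (H21.multiplier_congr_left Cfsg.Agent.S2046.result e.symm)
    (by rw [Nat.card_congr Multiplicative.toAdd, Nat.card_zmod]; decide)
    ((IsSimpleGroup.eq_bot_or_eq_top_of_normal (commutator N) inferInstance).resolve_left fun h => jj_inv.1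
      (mem_bot.1 (zN ▸ Subgroup.mem_center_iff.2 fun g => commutatorElement_eq_one_iff_mul_comm.1
        (mem_bot.1 (h ▸ commutator_mem_commutator (mem_top g) (mem_top jj))))))
    σ (fun ⟨p, hp⟩ => by obtain ⟨x, rfl⟩ := π_surj p; exact ⟨⟨x, hp⟩, rfl⟩)
    (fun x hx => Subgroup.mem_center_iff.2 fun g => Subtype.ext (by
      rcases k x hx with a | a <;> simp [a, t_comm]))
    (fun x hx => Subtype.ext (by rcases k x hx with a | a <;> simp [a, t_sq]))
    (y := ⟨β (mB (swap 0 3 * swap 0 1 * swap 0 2 * swap 10 11)), mem_comap.2 (by rw [j]; exact jj.2)⟩)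
    fun e => t_ne (β_t.symm.trans ((β2 (by decide +kernel)).symm.trans (congrArg Subtype.val e)))
  convert this using 1
  exact Subtype.ext j.symm

theorem pv_j {L : Subgroup N} (hL : CP L (Fix (cn jj))) : PV.{v} (cn jj) L := by
  have := simple_alt (k := 6) (by decide)
  have zl := zl_range (z_alt (k := 6) (by decide)) (ψ_inj (by decide))
  have cj : jj ∈ cen (ψ 6 (by decide)).range := mem_cen.2 fun x hx => Subtype.ext (fix_iff.1 (le6 hx)).symm
  let Φ := (ψ 6 (by decide)).noncommCoprod (zpowers jj).subtype fun a b =>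
    mem_cen.1 ((zpowers_le.2 cj) b.2) _ ⟨a, rfl⟩
  have h1 : (ψ 6 (by decide)).range ≤ Φ.range := by rintro _ ⟨a, rfl⟩; exact ⟨(a, 1), mul_one _⟩
  have h2 : Φ.range ≤ Fix (cn jj) := by
    rintro _ ⟨⟨a, b⟩, rfl⟩
    exact mul_mem (le6 ⟨a, rfl⟩) (zpowers_le.2 (fix_iff.2 rfl) b.2)
  have h3 : Nat.card Φ.range ≤ 720 := (Nat.card_le_card_of_surjective _ Φ.rangeRestrict_surjective).trans (by
    rw [Nat.card_prod, Nat.card_zpowers, ord2 jj_inv, ← card_ψ (by decide), card_ψ6])
  have h4 : 720 ≤ Nat.card Φ.range := by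
    obtain ⟨m, e⟩ := card_dvd_of_le h1
    have : m ≠ 1 := fun f => jj_inv.1 (zl _ ((eq_of_le_of_card_ge h1 (by rw [e, f, mul_one])).ge
      ⟨(1, ⟨jj, mem_zpowers _⟩), (congrArg (· * jj) (map_one _)).trans (one_mul _)⟩) cj)
    have : 0 < Nat.card Φ.range := Nat.card_pos
    rw [card_ψ6] at e; omega
  have c := card_j
  rw [← fix_cen] at c
  obtain rfl := cp_range _ hL (perf_le hL.perfect (perf_le hL.perfect hL.le h2 (by omega)) h1
    (by rw [card_ψ6]; omega)) le6
  refine ⟨fun x a b _ => zl x a b, ?_, .inl ⟨?_, .inr (.inr ⟨fun b h _ => ?_, jj, cj, jj_inv.2, lift_j⟩)⟩⟩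
  · have := (Fix (cn jj)).index_mul_card
    rw [c, cardN] at this; omega
  · let a : alternatingGroup (Fin 6) := ⟨swap 0 1 * swap 2 3, mem_alternatingGroup.2 (by decide)⟩
    have e : (ψ 6 (by decide) a : P) = zP := (ψ_val [0, 1, 1, 0]).trans (by decide +kernel)
    exact ⟨⟨xP, x_eqs.1⟩, _, (c1_of_one one_A6 (c := a) ⟨by decide, by decide⟩).congr
      (MonoidHom.ofInjective (ψ_inj (by decide))), Subtype.ext (x_eqs.2.2.1.trans e.symm),
      Subtype.ext (show xP * ψ 6 _ a = ψ 6 _ a * xP from e ▸ x_eqs.2.1)⟩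
  · obtain ⟨p, rfl⟩ := cn_surj b
    rw [← map_mul, (by decide +kernel : ∀ p ∈ VP, p * p = 1) p (cen6 h), map_one]

theorem no_d {L : Subgroup N} : ¬ CP L (Fix (cn dP)) := fun hL => by
  have h1 : L.map N.subtype ≤ closure {s | s ∈ kS} := perf_le (H := centralizer {dP})
    (by rw [← map_commutator, hL.perfect])
    (by rintro _ ⟨x, hx, rfl⟩; exact mem_centralizer_singleton_iff.2 (fix_iff.1 (hL.le hx)).symm)
    (closure_le' fun s hs => mem_centralizer_singleton_iff.2 (kf_d.1 s hs)) (by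
      have a := centD; have := le_cardK
      rw [πd] at a; change Nat.card (centralizer {dP}) < _ at a; omega)
  have h2 : closure {s | s ∈ kS} ≤ normalizer (closure {s | s ∈ fS} : Subgroup P) :=
    closure_le' fun s hs => mem_normalizer_fintype fun n hn => (allF hn).2.2 s hs
  have h3 : (closure {s | s ∈ fS}).subgroupOf N ≤ Fix (cn dP) := fun x hx => fix_iff.2 (mem_centralizer_singleton_iff.1
    (closure_le' (K := centralizer {dP}) (fun s hs => mem_centralizer_singleton_iff.2 (kf_d.2.1 s hs)) hx)).symm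
  have h4 : IsPGroup 2 ((closure {s | s ∈ fS}).subgroupOf N) := fun x =>
    ⟨1, Subtype.ext (Subtype.ext ((sq _).trans (allF x.2).1))⟩
  have hc := hL.commutator_solvable h3 (fun y hy => mem_normalizer_fintype fun n hn =>
    (mem_normalizer_iff.1 (h2 (h1 ⟨y, hy, rfl⟩)) _).1 hn) (by have := h4.isNilpotent; infer_instance)
  exact not_le_cen1 (by rw [← map_mul, (by decide +kernel : dP * dP = 1), map_one]) hL (h3 (x := zz) z_F) ch_z
    fun y hy => mem_cen1.2 (commutatorElement_eq_one_iff_mul_comm.1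
      (mem_bot.1 (hc ▸ commutator_mem_commutator hy (show zz ∈ _ from z_F))))

theorem epN : Ep (⊤ : Subgroup N) := ep_of_e8 (E := (closure {s | s ∈ fS}).subgroupOf N) le_top
  (fun _ hx => Subtype.ext (allF hx).1) (by
    rw [Nat.card_congr (subgroupOfEquivOfLe fun _ hx => (allF hx).2.1).toEquiv]; exact le_cardF.trans' (by decide))

theorem jcj : IsConj (π (β jB)) jj := by
  rw [show (jj : P) = _ from (πβ (σ := mB (swap 0 3 * swap 0 1 * swap 0 2 * swap 10 11)) [4, 4, 5, 8, 4, 7]).symm]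
  exact π.map_isConj (βc (mB (swap 4 10 * swap 5 11)))

theorem dp8 : Dp (ψ 8 le_rfl).range := by
  refine ⟨5, Nat.prime_five, by decide, fun c hc b h1 h2 => ?_, fun x hx => ?_⟩
  · let f := (MonoidHom.ofInjective (ψ_inj (k := 8) le_rfl)).symm
    exact (map_eq_one_iff _ (MulAut.congr f).injective).1 (five_A8 (inv_congr f hc.1.1) (MulAut.congr f b)
      (by show f (b (f.symm (f c))) = f c; rw [f.symm_apply_apply, h1]) (by rw [← map_pow, h2, map_one]))
  have out : ∀ {s : P}, s ∉ N → ¬ IsConj s x := fun n e => by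
    obtain ⟨g, e⟩ := isConj_iff.1 e.symm
    exact n (e ▸ nN.conj_mem _ x.2 g)
  rcases clsP x (congrArg Subtype.val hx.1.2) with e | e | e | e | e
  · exact absurd (Subtype.ext e) hx.1.1
  · obtain ⟨g, e⟩ := isConj_iff.1 e.symm
    have r : ∀ q ∈ N, q ∈ ((MulAut.conj g).toMonoidHom.comp N.subtype).range := fun q hq =>
      ⟨⟨_, nN.conj_mem _ hq g⁻¹⟩, by simp [mul_assoc]⟩
    have e' : ((MulAut.conj g).toMonoidHom.comp N.subtype) x = zP := e.trans πz
    refine dp_pull _ ((MulAut.conj g).injective.comp N.subtype_injective) (f := wd gP wg)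
      (Q := closure {s | s ∈ qS}) (r _ (mem_N.2 (by decide +kernel))) (fun q hq => r q (allQ hq).2.2.1)
      (e' ▸ by decide +kernel) (by decide +kernel) (fun q hq => e' ▸ (allQ hq).2.1)
      (fun q => ⟨2, Subtype.ext ((show q.1 ^ 2 ^ 2 = _ by rw [sq, pow_mul, sq, sq]).trans (allQ q.2).1)⟩) (fun q hq => (allQ hq).2.2.2)
      (closure_le' fun s hs => ?_) fun ⟨q, hq, a⟩ => ?_
    · obtain ⟨w, -, rfl⟩ := q_cm s hs
      exact commutator_mem_commutator (wd_mem_closure _ _) (mem_zpowers _)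
    · have := orderOf_le_of_pow_eq_one (n := 4) (by decide) ((show q ^ (2 * 2) = _ by rw [pow_mul, sq, sq]).trans (allQ hq).1)
      have := le_cardQ
      omega
  · exact (out (by rw [πc, mem_N]; decide +kernel) e).elim
  · exact (out (by rw [πd, mem_N]; decide +kernel) e).elim
  · obtain ⟨g, e⟩ := isConj_iff.1 (e.symm.trans jcj)
    have a := (hx.congr (cn g)).2
    have b := (cen1 jj).index_mul_card
    rw [show cn g x = jj from Subtype.ext e, Nat.odd_iff] at a
    rw [card_j, cardN] at b; omega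

theorem pv_c {L : Subgroup N} (hL : CP L (Fix (cn (wd bP [7])))) : PV.{v} (cn (wd bP [7])) L := by
  have := simple_alt (k := 8) (by decide)
  have le8 : (ψ 8 le_rfl).range ≤ Fix (cn (wd bP [7])) := ψ_comm (τ := cB) _ (by decide +kernel) (by decide)
  have c := cardFix (wd bP [7])
  rw [(rel2 _).resolve_left fun e => absurd (mem_N.1 e.2) (by decide +kernel), ← πc, centC.2, πc] at c
  obtain rfl := cp_range _ hL (perf_le hL.perfect hL.le le8 (by rw [card_ψ8]; omega)) le8
  refine ⟨fun x a b _ => zl_range (z_alt (by decide)) (ψ_inj _) x a b, ?_,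
    .inl ⟨?_, .inr (.inl ⟨fun b h _ _ => ?_, epN, .inr dp8⟩)⟩⟩
  · have := (Fix (cn (wd bP [7]))).index_mul_card
    rw [show Nat.card (Fix (cn (wd bP [7]))) = 40320 by omega, cardN] at this; omega
  · have e : (ψ 8 le_rfl c8 : P) = _ := ψ_val [0, 1, 1, 0, 2, 4, 3, 5, 2, 4]
    exact ⟨⟨xP, x_eqs.1⟩, _, c1_c8.congr (MonoidHom.ofInjective (ψ_inj le_rfl)),
      Subtype.ext (x_eqs.2.2.2.2.trans e.symm), Subtype.ext (show xP * ψ 8 _ c8 = ψ 8 _ c8 * xP from e ▸ x_eqs.2.2.2.1)⟩
  · obtain ⟨p, rfl⟩ := cn_surj b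
    exact (cen8 h).imp (fun e => by rw [e, map_one]) fun e => by rw [e]

theorem kvN : KV.{v} N := KV.of_reps fun a h1 h2 => by
  obtain ⟨p, rfl⟩ := cn_surj a
  rcases clsP p (cn_inj (by rw [map_mul, h1, map_one])) with e | e | e | e | e
  · exact absurd (by rw [e, map_one]) h2
  · exact ⟨cn zz, cn.map_isConj (πz ▸ e).symm, fun L hL => (kv_inner ch_z (by rwa [Fix_conj, ← fix_cen])).elim⟩
  · exact ⟨_, cn.map_isConj (πc ▸ e).symm, fun L => pv_c⟩
  · exact ⟨cn dP, cn.map_isConj (πd ▸ e).symm, fun L hL => (no_d hL).elim⟩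
  · exact ⟨_, cn.map_isConj (e.symm.trans jcj), fun L => pv_j⟩

theorem jobHS : JobHS.{u} := by
  rintro S _ _ _ - ⟨e⟩
  obtain ⟨f⟩ := isoN
  exact KV.congr (e.trans f.symm) kvN

end H79.QH
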