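import Cfsg.Agent.H79.O8b

/-! `JobO2` of `H47.O8Sp`: centralisers of the involutions of `Σ` (`LOCAL3C.md`, §5.18). -/

set_option autoImplicit false
set_option maxRecDepth 100000
set_option synthInstance.maxSize 2048
open Cfsg Subgroup H14 H98 H56.L3 H42.L3 H42.MC H26.MC H47.O8
open H47.MC (V Mat Coord Acts Nr)
open scoped Matrix commutatorElement

namespace H79.O8

universe u

variable {G : Type u} [Group G] [Finite G]

/-- the length of a `Y`-class contained in `X`, when `P ≤ Y` acts freely on `X` -/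
theorem class_len {Y P : Subgroup G} {X : Set G} {w : G} (hw : w ∈ X)
    (hX : ∀ y ∈ Y, ∀ x ∈ X, y * x * y⁻¹ ∈ X) (hP : P ≤ Y)
    (hf : ∀ x ∈ X, ∀ p ∈ P, p ∈ Ce x → p = 1) :
    ∃ n m, n * m = Nat.card Y ∧ m ∣ Nat.card (Ce w) ∧ Nat.card P ∣ n ∧ n ≤ X.ncard := by
  let _ : MulAction Y G := MulAction.compHom G ((MulAut.conj (G := G)).comp Y.subtype)
  have h1 : MulAction.orbit Y w ⊆ X := by
    rintro _ ⟨y, rfl⟩
    exact hX y y.2 w hw
  have h2 : MulAction.stabilizer Y w = (Ce w).subgroupOf Y := Subgroup.ext fun y => mem_Ce'.symm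
  refine ⟨_, _, (MulAction.stabilizer Y w).index_mul_card, ?_, ?_, ?_⟩
  · rw [h2, ← inf_subgroupOf_right, Nat.card_congr (subgroupOfEquivOfLe inf_le_right).toEquiv]
    exact card_dvd_of_le inf_le_left
  · have e := Nat.card_congr (MulAction.selfEquivOrbitsQuotientProd (G := P.subgroupOf Y)
      (X := MulAction.orbit Y w) fun x => (eq_bot_iff_forall _).2 fun g hg =>
        Subtype.ext (Subtype.ext (hf x (h1 x.2) _ g.2 (mem_Ce'.2
          (congrArg Subtype.val (MulAction.mem_stabilizer_iff.1 hg) :)))))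
    rw [Nat.card_prod, Nat.card_congr (subgroupOfEquivOfLe hP).toEquiv] at e
    rw [MulAction.index_stabilizer]
    exact Dvd.intro_left _ e.symm
  · rw [MulAction.index_stabilizer]
    exact Set.ncard_le_ncard h1

omit [Finite G] in
theorem card_fixJ {v : V → G} {J : Subgroup G} (h : Coord v J) {a : G} {M : Mat}
    (ha : Acts v a M) : Nat.card (J ⊓ Ce a : Subgroup G) = Fintype.card {x : V // act M x = x} := by
  have e : ∀ x, v x ∈ Ce a ↔ act M x = x := fun x => by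
    rw [← mulVec_eq, ← acts_mem_Ce h ha, mem_Ce, mem_Ce, eq_comm]
  rw [← Nat.card_eq_fintype_card]
  exact (Nat.card_congr (Equiv.ofBijective (fun x : {x : V // act M x = x} =>
    (⟨v x, v_mem h _, (e _).2 x.2⟩ : (J ⊓ Ce a : Subgroup G)))
    ⟨fun a b e => Subtype.ext (h.inj (congrArg Subtype.val e)), fun g => by
      obtain ⟨x, e'⟩ := (h.mem g).1 g.2.1
      exact ⟨⟨x, (e x).1 (e' ▸ g.2.2)⟩, Subtype.ext e'⟩⟩)).symm

variable {d : Dat G} (h : Loc d) {c : G} {g a w : G}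
include h

/-- representatives of the non-trivial cosets of `⟨t⟩` in the `R_k` -/
theorem exists_tr : ∃ a : Fin 4 → Fin 3 → G, ∀ k, (∀ j, a k j ∈ d.RR k) ∧
    ∀ r ∈ d.RR k, r ∉ zpowers d.t → ∃ j, ∃ s ∈ zpowers d.t, r = a k j * s := by
  have key : ∀ r ∈ d.R, r ∉ zpowers d.t → ∃ j, ∃ s ∈ zpowers d.t, r = ![d.i, d.j, d.i * d.j] j * s :=
      fun r hr h1 => by
    obtain ⟨a, b, rfl⟩ := h.mem_R hr
    have e : d.t * d.j = d.j * d.t := by rw [← h.jj, mul_assoc]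
    fin_cases a <;> fin_cases b
    · exact absurd (by simp) h1
    · exact ⟨1, 1, one_mem _, by simp⟩
    · exact ⟨0, 1, one_mem _, by simp⟩
    · exact ⟨2, 1, one_mem _, by simp⟩
    · exact absurd (by simp [sq, h.ii]) h1
    · exact ⟨1, _, mem_zpowers _, by simp [sq, h.ii, e]⟩
    · exact ⟨0, _, mem_zpowers _, by simp [pow_succ', h.ii]⟩
    · exact ⟨2, _, mem_zpowers _, by simp [pow_succ', h.ii, mul_assoc, e]⟩
  refine ⟨fun k j => d.σ k * ![d.i, d.j, d.i * d.j] j * (d.σ k)⁻¹, fun k => ⟨fun j => ?_, ?_⟩⟩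
  · rw [RR_eq]
    refine conj_mem_cj ?_
    fin_cases j
    exacts [Base.i_mem, Base.j_mem, mul_mem Base.i_mem Base.j_mem]
  · rw [RR_eq]
    rintro _ ⟨r, hr, rfl⟩ h1
    obtain ⟨j, s, hs, rfl⟩ := key r hr (mt (zt_conj (h.σ_t k)).2 h1)
    exact ⟨j, _, (zt_conj (h.σ_t k)).2 hs, by simp [mul_assoc]⟩

theorem fix_comp (ex : Ex d) {r : Fin 4 → G} (hr : ∀ k, r k ∈ d.RR k) {x : V} (hx : mT *ᵥ x = x)
    (e : d.v x ∈ Ce (r 0 * r 1 * r 2 * r 3)) (k : Fin 4) (h1 : r k ∉ zpowers d.t) :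
    dot x (zz k) = 0 := by
  by_contra h0
  have h2 := fun k => conj_mem_of_mem_normalizer (h.D_RR k (h.v_D hx)) (hr k)
  refine h1 (h.fr.fpf k x hx h0 _ (hr k) (ex.ind (fun k => d.v x * r k * (d.v x)⁻¹ * (r k)⁻¹)
    (fun k => mul_mem (h2 k) (inv_mem (hr k))) ?_ k))
  rw [← h.mul4 ex.cm' (b := fun k => (r k)⁻¹) h2 fun k => inv_mem (hr k), ← h.inv4 ex.cm' hr]
  convert (zpowers d.t).one_mem
  rw [mul_inv_eq_one]
  exact Eq.trans (by group) (mem_Ce'.1 e)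

theorem H_perm (ex : Ex d) (hg : g ∈ d.B ⊔ d.Sg) (k : Fin 4) : ∃ l, H98.cj g (d.RR k) = d.RR l := by
  obtain ⟨b, hb, σ, hσ, rfl⟩ := (mem_sup_left_norm ex.nB).1 hg
  rw [← cj_cj, cj_eq_self (h.nr_of_le ex.cm' (zpowers_le.2 (h.fr.tm k)) (RR_le d k) hσ)]
  exact h.B_perm hb k

theorem dvd_H (hc : Hat d c mC) (ex : Ex d) : 2 ^ 13 ∣ Nat.card (d.B ⊔ d.Sg : Subgroup G) :=
  (card_T h hc ex clo_F LF_T (by decide +kernel)).symm.dvd.trans
    (card_dvd_of_le (sup_le_sup_right (hs_B h clo_F LF_T) _))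

theorem big4 (hc : Hat d c mC) (ex : Ex d) {r : Fin 4 → G} (hr : ∀ k, r k ∈ d.RR k)
    (h1 : ∀ k, r k ∉ zpowers d.t) : 2 ^ 11 ∣ Nat.card (Ce (r 0 * r 1 * r 2 * r 3)) := by
  have key : ∀ x ∈ {x ∈ d.Sg | ∀ k, x ∉ Cn (d.RR k)}, ∃ r : Fin 4 → G, (∀ k, r k ∈ d.RR k) ∧
      (∀ k, r k ∉ zpowers d.t) ∧ x = r 0 * r 1 * r 2 * r 3 := fun x hx => by
    obtain ⟨r, hr, rfl⟩ := ex.nf x hx.1
    refine ⟨r, hr, fun k e => hx.2 k ?_, rfl⟩
    have : ∀ l, r l ∈ Cn (d.RR k) := fun l => by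
      by_cases e' : l = k
      · rcases h.mem_zt.1 e with e | e <;> rw [e', e]
        exacts [one_mem _, fun s hs => mem_Ce.1 (h.fr.le k hs)]
      · exact ex.comm l k e' (hr l)
    exact mul_mem (mul_mem (mul_mem (this 0) (this 1)) (this 2)) (this 3)
  obtain ⟨n, m, e1, e2, e3, e4⟩ := class_len (Y := d.B ⊔ d.Sg) (P := d.D)
    (X := {x ∈ d.Sg | ∀ k, x ∉ Cn (d.RR k)}) (w := r 0 * r 1 * r 2 * r 3)
    ⟨mul_mem (mul_mem (mul_mem (RR_le d _ (hr 0)) (RR_le d _ (hr 1))) (RR_le d _ (hr 2)))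
      (RR_le d _ (hr 3)), fun k e => h1 k (h.ind' ex.cm' hr k fun s hs => e s hs)⟩
    (fun y hy x hx => ⟨conj_mem_of_mem_normalizer (H_nr ex hy) hx.1, fun k e => by
      obtain ⟨l, e'⟩ := H_perm h ex (inv_mem hy) k
      refine hx.2 l ?_
      rw [← e', Cn, ← cj_centralizer, mem_cj, inv_inv]
      exact e⟩) (Loc.D_B.trans le_sup_left) fun x hx p hp e => by
      obtain ⟨r, a1, a2, rfl⟩ := key x hx
      obtain ⟨y, hy, rfl⟩ := h.mem_D.1 hp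
      rw [(by decide +kernel : ∀ x : V, mT *ᵥ x = x → (∀ k, dot x (zz k) = 0) → x = 0) y hy
        fun k => fix_comp h ex a1 hy e k (a2 k), v_zero h.co]
  obtain ⟨a, ha⟩ := exists_tr h
  have e5 : n ≤ 162 := e4.trans ((Set.ncard_le_ncard (t := Set.range
      fun p : (Fin 4 → Fin 3) × Fin 2 => a 0 (p.1 0) * a 1 (p.1 1) * a 2 (p.1 2) * a 3 (p.1 3) *
        d.t ^ p.2.val) fun x hx => by
      obtain ⟨r, a1, a2, rfl⟩ := key x hx
      choose j s hs e using fun k => (ha k).2 _ (a1 k) (a2 k)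
      rw [e 0, e 1, e 2, e 3, ← h.mul4 ex.cm' (a := fun k => a k (j k)) (fun k => (ha k).1 _)
        fun k => zpowers_le.2 (h.fr.tm k) (hs k)]
      rcases h.mem_zt.1 (mul_mem (mul_mem (mul_mem (hs 0) (hs 1)) (hs 2)) (hs 3)) with e | e <;>
        rw [e]
      exacts [⟨(j, 0), by simp⟩, ⟨(j, 1), by simp⟩]).trans (by
        rw [← Set.image_univ]
        exact (Set.ncard_image_le).trans (by simp [Set.ncard_univ])))
  rw [card_fixJ h.co h.aT, show Fintype.card {x : V // act mT x = x} = 27 by decide +kernel] at e3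
  have e6 := e1 ▸ dvd_H h hc ex
  have e7 : 0 < n * m := e1 ▸ Nat.card_pos
  refine Dvd.dvd.trans ?_ e2
  obtain ⟨n, rfl⟩ := e3
  obtain _ | _ | _ | _ | _ | _ | _ | n := n <;> omega

theorem big2 (hc : Hat d c mC) (ex : Ex d) (hw : w ∈ d.RR 0 ⊔ d.RR 1) (h2 : w * w = 1) :
    2 ^ 11 ∣ Nat.card (Ce w) := by
  by_cases h1 : w ∈ zpowers d.t
  · refine ((pow_dvd_pow 2 (by decide)).trans (dvd_H h hc ex)).trans (card_dvd_of_le ?_)
    rcases h.mem_zt.1 h1 with rfl | rfl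
    exacts [fun g _ => mem_Ce.2 (by simp), H_t ex]
  have key : ∀ x ∈ {x ∈ d.RR 0 ⊔ d.RR 1 | x * x = 1 ∧ x ∉ zpowers d.t}, ∃ r ∈ d.RR 0,
      ∃ s ∈ d.RR 1, r ∉ zpowers d.t ∧ s ∉ zpowers d.t ∧ x = r * s := fun x hx => by
    obtain ⟨r, hr, s, hs, rfl⟩ := (mem_sup_left_norm (le_normalizer_of_le_centralizer ex.cm')).1 hx.1
    have e := hx.2.1
    rw [(h.RR_c ex.cm' (by decide) hs hr).mul_mul_mul_comm] at e
    have sq : ∀ x ∈ zpowers d.t, x * x = 1 := fun x hx => by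
      rcases h.mem_zt.1 hx with rfl | rfl
      exacts [one_mul _, h.tt]
    rcases h.fr.sq 0 r hr with a | a <;> rcases h.fr.sq 1 s hs with b | b
    · exact absurd (mul_mem a b) hx.2.2
    · exact absurd (by simpa [sq r a, b] using e) h.t_ne
    · exact absurd (by simpa [sq s b, a] using e) h.t_ne
    · exact ⟨r, hr, s, hs, h.not_zt a, h.not_zt b, rfl⟩
  have hP : d.D ⊓ Ce (d.τ 2) = d.J ⊓ Ce (d.t * d.τ 2) := by
    ext g
    constructor
    · exact fun hg => ⟨hg.1.1, mem_Ce.2 (Commute.mul_right (mem_Ce.1 hg.1.2) (mem_Ce.1 hg.2))⟩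
    · intro hg
      obtain ⟨x, rfl⟩ := (h.mem g).1 hg.1
      obtain ⟨a, b⟩ := (by decide +kernel : ∀ x : V, (mT * mR 2) *ᵥ x = x →
        mT *ᵥ x = x ∧ mR 2 *ᵥ x = x) x
        ((acts_mem_Ce h.co (h.ht.mul (h.hτ 2)).1).1 (mem_Ce.2 (mem_Ce.1 hg.2).symm))
      exact ⟨h.v_D a, mem_Ce.2 (mem_Ce.1 ((acts_mem_Ce h.co (h.hτ 2).1).2 b)).symm⟩
  obtain ⟨n, m, e1, e2, e3, e4⟩ := class_len (Y := Ce d.t ⊓ Nr (d.RR 0 ⊔ d.RR 1))
    (P := d.D ⊓ Ce (d.τ 2)) (X := {x ∈ d.RR 0 ⊔ d.RR 1 | x * x = 1 ∧ x ∉ zpowers d.t}) ⟨hw, h2, h1⟩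
    (fun y hy x hx => ⟨conj_mem_of_mem_normalizer hy.2 hx.1, by rw [conj_mul, hx.2.1]; simp,
      mt (zt_conj hy.1).1 hx.2.2⟩)
    (inf_le_left.trans (le_inf inf_le_right (le_normalizer_sup (h.D_RR 0) (h.D_RR 1))))
    fun x hx p hp e => by
      obtain ⟨r, a1, s, a2, a3, a4, rfl⟩ := key x hx
      obtain ⟨y, hy, rfl⟩ := h.mem_D.1 hp.1
      have := fix_comp h ex (r := ![r, s, 1, 1]) (fun k => by
        fin_cases k
        exacts [a1, a2, one_mem _, one_mem _]) hy (by simpa using e)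
      rw [(by decide +kernel : ∀ x : V, mT *ᵥ x = x → mR 2 *ᵥ x = x → dot x (zz 0) = 0 →
        dot x (zz 1) = 0 → x = 0) y hy ((acts_mem_Ce h.co (h.hτ 2).1).1
        (mem_Ce.2 (mem_Ce.1 hp.2).symm)) (this 0 a3) (this 1 a4), v_zero h.co]
  obtain ⟨a, ha⟩ := exists_tr h
  have e5 : n ≤ 18 := e4.trans ((Set.ncard_le_ncard (t := Set.range
      fun p : Fin 3 × Fin 3 × Fin 2 => a 0 p.1 * a 1 p.2.1 * d.t ^ p.2.2.val) fun x hx => by
      obtain ⟨r, a1, s, a2, a3, a4, rfl⟩ := key x hx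
      obtain ⟨i, r', b1, rfl⟩ := (ha 0).2 _ a1 a3
      obtain ⟨j, s', b2, rfl⟩ := (ha 1).2 _ a2 a4
      rw [(h.RR_c ex.cm' (by decide) (zpowers_le.2 (h.fr.tm 0) b1) ((ha 1).1 j)).mul_mul_mul_comm]
      rcases h.mem_zt.1 (mul_mem b1 b2) with e | e <;> rw [e]
      exacts [⟨(i, j, 0), by simp⟩, ⟨(i, j, 1), by simp⟩]).trans (by
        rw [← Set.image_univ]
        exact (Set.ncard_image_le).trans (by simp [Set.ncard_univ])))
  rw [hP, card_fixJ h.co (h.ht.mul (h.hτ 2)).1,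
    show Fintype.card {x : V // act (mT * mR 2) x = x} = 9 by decide +kernel] at e3
  have e8 : hs d clo_F1 ≤ Ce d.t ⊓ Nr (d.RR 0 ⊔ d.RR 1) := fun f hf => by
    have hB := hs_B h clo_F1 LF1_T hf
    obtain ⟨N, a1, a2⟩ := hf
    have : ∀ k, k = 0 ∨ k = 1 → H98.cj f (d.RR k) ≤ d.RR 0 ⊔ d.RR 1 := fun k hk => by
      obtain ⟨l, hl, e⟩ := LF1_pair N a1 k hk
      rw [h.fr.perm f hB N a2.1 k l (by simpa only [mulVec_eq] using e)]
      rcases hl with rfl | rfl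
      exacts [le_sup_left, le_sup_right]
    refine ⟨hB.2, mem_normalizer_of_cj_le ?_⟩
    rw [cj_sup]
    exact sup_le (this 0 (.inl rfl)) (this 1 (.inr rfl))
  have e6 := (card_T h hc ex clo_F1 LF1_T (by decide +kernel)).symm.dvd.trans
    (card_dvd_of_le (sup_le e8 (le_inf ex.le (h.nr_of_le ex.cm'
      (zpowers_le.2 (mem_sup_left (h.fr.tm 0))) (sup_le (RR_le d 0) (RR_le d 1))))))
  rw [← e1, show LF1.length = 16 from rfl] at e6
  have e7 : 0 < n * m := e1 ▸ Nat.card_pos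
  refine Dvd.dvd.trans ?_ e2
  obtain ⟨n, rfl⟩ := e3
  obtain _ | _ | _ | n := n <;> omega

theorem big (hc : Hat d c mC) (ex : Ex d) (hw : w ∈ d.Sg) (h2 : w * w = 1) :
    2 ^ 11 ∣ Nat.card (Ce w) := by
  obtain ⟨r, hr, rfl⟩ := ex.nf w hw
  have : ∀ k, ∃ b : Fin 2, (b = 0 ↔ r k ∈ zpowers d.t) ∧ r k * r k = d.t ^ b.val := fun k => by
    rcases h.fr.sq k _ (hr k) with e | e
    · refine ⟨0, by simpa using e, ?_⟩
      rcases h.mem_zt.1 e with e | e <;> simp [e, h.tt]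
    · exact ⟨1, by simpa using h.not_zt e, by simpa using e⟩
  choose b b1 b2 using this
  have h3 := h2
  rw [h.mul4 ex.cm' hr hr, b2, b2, b2, b2, ← pow_add, ← pow_add, ← pow_add,
    ← orderOf_dvd_iff_pow_eq_one, orderOf_eq_prime (p := 2) (by rw [sq, h.tt]) h.t_ne] at h3
  rcases (by decide : ∀ b : Fin 4 → Fin 2, 2 ∣ (b 0).val + (b 1).val + (b 2).val + (b 3).val →
    (∀ k, b k ≠ 0) ∨ ∃ k l, k ≠ l ∧ ∀ m, m = k ∨ m = l ∨ b m = 0) b h3 with e | ⟨k, l, kl, e⟩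
  · exact big4 h hc ex hr fun k => mt (b1 k).2 (e k)
  have h4 : ∀ m, r m ∈ d.RR k ⊔ d.RR l := fun m => by
    rcases e m with rfl | rfl | e
    exacts [mem_sup_left (hr _), mem_sup_right (hr _),
      mem_sup_left (zpowers_le.2 (h.fr.tm k) ((b1 m).1 e))]
  obtain ⟨a, a1, a2⟩ := (by simp only [pow_Q1]; decide +kernel : ∀ k l, k ≠ l → ∃ a : Fin 3,
    ((mS k * mQ1 ^ a.val) *ᵥ zz 0 = zz k ∨ (mS k * mQ1 ^ a.val) *ᵥ zz 0 = -zz k) ∧
    ((mS k * mQ1 ^ a.val) *ᵥ zz 1 = zz l ∨ (mS k * mQ1 ^ a.val) *ᵥ zz 1 = -zz l)) k l kl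
  have h5 := mul_mem (h.σ_B k) (pow_mem h.q1_B a)
  have h6 := ((h.hσ k).mul (h.h1.pow a)).1
  have h7 := mul_mem (mul_mem (mul_mem (h4 0) (h4 1)) (h4 2)) (h4 3)
  rw [← h.fr.perm _ h5 _ h6 _ _ a1, ← h.fr.perm _ h5 _ h6 _ _ a2, ← cj_sup] at h7
  obtain ⟨x, hx, e'⟩ := h7
  have e'' : _ * x * _ = _ := e'
  rw [← e'', ← cj_Ce, card_cj]
  refine big2 h hc ex hx ?_
  rw [← e'', conj_mul] at h2
  exact conj_eq_one_iff.1 h2

omit h in
theorem jobO2 : JobO2.{u} := fun _ _ _ _ _ h _ _ hc ex ct =>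
  ⟨odd_H h hc ex ct, fun _ => big h hc ex⟩

end H79.O8
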