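import Cfsg.Agent.H57.U2CSpec
import Cfsg.Agent.H48.DP3Kit

/-! S3275, chapter U2F, job XK. -/

set_option autoImplicit false

namespace H79.U2cXK

open Subgroup Cfsg H98 H96 H97 H48.DP H57.DPC H48.DP2 H96.U2I H57.U2C
open scoped commutatorElement

universe u

theorem sub3 {E : Type u} [Group E] [Finite E] (c9 : Nat.card E = 9) (e3 : ∀ e : E, e ^ 3 = 1)
    {H : Subgroup E} (hH : H ≠ ⊤) {e w : E} (he : e ∈ H) (e1 : e ≠ 1) (hw : w ∈ H) (w1 : w ≠ 1) :
    w = e ∨ w = e⁻¹ := by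
  classical
  have : Fact (Nat.Prime 3) := ⟨Nat.prime_three⟩
  have oe : orderOf e = 3 := orderOf_eq_prime (e3 e) e1
  have h1 : Nat.card H ∣ 3 ^ 2 := by
    have := H.card_subgroup_dvd_card
    rwa [c9] at this
  obtain ⟨k, hk, h2⟩ := (Nat.dvd_prime_pow Nat.prime_three).1 h1
  have h3 : Nat.card H ≤ Nat.card (zpowers e) := by
    rw [Nat.card_zpowers, oe, h2]
    interval_cases k
    · norm_num
    · norm_num
    · exact absurd (H.eq_top_of_card_eq (by rw [h2, c9]; norm_num)) hH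
  have h4 : zpowers e = H := eq_of_le_of_card_ge (zpowers_le_of_mem he) h3
  rw [← h4, mem_zpowers_iff_mem_range_orderOf, oe] at hw
  obtain ⟨i, hi, rfl⟩ := Finset.mem_image.1 hw
  have hi' := Finset.mem_range.1 hi
  interval_cases i
  · exact absurd (pow_zero e) w1
  · exact Or.inl (pow_one e)
  · refine Or.inr (eq_inv_of_mul_eq_one_left ?_)
    rw [← pow_succ]; exact e3 e

theorem card_le_four {E : Type u} [Group E] [Finite E] (c9 : Nat.card E = 9)
    (e3 : ∀ e : E, e ^ 3 = 1) (hc : ∀ a b : E, a * b = b * a) (B : Subgroup (MulAut E))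
    (h2 : ∀ b ∈ B, b * b = 1) (hm : ∀ a ∈ B, ∀ b ∈ B, a * b = b * a) : Nat.card B ≤ 4 := by
  classical
  have sq : ∀ b ∈ B, ∀ u : E, b (b u) = u := fun b hb u => by
    rw [← MulAut.mul_apply, h2 b hb, MulAut.one_apply]
  have ni : ∀ e : E, e = e⁻¹ → e = 1 := fun e h => by
    have h3 := e3 e
    rw [pow_succ, pow_two, mul_eq_one_iff_eq_inv.2 h, one_mul] at h3
    exact h3
  by_cases h : ∀ b ∈ B, (∀ u, b u = u) ∨ ∀ u, b u = u⁻¹
  · have : Nat.card B ≤ Nat.card Bool :=
      Nat.card_le_card_of_injective (fun b : B => decide (∀ u, (b : MulAut E) u = u)) fun a b e => by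
        have e' : (∀ u, (a : MulAut E) u = u) ↔ ∀ u, (b : MulAut E) u = u := decide_eq_decide.1 e
        refine Subtype.ext (MulEquiv.ext fun u => ?_)
        by_cases k : ∀ u, (a : MulAut E) u = u
        · rw [k u, e'.1 k u]
        · rw [(h a a.2).resolve_left k u, (h b b.2).resolve_left (fun k' => k (e'.2 k')) u]
    rw [Nat.card_eq_fintype_card (α := Bool), Fintype.card_bool] at this
    omega
  push Not at h
  obtain ⟨b0, hb0, ⟨u, hu⟩, v, hv⟩ := h
  let Ep : Subgroup E := MonoidHom.eqLocus b0.toMonoidHom (MonoidHom.id E)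
  let Em : Subgroup E :=
    { carrier := {w | b0 w = w⁻¹}
      one_mem' := by simp
      mul_mem' := fun {a b} ha hb => by
        change b0 (a * b) = (a * b)⁻¹
        rw [map_mul, show b0 a = a⁻¹ from ha, show b0 b = b⁻¹ from hb, mul_inv_rev, hc]
      inv_mem' := fun {a} ha => by
        change b0 a⁻¹ = a⁻¹⁻¹
        rw [map_inv, show b0 a = a⁻¹ from ha] }
  have p1 : v * b0 v ∈ Ep := by
    change b0 (v * b0 v) = v * b0 v
    rw [map_mul, sq b0 hb0, hc]
  have n1 : v * b0 v ≠ 1 := fun e => hv (eq_inv_of_mul_eq_one_right e)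
  have p2 : u * (b0 u)⁻¹ ∈ Em := by
    change b0 (u * (b0 u)⁻¹) = (u * (b0 u)⁻¹)⁻¹
    rw [map_mul, map_inv, sq b0 hb0, mul_inv_rev, inv_inv]
  have n2 : u * (b0 u)⁻¹ ≠ 1 := fun e => hu (mul_inv_eq_one.1 e).symm
  have t1 : Ep ≠ ⊤ := fun e => hu (show u ∈ Ep from e ▸ mem_top u)
  have t2 : Em ≠ ⊤ := fun e => hv (show v ∈ Em from e ▸ mem_top v)
  generalize v * b0 v = e1 at p1 n1
  generalize u * (b0 u)⁻¹ = e2 at p2 n2
  have k1 : ∀ b ∈ B, b e1 = e1 ∨ b e1 = e1⁻¹ := fun b hb =>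
    sub3 c9 e3 t1 p1 n1 (by
      change b0 (b e1) = b e1
      rw [← MulAut.mul_apply, hm b0 hb0 b hb, MulAut.mul_apply, show b0 e1 = e1 from p1])
      (fun e => n1 (b.map_eq_one_iff.1 e))
  have k2 : ∀ b ∈ B, b e2 = e2 ∨ b e2 = e2⁻¹ := fun b hb =>
    sub3 c9 e3 t2 p2 n2 (by
      change b0 (b e2) = (b e2)⁻¹
      rw [← MulAut.mul_apply, hm b0 hb0 b hb, MulAut.mul_apply, show b0 e2 = e2⁻¹ from p2, map_inv])
      (fun e => n2 (b.map_eq_one_iff.1 e))
  have : Nat.card B ≤ Nat.card (Bool × Bool) :=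
    Nat.card_le_card_of_injective (fun b : B =>
      (decide ((b : MulAut E) e1 = e1), decide ((b : MulAut E) e2 = e2))) fun a b e => by
      have f1 : (a : MulAut E) e1 = e1 ↔ (b : MulAut E) e1 = e1 :=
        decide_eq_decide.1 (congrArg Prod.fst e)
      have f2 : (a : MulAut E) e2 = e2 ↔ (b : MulAut E) e2 = e2 :=
        decide_eq_decide.1 (congrArg Prod.snd e)
      have g1 : (a : MulAut E) e1 = (b : MulAut E) e1 := by
        by_cases k : (a : MulAut E) e1 = e1
        · rw [k, f1.1 k]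
        · rw [(k1 a a.2).resolve_left k, (k1 b b.2).resolve_left fun k' => k (f1.2 k')]
      have g2 : (a : MulAut E) e2 = (b : MulAut E) e2 := by
        by_cases k : (a : MulAut E) e2 = e2
        · rw [k, f2.1 k]
        · rw [(k2 a a.2).resolve_left k, (k2 b b.2).resolve_left fun k' => k (f2.2 k')]
      have top : MonoidHom.eqLocus (a : MulAut E).toMonoidHom (b : MulAut E).toMonoidHom = ⊤ := by
        by_contra hn
        have q : e2 ∈ Ep := by
          rcases sub3 c9 e3 hn (e := e1) (w := e2) g1 n1 g2 n2 with r | r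
          · exact r ▸ p1
          · exact r ▸ Ep.inv_mem p1
        exact n2 (ni e2 ((show b0 e2 = e2 from q).symm.trans p2))
      exact Subtype.ext (MulEquiv.ext fun w =>
        show w ∈ MonoidHom.eqLocus (a : MulAut E).toMonoidHom (b : MulAut E).toMonoidHom from
          top ▸ mem_top w)
  rwa [Nat.card_prod, Nat.card_eq_fintype_card (α := Bool), Fintype.card_bool] at this

variable {G : Type u} [Group G]

/-- The elements that commute with `a` modulo `Q`. -/
def Cq (Q : Subgroup G) (a : G) : Subgroup G where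
  carrier := {f | f ∈ No Q ∧ ⁅f, a⁆ ∈ Q}
  one_mem' := ⟨one_mem _, by simp⟩
  mul_mem' := fun {f g} hf hg => ⟨mul_mem hf.1 hg.1, by
    rw [show ⁅f * g, a⁆ = f * ⁅g, a⁆ * f⁻¹ * ⁅f, a⁆ by simp only [commutatorElement_def]; group]
    exact mul_mem (conj_mem_of_mem_normalizer hf.1 hg.2) hf.2⟩
  inv_mem' := fun {f} hf => ⟨inv_mem hf.1, by
    rw [show ⁅f⁻¹, a⁆ = f⁻¹ * ⁅f, a⁆⁻¹ * f by simp only [commutatorElement_def]; group]
    exact conj_mem_of_mem_normalizer' hf.1 (inv_mem hf.2)⟩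

theorem jobXK : JobXK.{u} := by
  intro kk G _ _ M Q T R Q₀ E y t x z h a
  obtain ⟨-, syl, -, inf, -, o2, -⟩ := kk G T Q₀ _ h.kq
  have E3 : IsPGroup 3 E := h.kq.F3.to_le le_sup_left
  obtain ⟨-, -, -, -, -, -, hφ⟩ := kk G T Q₀ E
    ⟨h.kq.T2, E3, h.kq.le, h.kq.TQ, le_sup_left.trans h.kq.FQ, h.kE⟩
  have TL : T ≤ Lx T x y := le_sup_left.trans le_sup_left
  have Q2 : IsPGroup 2 Q₀ := h.kq.T2.to_le h.kq.le
  have : Fact (Nat.Prime 3) := ⟨Nat.prime_three⟩
  have main : ∀ A : Subgroup G, A ≤ O2 (Lx T x y) → (∀ b ∈ A, b * b = 1) →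
      (∀ b ∈ A, ∀ c ∈ A, b * c = c * b) → (O2 (T ⊔ (E ⊔ zpowers x))).relIndex A ≤ 4 := by
    intro A hA s1 s2
    have AP : A ≤ O2 (T ⊔ zpowers x) := hA.trans a.lt.h1.le
    have PT : O2 (T ⊔ zpowers x) ≤ T := a.lt.h1.s3.o2_le
    have AT : A ≤ T := AP.trans PT
    choose φ hφ using fun b : A => hφ b (AT b.2)
    have uq : ∀ (e e' : E) (g : G), (e : G)⁻¹ * g ∈ Q₀ → (e' : G)⁻¹ * g ∈ Q₀ → e = e' := by
      intro e e' g h1 h2
      have h3 : ((e⁻¹ * e' : E) : G) ∈ Q₀ := by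
        have := mul_mem h1 (inv_mem h2)
        rwa [show (e : G)⁻¹ * g * ((e' : G)⁻¹ * g)⁻¹ = ((e⁻¹ * e' : E) : G) by
          rw [coe_mul, coe_inv]; group] at this
      by_contra hn
      exact not_mem_of_three Q2 (orderOf_eq_prime (h.ea.2 _ (e⁻¹ * e').2) fun k =>
        hn (inv_mul_eq_one.1 (Subtype.ext k))) h3
    let Φ : A →* MulAut E := MonoidHom.mk' φ fun b c => MulEquiv.ext fun f => by
      refine uq _ _ _ (hφ (b * c) f) ?_
      have := mul_mem (hφ b (φ c f)) (conj_mem_of_mem_normalizer (h.kq.TQ (AT b.2)) (hφ c f))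
      rw [MulAut.mul_apply, coe_mul]
      convert this using 1
      group
    have hker : Φ.ker ≤ (O2 (T ⊔ (E ⊔ zpowers x))).subgroupOf A := fun b hb => by
      have hb' : φ b = 1 := hb
      have le : E ⊔ zpowers x ≤ Cq Q₀ b := by
        refine sup_le (fun e he => ⟨h.kq.FQ (mem_sup_left he), ?_⟩)
          (zpowers_le_of_mem ⟨h.kq.FQ (mem_sup_right (mem_zpowers x)), ?_⟩)
        · have := hφ b (⟨e, he⟩ : E)⁻¹
          rw [hb', MulAut.one_apply, coe_inv, inv_inv] at this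
          rw [commutatorElement_def]
          simpa only [mul_assoc] using this
        · rw [← inf]
          refine ⟨PT ?_, sup_le_sup_left (le_sup_right (a := E)) Q₀ ?_⟩
          · rw [commutatorElement_def]
            exact mul_mem (conj_mem_of_mem_normalizer (self_le_normalizer_pCoreOf _
              (mem_sup_right (mem_zpowers x))) (AP b.2)) (inv_mem (AP b.2))
          · rw [show ⁅x, (b : G)⁆ = x * (b * x⁻¹ * (b : G)⁻¹) by
              rw [commutatorElement_def]; group]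
            exact mul_mem (mem_sup_right (mem_zpowers x)) (conj_mem_of_mem_normalizer
              (h.kx (AT b.2)) (mem_sup_right (inv_mem (mem_zpowers x))))
      exact o2 b (AT b.2) fun f hf => (le hf).2
    have c4 : Nat.card Φ.range ≤ 4 := by
      refine card_le_four h.c9 (fun e => Subtype.ext (h.ea.2 e e.2)) h.ea.1.1.1 _ ?_ ?_
      · rintro _ ⟨b, rfl⟩
        rw [← map_mul, show b * b = 1 from Subtype.ext (s1 b b.2), map_one]
      · rintro _ ⟨b, rfl⟩ _ ⟨c, rfl⟩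
        rw [← map_mul, ← map_mul, show b * c = c * b from Subtype.ext (s2 b b.2 c c.2)]
    rw [← index_ker] at c4
    exact (Nat.le_of_dvd (Nat.pos_of_ne_zero index_ne_zero_of_finite)
      (index_dvd_of_le hker)).trans c4
  refine ⟨syl.pCoreOf_le.trans TL, self_le_normalizer_pCoreOf _, fun p hp A hA ea => ?_, fun hc => ?_⟩
  · have e := relIndex_cj p⁻¹ (O2 (T ⊔ (E ⊔ zpowers x))) A
    rw [cj_eq_self (self_le_normalizer_pCoreOf _ (inv_mem hp))] at e
    rw [← e]
    refine main _ ?_ ?_ ?_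
    · have := cj_mono p⁻¹ hA
      rwa [cj_inv_cj] at this
    · rintro _ ⟨b, hb, rfl⟩
      rw [← map_mul, ← pow_two, ea.2 b hb, map_one]
    · rintro _ ⟨b, hb, rfl⟩ _ ⟨c, hc, rfl⟩
      rw [← map_mul, ← map_mul,
        show b * c = c * b from congrArg Subtype.val (ea.1.1.1 ⟨b, hb⟩ ⟨c, hc⟩)]
  · have hX : ncl (Lx T x y ⊔ (T ⊔ (E ⊔ zpowers x))) (ncl (Lx T x y) (zpowers z)) ≤
        O2 (T ⊔ (E ⊔ zpowers x)) := ncl_le_iff.2 fun g hg => by
      have := cj_mono g (hc g⁻¹ (inv_mem hg))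
      rwa [cj_cj_inv] at this
    have hN := h.eq _ E ((isPGroup_pCoreOf _).to_le hX) (fun e => a.nt (ncl_eq_bot_iff.1 e))
      ((le_sup_left.trans (le_sup_right.trans le_sup_right)).trans (le_normalizer_ncl _ _))
      (le_sup_left.trans h.FM) h.ea h.c9.ge
    exact h.yM (hN (le_normalizer_ncl _ _
      (mem_sup_left (mem_sup_right (mem_sup_right (mem_zpowers y))))))

end H79.U2cXK
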