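import Cfsg.Agent.H7.FSSpec

/-! FS tower (S1144): the `μ(a)` identities of a Moufang hexagon and the assembly of `JobH6`. -/

set_option autoImplicit false
set_option linter.unusedSectionVars false

namespace H79.FSH6

open H12.BN H59.BN H7.FS Subgroup
open H21.BN (Co)
open scoped commutatorElement

section nf
variable {G : Type} [Group G] [Finite G] {x : MP 6 G} {F J J' : Type} [Field F] [AddCommGroup J]
  [Module F J] [AddCommGroup J'] [Module F J'] {c : CP F J J'} (h : H6 x c) (L : Long6 x)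

/-- normal form in `U_[2,6]` -/
def nf (s : F) (y : J') (t : F) (z : J) (u : F) : G :=
  h.x2 s * h.x3 y * h.x4 t * h.x5 z * h.x6 u

theorem nf_inj {s s' : F} {y y' : J'} {t t' : F} {z z' : J} {u u' : F}
    (e : nf h s y t z u = nf h s' y' t' z' u') :
    s = s' ∧ y = y' ∧ t = t' ∧ z = z' ∧ u = u' := by
  have m3 : ∀ y, h.x3 y ∈ II x.U 3 8 := fun y => le_II _ (by decide) (by decide) (h.c3.mem' y)
  have m4 : ∀ (i : ℤ) y, i ≤ 4 → ∀ j : ℤ, 6 ≤ j → h.x4 y ∈ II x.U i j := fun i y hi j hj =>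
    le_II _ hi (by omega) (h.c4.mem' y)
  have m5 : ∀ (i : ℤ) y, i ≤ 5 → ∀ j : ℤ, 6 ≤ j → h.x5 y ∈ II x.U i j := fun i y hi j hj =>
    le_II _ hi (by omega) (h.c5.mem' y)
  have m6 : ∀ (i : ℤ) y, i ≤ 6 → ∀ j : ℤ, 6 ≤ j → h.x6 y ∈ II x.U i j := fun i y hi j hj =>
    le_II _ hi (by omega) (h.c6.mem' y)
  have canc : ∀ (i : ℤ) (a a' b b' : G), a ∈ x.U i → a' ∈ x.U i →
      b ∈ II x.U (i + 1) (i + (6 : ℕ)) → b' ∈ II x.U (i + 1) (i + (6 : ℕ)) → a * b = a' * b' →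
      a = a' ∧ b = b' := fun i a a' b b' ha ha' hb hb' e => by
    have : a'⁻¹ * a = 1 := x.disj i _ (mul_mem (inv_mem ha') ha) (by
      rw [show a'⁻¹ * a = b' * b⁻¹ by rw [inv_mul_eq_iff_eq_mul, ← mul_assoc, ← e]; group]
      exact mul_mem hb' (inv_mem hb))
    obtain rfl : a' = a := inv_mul_eq_one.1 this
    exact ⟨rfl, mul_left_cancel e⟩
  simp only [nf, mul_assoc] at e
  obtain ⟨e2, e⟩ := canc 2 _ _ _ _ (h.c2.mem' s) (h.c2.mem' s')
    (mul_mem (m3 _) (mul_mem (m4 _ _ (by decide) _ (by decide))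
      (mul_mem (m5 _ _ (by decide) _ (by decide)) (m6 _ _ (by decide) _ (by decide)))))
    (mul_mem (m3 _) (mul_mem (m4 _ _ (by decide) _ (by decide))
      (mul_mem (m5 _ _ (by decide) _ (by decide)) (m6 _ _ (by decide) _ (by decide))))) e
  obtain ⟨e3, e⟩ := canc 3 _ _ _ _ (h.c3.mem' y) (h.c3.mem' y')
    (mul_mem (m4 _ _ (by decide) _ (by decide))
      (mul_mem (m5 _ _ (by decide) _ (by decide)) (m6 _ _ (by decide) _ (by decide))))
    (mul_mem (m4 _ _ (by decide) _ (by decide))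
      (mul_mem (m5 _ _ (by decide) _ (by decide)) (m6 _ _ (by decide) _ (by decide)))) e
  obtain ⟨e4, e⟩ := canc 4 _ _ _ _ (h.c4.mem' t) (h.c4.mem' t')
    (mul_mem (m5 _ _ (by decide) _ (by decide)) (m6 _ _ (by decide) _ (by decide)))
    (mul_mem (m5 _ _ (by decide) _ (by decide)) (m6 _ _ (by decide) _ (by decide))) e
  obtain ⟨e5, e⟩ := canc 5 _ _ _ _ (h.c5.mem' z) (h.c5.mem' z')
    (m6 _ _ (by decide) _ (by decide)) (m6 _ _ (by decide) _ (by decide)) e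
  exact ⟨h.c2.inj e2, h.c3.inj e3, h.c4.inj e4, h.c5.inj e5, h.c6.inj e⟩

theorem mem46 {g : G} (hg : g ∈ II x.U 4 6) : ∃ t z u, g = h.x4 t * h.x5 z * h.x6 u := by
  obtain ⟨a, ha, b, hb, rfl⟩ := splitL (normL x (i := 4) (j := 6) (by decide)) g hg
  obtain ⟨a', ha', b', hb', rfl⟩ := splitL (normL x (i := 5) (j := 6) (by decide)) b hb
  rw [show (5 : ℤ) + 1 = 6 from rfl, II_self] at hb'
  obtain ⟨t, rfl⟩ := (h.c4.mem _).1 ha
  obtain ⟨z, rfl⟩ := (h.c5.mem _).1 ha'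
  obtain ⟨u, rfl⟩ := (h.c6.mem _).1 hb'
  exact ⟨t, z, u, (mul_assoc _ _ _).symm⟩

include L

theorem c21 (s : F) (a : J) : h.x2 s * h.x1 a = h.x1 a * h.x2 s :=
  L 2 1 rfl (by decide) (by decide) _ (h.c2.mem' s) _ (h.c1.mem' a)
theorem c23 (s : F) (a : J') : h.x2 s * h.x3 a = h.x3 a * h.x2 s :=
  L 2 3 rfl (by decide) (by decide) _ (h.c2.mem' s) _ (h.c3.mem' a)
theorem c24 (s : F) (a : F) : h.x2 s * h.x4 a = h.x4 a * h.x2 s :=
  L 2 4 rfl (by decide) (by decide) _ (h.c2.mem' s) _ (h.c4.mem' a)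
theorem c25 (s : F) (a : J) : h.x2 s * h.x5 a = h.x5 a * h.x2 s :=
  L 2 5 rfl (by decide) (by decide) _ (h.c2.mem' s) _ (h.c5.mem' a)
theorem c41 (s : F) (a : J) : h.x4 s * h.x1 a = h.x1 a * h.x4 s :=
  L 4 1 rfl (by decide) (by decide) _ (h.c4.mem' s) _ (h.c1.mem' a)
theorem c43 (s : F) (a : J') : h.x4 s * h.x3 a = h.x3 a * h.x4 s :=
  L 4 3 rfl (by decide) (by decide) _ (h.c4.mem' s) _ (h.c3.mem' a)
theorem c45 (s : F) (a : J) : h.x4 s * h.x5 a = h.x5 a * h.x4 s :=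
  L 4 5 rfl (by decide) (by decide) _ (h.c4.mem' s) _ (h.c5.mem' a)
theorem c46 (s : F) (a : F) : h.x4 s * h.x6 a = h.x6 a * h.x4 s :=
  L 4 6 rfl (by decide) (by decide) _ (h.c4.mem' s) _ (h.c6.mem' a)
theorem c63 (s : F) (a : J') : h.x6 s * h.x3 a = h.x3 a * h.x6 s :=
  L 6 3 rfl (by decide) (by decide) _ (h.c6.mem' s) _ (h.c3.mem' a)
theorem c65 (s : F) (a : J) : h.x6 s * h.x5 a = h.x5 a * h.x6 s :=
  L 6 5 rfl (by decide) (by decide) _ (h.c6.mem' s) _ (h.c5.mem' a)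

/-- conjugation by `x1 a` of an element of `U_[3,6]` -/
theorem nf_conj (a : J) (y : J') (t : F) (z : J) (u : F) :
    ∃ t', (h.x1 a)⁻¹ * nf h 0 y t z u * h.x1 a =
      nf h (c.T a y + c.T z (c.sh a) + u * c.N a) (y + c.cr a z + u • c.sh a) t' (z + u • a) u := by
  have e4 : (h.x1 a)⁻¹ * h.x4 t * h.x1 a = h.x4 t := by
    rw [mul_assoc, c41 h L, inv_mul_cancel_left]
  have e : (h.x1 a)⁻¹ * nf h 0 y t z u * h.x1 a = ((h.x1 a)⁻¹ * h.x3 y * h.x1 a) *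
      ((h.x1 a)⁻¹ * h.x4 t * h.x1 a) * ((h.x1 a)⁻¹ * h.x5 z * h.x1 a) *
      ((h.x1 a)⁻¹ * h.x6 u * h.x1 a) := by
    rw [nf, h.c2.zero]; group
  have r : ∀ z y, h.x5 z * h.x3 y = h.x3 y * (h.x4 (-c.T z y) * h.x5 z) := fun z y => by
    rw [← h.r35]; group
  have s23 : ∀ s y g, h.x3 y * (h.x2 s * g) = h.x2 s * (h.x3 y * g) := fun s y g => by
    rw [← mul_assoc, ← c23 h L, mul_assoc]
  have s24 : ∀ s y g, h.x4 y * (h.x2 s * g) = h.x2 s * (h.x4 y * g) := fun s y g => by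
    rw [← mul_assoc, ← c24 h L, mul_assoc]
  have s25 : ∀ s y g, h.x5 y * (h.x2 s * g) = h.x2 s * (h.x5 y * g) := fun s y g => by
    rw [← mul_assoc, ← c25 h L, mul_assoc]
  have s34 : ∀ s y g, h.x4 s * (h.x3 y * g) = h.x3 y * (h.x4 s * g) := fun s y g => by
    rw [← mul_assoc, c43 h L, mul_assoc]
  have s45 : ∀ s y g, h.x5 y * (h.x4 s * g) = h.x4 s * (h.x5 y * g) := fun s y g => by
    rw [← mul_assoc, ← c45 h L, mul_assoc]
  have s35 : ∀ z y g, h.x5 z * (h.x3 y * g) = h.x3 y * (h.x4 (-c.T z y) * (h.x5 z * g)) :=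
    fun z y g => by rw [← mul_assoc, r]; simp only [mul_assoc]
  refine ⟨t + -c.T a (c.sh z) + -c.T z (u • c.sh a) + -(u ^ 2 * c.N a), ?_⟩
  rw [e, e4, h.r13, h.r15, h.r16, nf]
  simp only [h.c2.add, h.c3.add, h.c4.add, h.c5.add, mul_assoc]
  simp only [s23, s24, s25, s34, s35, s45]

omit h L in
theorem cr_self (c : CP F J J') (a : J) : c.cr a a = (2 : F) • c.sh a := by
  have e := c.sh_add a a
  rw [← two_smul F a, c.sh_smul] at e
  rw [← sub_eq_iff_eq_add'.2 e]; module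

omit h L in
theorem N_ne (c : CP F J J') {a : J} (ha : a ≠ 0) : c.N a ≠ 0 := fun e => ha (c.an a e)

/-- the map `J → J'` induced by `μ(x1 a)` -/
def PP (c : CP F J J') (a : J) : J →ₗ[F] J' :=
  c.cr a - ((c.N a)⁻¹ • c.T.flip (c.sh a)).smulRight (c.sh a)

omit h L in
theorem PP_apply (c : CP F J J') (a z : J) :
    PP c a z = c.cr a z - ((c.N a)⁻¹ * c.T z (c.sh a)) • c.sh a := rfl

omit h L in
theorem PP_self (c : CP F J J') {a : J} (ha : a ≠ 0) : PP c a a = -c.sh a := by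
  rw [PP_apply, cr_self, c.T_sh, show (c.N a)⁻¹ * (3 * c.N a) = 3 by field_simp [N_ne c ha]]
  module

omit L in
theorem nf2 (s : F) : h.x2 s = nf h s 0 0 0 0 := by
  simp [nf, h.c3.zero, h.c4.zero, h.c5.zero, h.c6.zero]

variable {a : J} (ha : a ≠ 0)
include ha

omit L ha in
/-- `g^κ`, then `x1 a`, is `λ g^μ λ⁻¹` -/
theorem mu_eq (g : G) : (h.x1 a)⁻¹ * ((x.ka 1 (h.x1 a))⁻¹ * g * x.ka 1 (h.x1 a)) * h.x1 a =
    ((x.mu 1 (h.x1 a))⁻¹ * g * x.mu 1 (h.x1 a)) *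
      ⁅((x.mu 1 (h.x1 a))⁻¹ * g * x.mu 1 (h.x1 a))⁻¹, x.la 1 (h.x1 a)⁆ := by
  rw [commutatorElement_def, MP.mu]; group

omit L in
theorem mu_back {k j : ℤ} (e : j = 8 - k) {g : G} (hg : g ∈ x.U k) :
    (x.mu 1 (h.x1 a))⁻¹ * g * x.mu 1 (h.x1 a) ∈ x.U j := by
  have := Sw.back (sw' x (h.c1.mem' a) (h.c1.ne_one ha) k) g hg
  rwa [show 2 * 1 + ((6 : ℕ) : ℤ) - k = j by push_cast; omega] at this

omit L in
theorem mu_fwd {k j : ℤ} (e : j = 8 - k) {g : G} (hg : g ∈ x.U k) :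
    x.mu 1 (h.x1 a) * g * (x.mu 1 (h.x1 a))⁻¹ ∈ x.U j := by
  have := x.mu_conj (h.c1.mem' a) (h.c1.ne_one ha) hg
  rwa [show 2 * 1 + ((6 : ℕ) : ℤ) - k = j by push_cast; omega] at this

omit L in
theorem E6 (t : F) : (x.mu 1 (h.x1 a))⁻¹ * h.x6 t * x.mu 1 (h.x1 a) = h.x2 (t * c.N a) := by
  obtain ⟨d, hd, e⟩ := key x (by decide) 1 _ (h.c1.mem' a) (h.c1.ne_one ha) (h.x6 t) (h.c6.mem' t)
  obtain ⟨s, hs⟩ := (h.c2.mem _).1 (mu_back h ha (k := 6) (j := 2) rfl (h.c6.mem' t))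
  rw [hs, h.r16, mul_left_inj] at e
  rw [hs]
  have : (h.x2 s)⁻¹ * h.x2 (t * c.N a) = 1 := x.disj 2 _
    (mul_mem (inv_mem (h.c2.mem' _)) (h.c2.mem' _)) (by
      rw [show (h.x2 s)⁻¹ * h.x2 (t * c.N a) = d * (h.x5 (t • a))⁻¹ *
        (h.x4 (-(t ^ 2 * c.N a)))⁻¹ * (h.x3 (t • c.sh a))⁻¹ by
          rw [inv_mul_eq_iff_eq_mul, ← mul_assoc, ← mul_assoc, ← mul_assoc, ← e]; group]
      exact mul_mem (mul_mem (mul_mem (II_mono _ (by decide) (by decide) hd)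
        (inv_mem (le_II _ (by decide) (by decide) (h.c5.mem' _))))
        (inv_mem (le_II _ (by decide) (by decide) (h.c4.mem' _))))
        (inv_mem (le_II _ (by decide) (by decide) (h.c3.mem' _))))
  exact inv_mul_eq_one.1 this

theorem E5 (z : J) : (x.mu 1 (h.x1 a))⁻¹ * h.x5 z * x.mu 1 (h.x1 a) = h.x3 (PP c a z) := by
  have hk : _ ∈ x.U 7 := x.ka_mem (h.c1.mem' a) (h.c1.ne_one ha)
  have hl : _ ∈ x.U 7 := x.la_mem (h.c1.mem' a) (h.c1.ne_one ha)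
  have h1 : _ ∈ II x.U 6 6 :=
    x.comm 5 7 (by decide) (by decide) _ (inv_mem (h.c5.mem' z)) _ (inv_mem hk)
  rw [II_self] at h1
  obtain ⟨β, hβ⟩ := (h.c6.mem _).1 h1
  have e1 : (x.ka 1 (h.x1 a))⁻¹ * h.x5 z * x.ka 1 (h.x1 a) = nf h 0 0 0 z β := by
    rw [nf, ← hβ, h.c2.zero, h.c3.zero, h.c4.zero, commutatorElement_def]; group
  obtain ⟨w, hw⟩ := (h.c3.mem _).1 (mu_back h ha (k := 5) (j := 3) rfl (h.c5.mem' z))
  have e := mu_eq h (a := a) (h.x5 z)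
  obtain ⟨t', e2⟩ := nf_conj h L a 0 0 z β
  rw [e1, e2, hw] at e
  obtain ⟨t, z', u, e3⟩ := mem46 h
    (x.comm 3 7 (by decide) (by decide) _ (inv_mem (h.c3.mem' w)) _ hl)
  rw [e3, show h.x3 w * (h.x4 t * h.x5 z' * h.x6 u) = nf h 0 w t z' u by
    rw [nf, h.c2.zero]; group] at e
  obtain ⟨f2, f3, -⟩ := nf_inj h e
  rw [hw, ← f3, PP_apply, zero_add, sub_eq_add_neg, ← neg_smul]
  congr 3
  rw [map_zero, zero_add] at f2
  field_simp [N_ne c ha]
  linear_combination f2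

theorem E3 (y : J') :
    ∃ w, (x.mu 1 (h.x1 a))⁻¹ * h.x3 y * x.mu 1 (h.x1 a) = h.x5 w ∧ PP c a w = -y := by
  have hk : _ ∈ x.U 7 := x.ka_mem (h.c1.mem' a) (h.c1.ne_one ha)
  have hl : _ ∈ x.U 7 := x.la_mem (h.c1.mem' a) (h.c1.ne_one ha)
  obtain ⟨t, z, β, hβ⟩ := mem46 h
    (x.comm 3 7 (by decide) (by decide) _ (inv_mem (h.c3.mem' y)) _ (inv_mem hk))
  have e1 : (x.ka 1 (h.x1 a))⁻¹ * h.x3 y * x.ka 1 (h.x1 a) = nf h 0 y t z β := by
    rw [nf, h.c2.zero, one_mul, mul_assoc (h.x3 y), mul_assoc (h.x3 y), ← hβ,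
      commutatorElement_def]; group
  obtain ⟨w, hw⟩ := (h.c5.mem _).1 (mu_back h ha (k := 3) (j := 5) rfl (h.c3.mem' y))
  have e := mu_eq h (a := a) (h.x3 y)
  obtain ⟨t', e2⟩ := nf_conj h L a y t z β
  rw [e1, e2, hw] at e
  have h1 : _ ∈ II x.U 6 6 :=
    x.comm 5 7 (by decide) (by decide) _ (inv_mem (h.c5.mem' w)) _ hl
  rw [II_self] at h1
  obtain ⟨u, e3⟩ := (h.c6.mem _).1 h1
  rw [e3, show h.x5 w * h.x6 u = nf h 0 0 0 w u by
    rw [nf, h.c2.zero, h.c3.zero, h.c4.zero]; group] at e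
  obtain ⟨f2, f3, -, f5, -⟩ := nf_inj h e
  refine ⟨w, hw, ?_⟩
  have hy : y = -(c.cr a z + β • c.sh a) := by rw [eq_neg_iff_add_eq_zero, ← add_assoc, f3]
  have hT : c.T z (c.sh a) = -2 * β * c.N a := by
    rw [hy, map_neg, map_add, map_smul, c.T_cr a z a, cr_self, map_smul, c.T_sh] at f2
    simp only [smul_eq_mul] at f2
    linear_combination -f2
  rw [← f5, map_add, map_smul, PP_self c ha, PP_apply, hT, hy,
    show (c.N a)⁻¹ * (-2 * β * c.N a) = -2 * β by field_simp [N_ne c ha]]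
  module

include h in
theorem PP_bij : Function.Bijective (PP c a) := by
  refine ⟨fun z z' e => h.c5.inj ?_, fun y => ?_⟩
  · have := E5 h L ha z
    rw [e, ← E5 h L ha z'] at this
    simpa using this
  · obtain ⟨w, -, e⟩ := E3 h L ha (-y)
    exact ⟨w, by rw [e, neg_neg]⟩

end nf

section resc
variable {G : Type} [Group G] [Finite G] {x : MP 6 G} {F J J' : Type} [Field F] [AddCommGroup J]
  [Module F J] [AddCommGroup J'] [Module F J']

/-- rescale the norm by `α` and identify `J'` with `J` by `φ` -/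
def resc (c : CP F J J') (φ : J ≃ₗ[F] J') (α : F) (hα : α ≠ 0) : CP F J J where
  T := α • c.T.compl₂ φ.toLinearMap
  cr := c.cr.compr₂ φ.symm.toLinearMap
  sh a := φ.symm (c.sh a)
  N a := α * c.N a
  sh_add a b := by rw [c.sh_add, map_add, map_add]; rfl
  sh_smul t a := by rw [c.sh_smul, map_smul]
  N_add a b := by simp [c.N_add, mul_add]
  N_smul t a := by rw [c.N_smul]; ring
  T_cr a b d := by simp [c.T_cr a b d]
  T_sh a := by simp [c.T_sh]; ring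
  an a e := c.an a ((mul_eq_zero.1 e).resolve_left hα)

theorem co_div {f : F → G} {H : Subgroup G} (h : Co f H) {α : F} (hα : α ≠ 0) :
    Co (fun t => f (t / α)) H :=
  h.comp (fun s t => add_div s t α) (Equiv.divRight₀ α hα).bijective

/-- the rescaled coordinates -/
def rescH {c : CP F J J'} (h : H6 x c) (φ : J ≃ₗ[F] J') (α : F) (hα : α ≠ 0) :
    H6 x (resc c φ α hα) where
  x1 := h.x1
  x2 t := h.x2 (t / α)
  x3 y := h.x3 (φ y)
  x4 t := h.x4 (t / α)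
  x5 := h.x5
  x6 := h.x6
  c1 := h.c1
  c2 := co_div h.c2 hα
  c3 := h.c3.comp φ.map_add φ.bijective
  c4 := co_div h.c4 hα
  c5 := h.c5
  c6 := h.c6
  r13 a y := by rw [h.r13]; simp [resc, hα]
  r35 y z := by rw [h.r35]; simp [resc, hα, neg_div]
  r15 a z := by rw [h.r15]; simp [resc, hα, neg_div]
  r26 s t := by rw [h.r26]; congr 2; ring
  r16 a t := by
    rw [h.r16]
    simp only [resc, map_smul, LinearEquiv.apply_symm_apply]
    congr 5 <;> field_simp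

theorem PP_resc (c : CP F J J') (φ : J ≃ₗ[F] J') (α : F) (hα : α ≠ 0) (a z : J) :
    PP (resc c φ α hα) a z = φ.symm (PP c a z) := by
  rw [PP_apply, PP_apply, map_sub, map_smul]
  simp only [resc, LinearMap.compr₂_apply, LinearMap.smul_apply, LinearMap.compl₂_apply,
    LinearEquiv.coe_coe, LinearEquiv.apply_symm_apply, smul_eq_mul]
  congr 2; field_simp

variable {c : CP F J J} (h : H6 x c) (L : Long6 x) {e : J} (he : e ≠ 0) (hN : c.N e = 1)
  (hP : ∀ z, PP c e z = -z)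
include h L he hN hP

theorem PP_sh {a : J} (ha : a ≠ 0) (z : J) :
    PP c a (c.sh (PP c a z)) = -(c.N a • c.sh z) := by
  set m := x.mu 1 (h.x1 a) with hm
  set n := x.mu 1 (h.x1 e) with hn
  have k6 : n * (m⁻¹ * h.x6 1 * m) * n⁻¹ = h.x6 (c.N a) := by
    have := E6 h he (c.N a)
    rw [hN, mul_one] at this
    rw [E6 h ha, one_mul, ← this, ← hn]; group
  have k5 : ∀ z, n * (m⁻¹ * h.x5 z * m) * n⁻¹ = h.x5 (-PP c a z) := fun z => by
    have := E5 h L he (-PP c a z)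
    rw [hP, neg_neg] at this
    rw [E5 h L ha, ← this, ← hn]; group
  have k3 : ∀ y, ∃ w, n * (m⁻¹ * h.x3 y * m) * n⁻¹ = h.x3 w ∧ PP c a w = -y := fun y => by
    obtain ⟨w, e1, e2⟩ := E3 h L ha y
    obtain ⟨w', e3, e4⟩ := E3 h L he w
    rw [hP, neg_inj] at e4
    subst e4
    exact ⟨w', by rw [e1, ← e3, ← hn]; group, e2⟩
  obtain ⟨θ, k1⟩ := (h.c1.mem _).1 (mu_fwd h he (k := 7) (j := 1) rfl
    (mu_back h ha (k := 1) (j := 7) rfl (h.c1.mem' z)))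
  obtain ⟨s, k2⟩ := (h.c2.mem _).1 (mu_fwd h he (k := 6) (j := 2) rfl
    (mu_back h ha (k := 2) (j := 6) rfl (h.c2.mem' (1 * c.N z))))
  obtain ⟨t, k4⟩ := (h.c4.mem _).1 (mu_fwd h he (k := 4) (j := 4) rfl
    (mu_back h ha (k := 4) (j := 4) rfl (h.c4.mem' (-(1 ^ 2 * c.N z)))))
  obtain ⟨w, k3, hw⟩ := k3 ((1 : F) • c.sh z)
  rw [← hm, ← hn] at k1 k2 k4
  have E : nf h (c.N a * c.N θ) (c.N a • c.sh θ) (-(c.N a ^ 2 * c.N θ)) (c.N a • θ) (c.N a) =
      nf h s w t (-PP c a ((1 : F) • z)) (c.N a) := by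
    rw [nf, nf, ← h.r16, ← k2, ← k3, ← k4, ← k5, ← k1, ← k6,
      show (n * (m⁻¹ * h.x1 z * m) * n⁻¹)⁻¹ * (n * (m⁻¹ * h.x6 1 * m) * n⁻¹) *
        (n * (m⁻¹ * h.x1 z * m) * n⁻¹) = n * m⁻¹ * ((h.x1 z)⁻¹ * h.x6 1 * h.x1 z) * m * n⁻¹ by
          group, h.r16]
    group
  obtain ⟨-, f3, -, f5, -⟩ := nf_inj h E
  rw [one_smul] at f5 hw
  have : c.sh (PP c a z) = c.N a • w := by
    rw [← f3, smul_smul, ← sq, ← c.sh_smul, f5, ← neg_one_smul F (PP c a z), c.sh_smul]; simp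
  rw [this, map_smul, hw, smul_neg]

theorem sh_sh (a : J) : c.sh (c.sh a) = c.N a • a := by
  have z0 : c.sh 0 = 0 := by simpa using c.sh_smul 0 0
  rcases eq_or_ne a 0 with rfl | ha
  · rw [z0, z0, smul_zero]
  apply (PP_bij h L ha).1
  have := PP_sh h L he hN hP ha a
  rw [PP_self c ha, ← neg_one_smul F (c.sh a), c.sh_smul] at this
  rw [map_smul, PP_self c ha, smul_neg, ← this]; simp

theorem adj' (a b : J) : c.cr (c.sh a) (c.cr a b) = c.N a • b + c.T b (c.sh a) • a := by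
  have z0 : c.sh 0 = 0 := by simpa using c.sh_smul 0 0
  have n0 : c.N 0 = 0 := by simpa using c.N_smul 0 0
  rcases eq_or_ne a 0 with rfl | ha
  · simp [z0, n0]
  have e1 := PP_sh h L he hN hP ha (a + b)
  rw [map_add, c.sh_add, c.sh_add, map_add, map_add, PP_sh h L he hN hP ha,
    PP_sh h L he hN hP ha, PP_self c ha] at e1
  have e2 : c.cr (c.sh a) (PP c a b) = c.N a • b - c.T b (c.sh a) • a := by
    apply (PP_bij h L ha).1
    rw [map_neg, LinearMap.neg_apply, map_neg] at e1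
    rw [map_sub, map_smul, map_smul, PP_self c ha, PP_apply c a b, smul_sub, smul_smul,
      mul_inv_cancel_left₀ (N_ne c ha), ← PP_apply]
    linear_combination (norm := module) -e1
  rw [PP_apply, map_sub, map_smul, cr_self, sh_sh h L he hN hP, smul_smul, smul_smul,
    show (c.N a)⁻¹ * c.T b (c.sh a) * 2 * c.N a = 2 * c.T b (c.sh a) by
      field_simp [N_ne c ha]] at e2
  rw [sub_eq_iff_eq_add.1 e2]; module

end resc

theorem jobH6b : JobH6b := by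
  rintro G _ _ x L F J J' _ _ _ _ _ c ⟨h⟩
  obtain ⟨g, hg, g1⟩ := x.nontriv 1
  obtain ⟨e, rfl⟩ := (h.c1.mem g).1 hg
  have he : e ≠ 0 := fun e0 => g1 (h.c1.eq_one.2 e0)
  let φ : J ≃ₗ[F] J' := (LinearEquiv.ofBijective (PP c e) (PP_bij h L he)).trans (.neg F)
  have hφ : ∀ z, φ z = -PP c e z := fun _ => rfl
  have hα := inv_ne_zero (N_ne c he)
  have h' := rescH h φ _ hα
  have hN : (resc c φ _ hα).N e = 1 := inv_mul_cancel₀ (N_ne c he)
  have hP : ∀ z, PP (resc c φ _ hα) e z = -z := fun z => by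
    rw [PP_resc, LinearEquiv.symm_apply_eq, map_neg, hφ, neg_neg]
  generalize resc c φ _ hα = d at h' hN hP
  have hs : d.sh e = e := neg_injective (by rw [← PP_self d he, hP])
  have hc : ∀ b, d.cr e b = d.T b e • e - b := fun b => by
    have := hP b
    rw [PP_apply, hN, hs, inv_one, one_mul, sub_eq_iff_eq_add] at this
    rw [this]; abel
  refine ⟨{ d with
    e := e, N_e := hN, sh_e := hs, cr_e := hc, T_symm := fun a b => ?_
    sh_sh := sh_sh h' L he hN hP, adj := adj' h' L he hN hP }, ⟨h'⟩⟩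
  have := d.T_cr e a b
  rw [hc, hc, map_sub, map_sub, map_smul, map_smul, smul_eq_mul, smul_eq_mul] at this
  linear_combination this

section iso
variable {G G' : Type} [Group G] [Group G'] [Finite G] [Finite G'] {x : MP 6 G} {y : MP 6 G'}
  {F J J' : Type} [Field F] [AddCommGroup J] [Module F J] [AddCommGroup J'] [Module F J']

theorem iso6 {c : CP F J J'} (h : H6 x c) (g : H6 y c) (L : Long6 x) (M : Long6 y) :
    ∃ Y, x.Iso y Y := by
  have ad : ∀ {a b : G × G'} {H : Subgroup (G × G')}, a.1 * b.1 = b.1 * a.1 →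
      a.2 * b.2 = b.2 * a.2 → ⁅a, b⁆ ∈ H := fun e1 e2 => by
    rw [commutatorElement_eq_one_iff_mul_comm.2 (Prod.ext e1 e2)]
    exact one_mem _
  refine ⟨fun k => if k = 1 then h.c1.gr g.c1 else if k = 2 then h.c2.gr g.c2 else
    if k = 3 then h.c3.gr g.c3 else if k = 4 then h.c4.gr g.c4 else if k = 5 then h.c5.gr g.c5
    else h.c6.gr g.c6, fun k k1 k2 => ?_, fun i j k1 k2 k3 a ha b hb => ?_⟩
  · obtain rfl | rfl | rfl | rfl | rfl | rfl : k = 1 ∨ k = 2 ∨ k = 3 ∨ k = 4 ∨ k = 5 ∨ k = 6 := by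
      push_cast at k2; omega
    exacts [h.c1.gr_Gr g.c1, h.c2.gr_Gr g.c2, h.c3.gr_Gr g.c3, h.c4.gr_Gr g.c4, h.c5.gr_Gr g.c5,
      h.c6.gr_Gr g.c6]
  · push_cast at k3
    have k4 : i ≤ 5 := by omega
    have k5 : 2 ≤ j := by omega
    interval_cases i <;> interval_cases j <;> obtain ⟨s, rfl⟩ := ha <;> obtain ⟨t, rfl⟩ := hb
    · exact ad (c21 h L _ _).symm (c21 g M _ _).symm
    · have e := h.r13 (-s) t
      have e' := g.r13 (-s) t
      rw [h.c1.neg, inv_inv, ← mul_inv_eq_iff_eq_mul] at e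
      rw [g.c1.neg, inv_inv, ← mul_inv_eq_iff_eq_mul] at e'
      exact le_II _ (k := 2) le_rfl le_rfl ⟨_, Prod.ext e e'⟩
    · exact ad (c41 h L _ _).symm (c41 g M _ _).symm
    · have e := h.r15 (-s) t
      have e' := g.r15 (-s) t
      rw [h.c1.neg, inv_inv, ← mul_inv_eq_iff_eq_mul] at e
      rw [g.c1.neg, inv_inv, ← mul_inv_eq_iff_eq_mul] at e'
      rw [show ⁅(h.x1 s, g.x1 s), (h.x5 t, g.x5 t)⁆ = (h.x2 _, g.x2 _) * (h.x3 _, g.x3 _) *
        (h.x4 _, g.x4 _) from Prod.ext e e']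
      exact mul_mem (mul_mem (le_II _ (k := 2) le_rfl (by decide) ⟨_, rfl⟩)
        (le_II _ (k := 3) (by decide) (by decide) ⟨_, rfl⟩))
        (le_II _ (k := 4) (by decide) le_rfl ⟨_, rfl⟩)
    · have e := h.r16 (-s) t
      have e' := g.r16 (-s) t
      rw [h.c1.neg, inv_inv, ← mul_inv_eq_iff_eq_mul] at e
      rw [g.c1.neg, inv_inv, ← mul_inv_eq_iff_eq_mul] at e'
      rw [show ⁅(h.x1 s, g.x1 s), (h.x6 t, g.x6 t)⁆ = (h.x2 _, g.x2 _) * (h.x3 _, g.x3 _) *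
        (h.x4 _, g.x4 _) * (h.x5 _, g.x5 _) from Prod.ext e e']
      exact mul_mem (mul_mem (mul_mem (le_II _ (k := 2) le_rfl (by decide) ⟨_, rfl⟩)
        (le_II _ (k := 3) (by decide) (by decide) ⟨_, rfl⟩))
        (le_II _ (k := 4) (by decide) (by decide) ⟨_, rfl⟩))
        (le_II _ (k := 5) (by decide) le_rfl ⟨_, rfl⟩)
    · exact ad (c23 h L _ _) (c23 g M _ _)
    · exact ad (c24 h L _ _) (c24 g M _ _)
    · exact ad (c25 h L _ _) (c25 g M _ _)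
    · have e := h.r26 (-s) t
      have e' := g.r26 (-s) t
      rw [h.c2.neg, inv_inv, ← mul_inv_eq_iff_eq_mul] at e
      rw [g.c2.neg, inv_inv, ← mul_inv_eq_iff_eq_mul] at e'
      exact le_II _ (k := 4) (by decide) (by decide) ⟨_, Prod.ext e e'⟩
    · exact ad (c43 h L _ _).symm (c43 g M _ _).symm
    · have e := h.r35 (-s) t
      have e' := g.r35 (-s) t
      rw [h.c3.neg, inv_inv, ← mul_inv_eq_iff_eq_mul] at e
      rw [g.c3.neg, inv_inv, ← mul_inv_eq_iff_eq_mul] at e'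
      exact le_II _ (k := 4) le_rfl le_rfl ⟨_, Prod.ext e e'⟩
    · exact ad (c63 h L _ _).symm (c63 g M _ _).symm
    · exact ad (c45 h L _ _) (c45 g M _ _)
    · exact ad (c46 h L _ _) (c46 g M _ _)
    · exact ad (c65 h L _ _).symm (c65 g M _ _).symm

variable {F' K : Type} [Field F'] [AddCommGroup K] [Module F' K]

/-- transport of coordinates along an isomorphism of cubic norm structures -/
def trans {c : CP F J J} {d : CP F' K K} (g : H6 y d) (φ : F ≃+* F') (ψ : J ≃+ K)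
    (h1 : ∀ (t : F) a, ψ (t • a) = φ t • ψ a) (h2 : ∀ a b, d.T (ψ a) (ψ b) = φ (c.T a b))
    (h3 : ∀ a b, d.cr (ψ a) (ψ b) = ψ (c.cr a b)) (h4 : ∀ a, d.sh (ψ a) = ψ (c.sh a))
    (h5 : ∀ a, d.N (ψ a) = φ (c.N a)) : H6 y c where
  x1 a := g.x1 (ψ a)
  x2 a := g.x2 (φ a)
  x3 a := g.x3 (ψ a)
  x4 a := g.x4 (φ a)
  x5 a := g.x5 (ψ a)
  x6 a := g.x6 (φ a)
  c1 := g.c1.comp ψ.map_add ψ.bijective
  c2 := g.c2.comp φ.map_add φ.bijective
  c3 := g.c3.comp ψ.map_add ψ.bijective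
  c4 := g.c4.comp φ.map_add φ.bijective
  c5 := g.c5.comp ψ.map_add ψ.bijective
  c6 := g.c6.comp φ.map_add φ.bijective
  r13 a b := by rw [g.r13, h2]
  r35 a b := by rw [g.r35, h2, map_neg]
  r15 a b := by rw [g.r15, h4, h4, h2, h2, h3, map_neg]
  r26 s t := by rw [g.r26, map_mul]
  r16 a t := by rw [g.r16, h4, h5, h1, h1, map_neg, map_mul, map_mul, map_pow]

end iso

theorem jobH6I : JobH6I := by
  intro h5 h6a h6b hC
  have key : ∀ (G : Type) [Group G] [Finite G] (x : MP 6 G), Long6 x →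
      ∃ (F J : Type) (_ : Field F) (_ : Finite F) (_ : AddCommGroup J) (_ : Finite J)
        (_ : Module F J) (d : CN F J), Nonempty (H6 x d.toCP) := fun G _ _ x L => by
    obtain ⟨F, J, J', _, _, _, _, _, k⟩ := h5 G x L
    obtain ⟨c, k⟩ := h6a G x L F J J' k
    obtain ⟨d, ⟨k⟩⟩ := h6b G x L F J J' c k
    exact ⟨F, J, _, Finite.of_injective _ k.c6.inj, _, Finite.of_injective _ k.c1.inj, _, d, ⟨k⟩⟩
  refine ⟨fun G _ _ x L => ?_, fun G G' _ _ _ _ x y L M e1 e6 => ?_⟩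
  · obtain ⟨F, J, _, _, _, _, _, d, ⟨k⟩⟩ := key G x L
    rw [k.c6.card, k.c1.card]
    refine ⟨?_, hC.1 F J d⟩
    have := Fintype.ofFinite F
    rw [Nat.card_eq_fintype_card]
    exact FiniteField.isPrimePow_card F
  · obtain ⟨F, J, _, _, _, _, _, c, ⟨k⟩⟩ := key G x L
    obtain ⟨F', J', _, _, _, _, _, d, ⟨l⟩⟩ := key G' y M
    rw [k.c1.card, l.c1.card] at e1
    rw [k.c6.card, l.c6.card] at e6
    obtain ⟨φ, ψ, h1, h2, h3, h4, h5⟩ := hC.2 F J F' J' c d e6 e1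
    exact iso6 k (trans l φ ψ h1 h2 h3 h4 h5) L M

end H79.FSH6
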