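import Cfsg.Agent.H49.A7Kit
import Cfsg.Agent.H49.DCov
import Cfsg.Agent.H15.BigFix
import Cfsg.Agent.S2132
import Cfsg.Agent.S2119
import Cfsg.Agent.H90.LyEnd
import Cfsg.Agent.H90.LyPerm
import Cfsg.Agent.H77.Simple

/-! Tower A7, job Mc: the groups `McL` and `Ly`. -/

set_option autoImplicit false

namespace H79.A7Mc

open Subgroup Cfsg Equiv Equiv.Perm H49 H49.A7

theorem fix_supp {P : Type*} [Fintype P] [DecidableEq P] (hP : Fintype.card P < 14) {c p : Perm P}
    (hc : orderOf c = 7) (h2 : p * p = 1) (h : Commute p c) {a : P} (ha : c a ≠ a) : p a = a := by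
  have cyc : c.IsCycle := isCycle_of_prime_order' (by rw [hc]; norm_num) (by rw [hc]; omega)
  have hb : c (p a) ≠ p a := fun k =>
    ha (p.injective (by rw [← mul_apply, h.eq, mul_apply, k]))
  obtain ⟨k, hk⟩ := cyc.exists_pow_eq ha hb
  have e : (c ^ (k + k)) a = a := by
    rw [pow_add, mul_apply, hk, ← mul_apply, ← (h.pow_right k).eq, mul_apply, hk, ← mul_apply, h2,
      one_apply]
  have h7 : 7 ∣ k + k := hc ▸ orderOf_dvd_of_pow_eq_one ((cyc.pow_eq_one_iff' ha).2 e)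
  rw [← hk, orderOf_dvd_iff_pow_eq_one.1 (hc ▸ (by omega : 7 ∣ k)), one_apply]

variable {Y : Type*} [Group Y] [Finite Y] {σ : MulAut Y} {A : Subgroup Y}

theorem no14 (h : Cf σ A) {x w : Y} (hx : x ∈ A) (hw : w ∈ A) (ox : orderOf x = 7)
    (ow : orderOf w = 2) (c : Commute w x) : False := by
  obtain ⟨e⟩ := h.ty
  have : Fact (Nat.Prime 7) := ⟨by norm_num⟩
  let f : A →* Perm (Fin 7) :=
    (alternatingGroup _).subtype.comp (e.toMonoidHom.comp (QuotientGroup.mk' _))
  have hk : ∀ a : A, f a = 1 → orderOf (a : Y) ∣ 3 := fun a ha => by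
    have m : a ∈ center A := by simpa [f] using ha
    have := orderOf_dvd_natCard (⟨a, m⟩ : center A)
    rw [← orderOf_coe, ← orderOf_coe] at this
    rcases h.kit.card with k | k
    · exact (this.trans (card_eq_one.2 k.2).dvd).trans (one_dvd _)
    · exact k.2 ▸ this
  have o7 : orderOf (f ⟨x, hx⟩) = 7 := orderOf_eq_prime
    (by rw [← map_pow, show (⟨x, hx⟩ : A) ^ 7 = 1 from Subtype.ext (ox ▸ pow_orderOf_eq_one x),
      map_one]) fun k => by simpa [ox] using hk _ k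
  have cyc : (f ⟨x, hx⟩).IsCycle :=
    isCycle_of_prime_order' (by rw [o7]; norm_num) (by rw [o7]; simp)
  have su : (f ⟨x, hx⟩).support = Finset.univ :=
    Finset.eq_univ_of_card _ (by rw [← cyc.orderOf, o7]; simp)
  have : f ⟨w, hw⟩ = 1 := Equiv.ext fun a => fix_supp (by simp) o7
    (by rw [← map_mul, show (⟨w, hw⟩ : A) * ⟨w, hw⟩ = 1 from
      Subtype.ext (by simpa [pow_two, ow] using pow_orderOf_eq_one w), map_one])
    (Commute.map (show Commute (⟨w, hw⟩ : A) ⟨x, hx⟩ from Subtype.ext c) f)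
    (mem_support.1 (su ▸ Finset.mem_univ a))
  simpa [ow] using hk _ this

theorem exists_fix (h2 : σ * σ = 1) {x t : Y} (hx : σ x = x) (ot : orderOf t = 2)
    (c : Commute t x) : ∃ w, orderOf w = 2 ∧ Commute w x ∧ σ w = w := by
  classical
  let C := centralizer ({x} : Set Y)
  have hC : ∀ {y}, y ∈ C ↔ Commute y x := mem_centralizer_singleton_iff
  have := Fintype.ofFinite C
  let f : Function.End C := fun y => ⟨σ y, hC.2 (hx ▸ (hC.1 y.2).map σ)⟩
  have hf : f ^ 2 ^ 1 = 1 := funext fun y => Subtype.ext (DFunLike.congr_fun h2 (y : Y))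
  let K : Subgroup C := (σ.toMonoidHom.comp C.subtype).eqLocus C.subtype
  have e : Nat.card K = Fintype.card f.fixedPoints := by
    rw [← Nat.card_eq_fintype_card]
    exact Nat.card_congr (Equiv.subtypeEquivRight fun y =>
      (Subtype.ext_iff (a1 := f y) (a2 := y)).symm)
  have d : 2 ∣ Fintype.card C := by
    rw [← Nat.card_eq_fintype_card, ← ot]
    exact C.orderOf_dvd_natCard (hC.2 c)
  obtain ⟨w, hw⟩ := exists_prime_orderOf_dvd_card' (G := K) 2
    (e ▸ ((card_fixedPoints_modEq hf).dvd_iff dvd_rfl).1 d)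
  exact ⟨w, by rw [orderOf_coe, orderOf_coe, hw], hC.1 w.1.2, w.2⟩

omit [Finite Y] in
theorem dc_conj {P : Type*} [Fintype P] [DecidableEq P] {z : Y} {π : Y →* Perm P} (D : DC z π)
    (g : Perm P) : DC z ((MulAut.conj g).toMonoidHom.comp π) := by
  have s : ∀ τ : Perm P, sign τ = 1 → sign (g⁻¹ * τ * g) = 1 := fun τ h => by
    simp [h, Int.units_mul_self]
  refine ⟨D.ne, D.cen, fun y => by simp [← D.ker], le_antisymm ?_ fun τ h => ?_, fun L h => D.ns L
    fun τ k => ?_⟩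
  · rintro _ ⟨y, rfl⟩
    simp [D.sign_π, Int.units_mul_self]
  · obtain ⟨y, hy⟩ := D.lift (s τ h)
    exact ⟨y, by simp [hy, mul_assoc]⟩
  · obtain ⟨y, h1, h2⟩ := h (g * τ * g⁻¹) (by simp [k, Int.units_mul_self])
    exact ⟨y, h1, by simpa using h2⟩

theorem main {n : ℕ} (hn : n = 8 ∨ n = 11) (h : Cf σ A) {x t : Y} (hx : x ∈ A)
    (ox : orderOf x = 7) (ot : orderOf t = 2) (c : Commute t x) (st : σ t = t)
    (hc : IsNonsplitDoubleCover (centralizer ({t} : Set Y)) (alternatingGroup (Fin n))) : False := by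
  obtain ⟨m, rfl⟩ : ∃ m, n = m + 8 := ⟨n - 8, by omega⟩
  have : Fact (Nat.Prime 7) := ⟨by norm_num⟩
  set H := centralizer ({t} : Set Y)
  have hH : ∀ {y}, y ∈ H ↔ Commute y t := mem_centralizer_singleton_iff
  obtain ⟨z, π0, D0, hz⟩ := exists_dc hc
  have zt : (z : Y) = t := by
    rcases hz ⟨t, hH.2 rfl⟩ (Subgroup.mem_center_iff.2 fun g => Subtype.ext (hH.1 g.2)) with k | k
    · rw [show t = 1 from congrArg Subtype.val k, orderOf_one] at ot
      omega
    · rw [← k]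
  let X : H := ⟨x, hH.2 c.symm⟩
  have X7 : X ^ 7 = 1 := Subtype.ext (ox ▸ pow_orderOf_eq_one x)
  have o0 : orderOf (π0 X) = 7 := orderOf_eq_prime (by rw [← map_pow, X7, map_one]) fun k => by
    have := orderOf_dvd_of_pow_eq_one (congrArg Subtype.val (D0.sq_one k))
    simp [X, ox] at this
  let c0 : Perm (Fin (m + 8)) := List.formPerm [0, 1, 2, 3, 4, 5, 6]
  have oc : orderOf c0 = 7 := by
    obtain rfl | rfl : m = 0 ∨ m = 3 := by omega
    all_goals exact orderOf_eq_prime (by decide +kernel) (by decide +kernel)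
  have cy : ∀ {c : Perm (Fin (m + 8))}, orderOf c = 7 → c.IsCycle := fun k =>
    isCycle_of_prime_order' (by rw [k]; norm_num) (by rw [k, Fintype.card_fin]; omega)
  obtain ⟨g, hg⟩ := isConj_iff.1 ((cy o0).isConj (cy oc)
    (by rw [← (cy o0).orderOf, ← (cy oc).orderOf, o0, oc]))
  obtain ⟨π, D, hX⟩ : ∃ π : H →* Perm (Fin (m + 8)), DC z π ∧ π X = c0 := ⟨_, dc_conj D0 g, hg⟩
  obtain ⟨s, hs⟩ := H15.exists_restrict (A := H) σ fun y => by
    rw [hH, hH]
    exact ⟨fun k => σ.injective (by rw [map_mul, map_mul, st]; exact k), fun k => st ▸ k.map σ⟩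
  have sz : s z = z := Subtype.ext (by rw [hs, zt, st])
  let f : H →* alternatingGroup (Fin (m + 8)) := π.codRestrict _ fun y => D.sign_π y
  have fs : Function.Surjective f := fun τ => (D.lift τ.2).imp fun _ k => Subtype.ext k
  obtain ⟨β, hβ⟩ := H15.exists_induced fs s fun k e => Subtype.ext <| by
    rcases (D.ker k).1 (congrArg Subtype.val e) with rfl | rfl
    · simp
    · rw [sz]; exact D.πz
  have bij := Cfsg.Agent.S2119.result (m + 8) (by omega) (by omega)
  obtain ⟨p, rfl⟩ := bij.2 β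
  have hp : ∀ y, π (s y) = p * π y * p⁻¹ := fun y => (congrArg Subtype.val (hβ y)).symm
  have pp : p * p = 1 := bij.1 <| MulEquiv.ext fun τ => by
    obtain ⟨y, rfl⟩ := fs τ
    rw [map_mul, MulAut.mul_apply, hβ, hβ, map_one, MulAut.one_apply]
    exact congrArg f (Subtype.ext (by rw [hs, hs]; exact DFunLike.congr_fun h.sq (y : Y)))
  have pc : Commute p c0 := by
    have := hp X
    rw [show s X = X from Subtype.ext (by rw [hs]; exact h.fix x hx), hX] at this
    exact mul_inv_eq_iff_eq_mul.1 this.symm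
  have lf : ∀ τ : Perm (Fin (m + 8)), sign τ = 1 ∧ τ ^ 3 = 1 ∧ (∀ a, c0 a = a → τ a = a) →
      ∃ y : H, π y = τ ∧ ∀ a ∈ A, y * a * (y : Y)⁻¹ ∈ A := fun τ ⟨h1, h2, h3⟩ => by
    obtain ⟨y, rfl, y3⟩ := D.lift_three h1 h2
    have dj : Perm.Disjoint p (π y) := fun a => (em (c0 a = a)).elim (fun k => .inr (h3 a k))
      fun k => .inl (fix_supp (by rw [Fintype.card_fin]; omega) oc pp pc k)
    have : s y = y := D.eq_of_odd (k := 3) (by decide) (by rw [hp, dj.commute.eq]; simp)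
      (by rw [← map_pow, y3, map_one]) y3
    exact ⟨y, rfl, fun a => (mem_normalizer_iff.1 (h.nor y (by rw [← hs, this])) a).1⟩
  obtain ⟨y, y1, y2⟩ := lf (List.formPerm [0, 1, 2]) (by
    obtain rfl | rfl : m = 0 ∨ m = 3 := by omega
    all_goals decide +kernel)
  obtain ⟨v, v1, v2⟩ := lf (List.formPerm [3, 4, 5]) (by
    obtain rfl | rfl : m = 0 ∨ m = 3 := by omega
    all_goals decide +kernel)
  have u1 : ((y * X * y⁻¹ * X⁻¹ : H) : Y) ∈ A := A.mul_mem (y2 x hx) (A.inv_mem hx)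
  have u2 : π (y * X * y⁻¹ * X⁻¹) = List.formPerm [0, 1, 3] := by
    simp only [map_mul, map_inv, y1, hX]
    obtain rfl | rfl : m = 0 ∨ m = 3 := by omega
    all_goals decide +kernel
  generalize y * X * y⁻¹ * X⁻¹ = u at u1 u2
  have k1 : ((u * (v * u * v⁻¹) : H) : Y) ∈ A := A.mul_mem u1 (v2 _ u1)
  have k2 : (u * (v * u * v⁻¹)) ^ 2 = z := by
    obtain rfl | rfl : m = 0 ∨ m = 3 := by omega
    all_goals
      refine D.sq_swap (a := 0) (b := 3) (c := 1) (d := 4) (by decide) (by decide) (by decide)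
        (by decide) (by decide) (by decide) ?_
      simp only [map_mul, map_inv, v1, u2]
      decide +kernel
  exact no14 h hx (zt ▸ k2 ▸ A.pow_mem k1 2) ox ot c

theorem core {Y : Type} [Group Y] [Finite Y] {n : ℕ} (hn : n = 8 ∨ n = 11) {t : Y}
    (ot : orderOf t = 2) (h1 : ∀ w : Y, orderOf w = 2 → IsConj w t)
    (hc : IsNonsplitDoubleCover (centralizer ({t} : Set Y)) (alternatingGroup (Fin n)))
    (h49 : ¬ 49 ∣ Nat.card Y) : No Y := fun σ A h => by
  have : Fact (Nat.Prime 7) := ⟨by norm_num⟩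
  obtain ⟨x, hx, -, -, ox, -⟩ := h.kit.x7
  obtain ⟨z, π, D, -⟩ := exists_dc hc
  obtain ⟨y, hy⟩ := exists_prime_orderOf_dvd_card' (G := centralizer ({t} : Set Y)) 7 (by
    rw [D.card (by rw [Fintype.card_fin]; omega), Fintype.card_fin]
    exact Nat.dvd_factorial (by norm_num) (by omega))
  have sy : ∀ {r : Y}, orderOf r = 7 → ∃ Q : Sylow 7 Y, (Q : Subgroup Y) = zpowers r := fun {r} k =>
    ⟨(IsPGroup.of_card (G := zpowers r) (n := 1) (by rw [Nat.card_zpowers, k, pow_one])).toSylow fun e => h49 (by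
      rw [← (zpowers r).card_mul_index, Nat.card_zpowers, k]
      exact Nat.mul_dvd_mul_left 7 e), rfl⟩
  obtain ⟨Q, hQ⟩ := sy ox
  obtain ⟨R, hR⟩ := sy ((orderOf_coe y).trans hy)
  obtain ⟨g, rfl⟩ := MulAction.exists_smul_eq Y Q R
  have m : g * x * g⁻¹ ∈ zpowers (y : Y) := by
    rw [← hR, Sylow.coe_subgroup_smul, hQ]
    exact smul_mem_pointwise_smul x (MulAut.conj g) _ (mem_zpowers x)
  obtain ⟨k, hk⟩ := mem_zpowers_iff.1 m
  have c : Commute (g * x * g⁻¹) t := hk ▸ Commute.zpow_left (mem_centralizer_singleton_iff.1 y.2) k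
  obtain ⟨w, ow, cw, sw⟩ := exists_fix h.sq (h.fix x hx) (t := g⁻¹ * t * g)
    (by simpa using ((MulAut.conj g⁻¹).orderOf_eq t).trans ot)
    (by simpa [mul_assoc] using (c.map (MulAut.conj g⁻¹)).symm)
  obtain ⟨e, rfl⟩ := isConj_iff.1 (h1 w ow)
  exact main hn (h.congr (MulAut.conj e)) (mem_map_of_mem _ hx)
    (((MulAut.conj e).orderOf_eq x).trans ox) ot (cw.map (MulAut.conj e))
    (by simp [mul_assoc, sw]) hc

theorem jobMc : JobMc := by
  have : Finite Spor.McL := Nat.finite_of_card_ne_zero (by rw [H77.card_McL]; norm_num)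
  obtain ⟨h1, t, ot, hc⟩ := Cfsg.Agent.S2132.result
  refine ⟨core (.inl rfl) ot (fun w k => h1 w t k ot) hc (by rw [H77.card_McL]; norm_num),
    core (.inr rfl) H90.Ly.sitL.ord (fun w k => (H90.Ly.conjL ?_ ?_).symm) H90.Ly.sitL.nonsplit
      (by rw [H73.LyT.card]; norm_num)⟩
  · rw [← pow_two, ← k, pow_orderOf_eq_one]
  · rintro rfl
    simp at k

end H79.A7Mc
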