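/- D3 tower (row S5261), job Gb: the permutation of the affine points. -/
import Cfsg.Agent.H90.D3Kit

set_option autoImplicit false
set_option linter.unusedSectionVars false
set_option linter.unusedSimpArgs false
set_option linter.unusedVariables false

open H90.D3

namespace H79.D3G

variable {K : Type*} [Field K] [Finite K] (T : CF K)

/-- an involution of the fixed field fixing zero has a second fixed point -/
theorem fix_k (h2 : (2 : K) = 0) (f : T.k → T.k) (hf : ∀ l, f (f l) = l) (h0 : f 0 = 0) :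
    ∃ l, f l = l ∧ l ≠ 0 := by
  classical
  have := Fintype.ofFinite T.k
  have : Fact (Nat.Prime 2) := ⟨Nat.prime_two⟩
  have e : addOrderOf (1 : T.k) = 2 := addOrderOf_eq_prime
    (Subtype.ext (by rw [two_nsmul]; exact (one_add_one_eq_two (R := K)).trans h2)) one_ne_zero
  have hd : 2 ∣ Fintype.card T.k := e ▸ addOrderOf_dvd_card
  exact Equiv.Perm.exists_fixed_point_of_prime' (p := 2) (n := 1) hd
    (σ := Function.Involutive.toPerm f hf) (Equiv.ext fun l => hf l) (a := 0) h0

/-- the data of the involutions on the affine points -/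
structure Dt (ρ x : K → K) (φ : K → RingAut K) : Prop where
  r0 : ρ 0 = 0
  rr : ∀ t, ρ (ρ t) = t
  r1 : ρ 1 = 1
  fx : ∀ t, t ≠ 0 → ρ t = t → t = 1
  k : ∀ a, a ≠ 0 → ∀ l : T.k, φ a l = l
  nm : ∀ a, a ≠ 0 → T.nm (x a) = T.nm a ^ 2
  rel : ∀ a, a ≠ 0 → ∀ t, x a * φ a (ρ (x a * φ a t)) = ρ t
  fa : ∀ a, a ≠ 0 → ∀ t, t ≠ 0 → (x a * φ a (ρ t) = t ↔ t = a)
  one : ∀ t, x 1 * φ 1 t = t

variable {T} {ρ x : K → K} {φ : K → RingAut K}

theorem Dt.x0 (h : Dt T ρ x φ) {a : K} (ha : a ≠ 0) : x a ≠ 0 := fun e => by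
  have := h.nm a ha
  rw [e, CF.nm_zero, eq_comm, pow_eq_zero_iff two_ne_zero, CF.nm_eq_zero] at this
  exact ha this

theorem Dt.s1 (h : Dt T ρ x φ) (h2 : (2 : K) = 0) {a : K} (hn : T.nm a = 1) (t : K) : φ a t = t := by
  have ha : a ≠ 0 := fun e => by simp [e] at hn
  have hx := h.x0 ha
  have nx : x a * T.σ (x a) * T.σ (T.σ (x a)) = 1 := by
    have := h.nm a ha
    rwa [hn, one_pow] at this
  by_contra hne
  have main : (∃ t0, t0 ≠ 0 ∧ x a * φ a t0 = t0) → (∀ s, φ a s = s → T.σ s = s) → False := by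
    rintro ⟨t0, h0, e0⟩ hk
    have fl : ∀ l : T.k, x a * φ a (l * t0) = l * t0 := fun l => by
      rw [map_mul, h.k a ha, mul_left_comm, e0]
    have mem : ∀ l : T.k, ρ (l * t0) / t0 ∈ T.k := fun l => by
      have e := h.rel a ha (l * t0)
      rw [fl] at e
      refine hk _ ?_
      have n0 : φ a t0 ≠ 0 := (map_ne_zero _).2 h0
      rw [map_div₀, div_eq_div_iff n0 h0]
      exact mul_left_cancel₀ hx (by linear_combination t0 * e - ρ (l * t0) * e0)
    obtain ⟨l, e, hl⟩ := fix_k T h2 (fun l => ⟨ρ (l * t0) / t0, mem l⟩)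
      (fun l => Subtype.ext (by simp [div_mul_cancel₀ _ h0, h.rr, h0])) (Subtype.ext (by simp [h.r0]))
    have e1 : ρ (l * t0) = l * t0 := by rw [← div_eq_iff h0]; exact congrArg Subtype.val e
    have e2 := h.fx _ (mul_ne_zero (fun k => hl (Subtype.ext k)) h0) e1
    have e3 := fl l
    rw [e2] at e3
    obtain rfl : (1 : K) = a := (h.fa a ha 1 one_ne_zero).1 (by rw [h.r1]; exact e3)
    have e4 := h.one t
    rw [map_one, mul_one] at e3
    rw [e3, one_mul] at e4
    exact hne e4
  rcases T.gal (φ a) (h.k a ha) with e | e | e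
  · exact hne (e t)
  · refine main ?_ fun s k => (e s).symm.trans k
    by_contra hc
    push Not at hc
    refine one_ne_zero (T.ded (a := 1) (b := x a) (c := x a * T.σ (x a)) fun v => ?_).1
    by_contra hv
    refine hc _ hv ?_
    simp only [e, map_add, map_mul, map_one, T.cube]
    linear_combination v * nx
  · refine main ?_ fun s k => by
      have := congrArg T.σ ((e s).symm.trans k)
      rw [T.cube] at this
      exact this.symm
    by_contra hc
    push Not at hc
    refine one_ne_zero (T.ded (a := 1) (b := x a * T.σ (T.σ (x a))) (c := x a) fun v => ?_).1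
    by_contra hv
    refine hc _ hv ?_
    simp only [e, map_add, map_mul, map_one, T.cube]
    linear_combination v * nx

theorem Dt.sur (h : Dt T ρ x φ) (p : K → Prop) (p0 : ∀ a, p a → a ≠ 0) (pφ : ∀ a, p a → ∀ t, φ a t = t)
    (px : ∀ a, p a → p (x a)) {c : K} (hc : p c) (t : K) : c * ρ (c * t) = ρ t := by
  have inj : Function.Injective fun a : {a // p a} => (⟨x a, px a a.2⟩ : {a // p a}) := fun a b e => by
    have e1 : x a = x b := congrArg Subtype.val e
    have k := (h.fa a (p0 _ a.2) a (p0 _ a.2)).2 rfl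
    rw [pφ _ a.2, e1, ← pφ _ b.2 (ρ a)] at k
    exact Subtype.ext ((h.fa b (p0 _ b.2) a (p0 _ a.2)).1 k)
  obtain ⟨a, e⟩ := Finite.injective_iff_surjective.1 inj ⟨c, hc⟩
  have e1 : x a = c := congrArg Subtype.val e
  have k := h.rel a (p0 _ a.2) t
  rwa [pφ _ a.2, pφ _ a.2, e1] at k

theorem Dt.s3 (h : Dt T ρ x φ) (h2 : (2 : K) = 0) {a : K} (ha : a ≠ 0) (t : K) : φ a t = t := by
  have s2 : ∀ c, T.nm c = 1 → ∀ t, c * ρ (c * t) = ρ t := fun c hc =>
    h.sur (fun a => T.nm a = 1) (fun a k e => by simp [e] at k) (fun a k => h.s1 h2 k)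
      (fun a k => by rw [h.nm a fun e => by simp [e] at k, k, one_pow]) hc
  obtain ⟨c, hc, hσ⟩ := T.exists_nm_one
  have e : φ a (φ a c) = c := by
    have k1 := s2 (φ a c) (by rw [← T.map_nm, hc, map_one]) (x a * φ a 1)
    have k2 := h.rel a ha (c * 1)
    have k3 := h.rel a ha 1
    have k4 := s2 c hc 1
    rw [← k1, map_mul, h.r1] at k3
    rw [show x a * φ a (c * 1) = φ a c * (x a * φ a 1) by rw [map_mul]; ring] at k2
    rw [h.r1] at k4
    have n : ρ (c * 1) ≠ 0 := fun e => by rw [e, mul_zero] at k4; exact zero_ne_one k4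
    exact mul_right_cancel₀ n (by linear_combination k3 - k4 - φ a (φ a c) * k2)
  rcases T.gal (φ a) (h.k a ha) with k | k | k
  · exact k t
  · rw [k, k] at e
    exact absurd e (T.σ_ne hσ).2
  · rw [k, k, T.cube] at e
    exact absurd e hσ

theorem Dt.inv (h : Dt T ρ x φ) (h2 : (2 : K) = 0) {t : K} (ht : t ≠ 0) : ρ t = t⁻¹ := by
  have := h.sur (fun a => a ≠ 0) (fun _ k => k) (fun a k => h.s3 h2 k) (fun a k => h.x0 k) ht 1
  rw [mul_one, h.r1] at this
  exact eq_inv_of_mul_eq_one_right this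

end H79.D3G
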