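/- D3 tower (row S5261), job Gb: the action on the eight-dimensional module. -/
import Cfsg.Agent.H79.D3GbA

set_option autoImplicit false
set_option linter.unusedSectionVars false
set_option linter.unusedSimpArgs false
set_option linter.unusedVariables false

open H90.D3

namespace H79.D3G

variable {K : Type*} [Field K] [Finite K] (T : CF K)

/-- the module -/
abbrev V := T.k × K × K × T.k

/-- the root elements -/
def U (t : K) (v : V T) : V T :=
  (v.1, v.2.1 + t * v.1, v.2.2.1 + T.cr t v.2.1 + T.sh t * v.1,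
    v.2.2.2 + T.trk (t * v.2.2.1) + T.trk (T.sh t * v.2.1) + T.nmk t * v.1)

/-- the points -/
def vc : Option K → V T
  | none => (0, 0, 0, 1)
  | some t => (1, t, T.sh t, T.nmk t)

/-- the form -/
def fm (s m : V T) : K :=
  s.1 * m.2.2.2 - m.1 * s.2.2.2 + T.tr (m.2.1 * s.2.2.1) - T.tr (s.2.1 * m.2.2.1)

variable {T}

theorem vx {v w : V T} (h1 : (v.1 : K) = w.1) (h2 : v.2.1 = w.2.1) (h3 : v.2.2.1 = w.2.2.1)
    (h4 : (v.2.2.2 : K) = w.2.2.2) : v = w :=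
  Prod.ext (Subtype.ext h1) (Prod.ext h2 (Prod.ext h3 (Subtype.ext h4)))

theorem ksm (l : T.k) (x : K) : l • x = l * x := rfl

theorem U_U (s t : K) (v : V T) : U T s (U T t v) = U T (t + s) v := by
  apply vx <;> simp [U, CF.tr, CF.nm, CF.sh, CF.cr, T.cube] <;> ring

theorem U_zero (v : V T) : U T 0 v = v := by apply vx <;> simp [U]

theorem U_sm (t : K) (l : T.k) (v : V T) : U T t (l • v) = l • U T t v := by
  apply vx <;> simp [U, ksm, CF.tr, CF.nm, CF.sh, CF.cr, T.cube] <;> ring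

theorem U_none (t : K) : U T t (vc T none) = vc T none := by apply vx <;> simp [U, vc]

theorem U_some (r t : K) : U T r (vc T (some t)) = vc T (some (t + r)) := by
  apply vx <;> simp [U, vc, CF.tr, CF.nm, CF.sh, CF.cr, T.cube] <;> ring

theorem vc_ne (ω : Option K) : vc T ω ≠ 0 := by
  cases ω <;> simp [vc]

theorem vc_uq {l l' : T.k} (hl : l ≠ 0) {ω ω' : Option K} (h : l • vc T ω = l' • vc T ω') : ω = ω' := by
  have h1 := congrArg (·.1) h
  have h2 := congrArg (·.2.1) h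
  have h4 := congrArg (·.2.2.2) h
  cases ω <;> cases ω' <;> simp [vc, ksm] at h1 h2 h4 ⊢
  · exact hl (h4.trans (by simp [← h1]))
  · exact hl h1
  · subst h1
    exact mul_left_cancel₀ (fun e => hl (Subtype.ext e)) h2

/-- `f` maps a point to a point -/
def Mp (f : V T → V T) (ω ω' : Option K) : Prop := ∃ l : T.k, l ≠ 0 ∧ f (vc T ω) = l • vc T ω'

theorem Mp.uq {f : V T → V T} {ω ω' ω'' : Option K} (h : Mp f ω ω') (k : Mp f ω ω'') : ω' = ω'' := by
  obtain ⟨l, hl, e⟩ := h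
  obtain ⟨l', -, e'⟩ := k
  exact vc_uq hl (e.symm.trans e')

theorem mp_U0 (r : K) : Mp (U T r) none none := ⟨1, one_ne_zero, by rw [U_none, one_smul]⟩
theorem mp_U (r t : K) : Mp (U T r) (some t) (some (t + r)) := ⟨1, one_ne_zero, by rw [U_some, one_smul]⟩

variable (T) in
/-- the group induced on the module -/
structure Gm (Γ : Set (V T → V T)) : Prop where
  comp : ∀ f ∈ Γ, ∀ g ∈ Γ, f ∘ g ∈ Γ
  inv : ∀ f ∈ Γ, ∃ g ∈ Γ, (∀ v, g (f v) = v) ∧ ∀ v, f (g v) = v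
  add : ∀ f ∈ Γ, ∀ v w, f (v + w) = f v + f w
  sl : ∀ f ∈ Γ, ∃ ψ : T.k ≃+* T.k, ∀ l v, f (l • v) = ψ l • f v
  orth : ∀ f ∈ Γ, ∀ v w, fm T v w = 0 → fm T (f v) (f w) = 0
  u : ∀ t, U T t ∈ Γ
  om : ∀ f ∈ Γ, (∃ e : T.k, f (vc T none) = e • vc T none) ∨
    ∃ t, ∃ b : T.k, U T t (f (vc T none)) = b • vc T (some 0)
  st : ∀ f ∈ Γ, (∃ e : T.k, f (vc T none) = e • vc T none) → ∃ δ : Pm T,
    (∀ v, ((f v).1 : K) = δ.y * δ.φ v.1) ∧ (∀ v, v.1 = 0 → (f v).2.1 = δ.x * δ.y * δ.φ v.2.1) ∧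
    ((f (vc T none)).2.2.2 : K) = T.nm δ.x * δ.y
  mv : ∃ f ∈ Γ, ¬ ∃ e : T.k, f (vc T none) = e • vc T none

variable {Γ : Set (V T → V T)} {f g : V T → V T} {ω ω' ω'' : Option K}

theorem Gm.ne (h : Gm T Γ) (hf : f ∈ Γ) {l : T.k} (e : f (vc T ω) = l • vc T ω') : l ≠ 0 := by
  rintro rfl
  obtain ⟨g, hg, k, -⟩ := h.inv f hf
  have z : g 0 = 0 := by simpa using h.add g hg 0 0
  exact vc_ne ω (by rw [← k (vc T ω), e, zero_smul, z])

theorem Gm.mc (h : Gm T Γ) (hf : f ∈ Γ) (k : Mp g ω ω') (k' : Mp f ω' ω'') : Mp (f ∘ g) ω ω'' := by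
  obtain ⟨l, hl, e⟩ := k
  obtain ⟨l', hl', e'⟩ := k'
  obtain ⟨ψ, hψ⟩ := h.sl f hf
  exact ⟨ψ l * l', mul_ne_zero ((map_ne_zero _).2 hl) hl', by rw [Function.comp_apply, e, hψ, e', smul_smul]⟩

theorem Gm.mi (h : Gm T Γ) (hg : g ∈ Γ) (i : ∀ v, g (f v) = v) (k : Mp f ω ω') : Mp g ω' ω := by
  obtain ⟨l, hl, e⟩ := k
  obtain ⟨ψ, hψ⟩ := h.sl g hg
  have n : ψ l ≠ 0 := (map_ne_zero _).2 hl
  exact ⟨(ψ l)⁻¹, inv_ne_zero n, by rw [← i (vc T ω), e, hψ, smul_smul, inv_mul_cancel₀ n, one_smul]⟩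

theorem Gm.g0 (h : Gm T Γ) : ∃ g ∈ Γ, Mp g none (some 0) := by
  obtain ⟨f, hf, k⟩ := h.mv
  obtain ⟨t, b, e⟩ := (h.om f hf).resolve_left k
  have m := h.comp _ (h.u t) f hf
  exact ⟨_, m, b, h.ne m e, e⟩

theorem Gm.ex0 (h : Gm T Γ) (hf : f ∈ Γ) : ∃ ω', Mp f none ω' := by
  rcases h.om f hf with ⟨e, k⟩ | ⟨t, b, k⟩
  · exact ⟨none, e, h.ne hf k, k⟩
  · have e : f (vc T none) = b • vc T (some (0 + -t)) := by
      rw [← U_some, ← U_sm, ← k, U_U, add_neg_cancel, U_zero]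
    exact ⟨_, b, h.ne hf e, e⟩

theorem Gm.ex (h : Gm T Γ) (hf : f ∈ Γ) (ω : Option K) : ∃ ω', Mp f ω ω' := by
  rcases ω with _ | t
  · exact h.ex0 hf
  obtain ⟨g, hg, k⟩ := h.g0
  have m := h.comp _ (h.u t) g hg
  have k1 := h.mc (h.u t) k (mp_U t 0)
  rw [zero_add] at k1
  obtain ⟨j, hj, i, i'⟩ := h.inv _ m
  obtain ⟨ω', k2⟩ := h.ex0 (h.comp f hf _ m)
  have := h.mc (h.comp f hf _ m) (h.mi hj i k1) k2
  rw [show (f ∘ U T t ∘ g) ∘ j = f from funext fun v => congrArg f (i' v)] at this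
  exact ⟨ω', this⟩

variable (Γ) in
/-- the involution interchanging the two base points and fixing the point `a` -/
structure Mu (a : K) (μ : V T → V T) : Prop where
  mem : μ ∈ Γ
  lin : ∀ (l : T.k) v, μ (l • v) = l • μ v
  ii : ∀ v, μ (μ v) = v
  sw : Mp μ none (some 0)
  fv : μ (vc T (some a)) = vc T (some a)
  fx : ∀ t, Mp μ (some t) (some t) → t = a

theorem Gm.mu (h : Gm T Γ) (h2 : (2 : K) = 0) {a : K} (ha : a ≠ 0) : ∃ μ, Mu Γ a μ := by
  have aa : ∀ x : K, x + x = 0 := fun x => by linear_combination x * h2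
  have UU : ∀ r v, U T r (U T r v) = v := fun r v => by rw [U_U, aa, U_zero]
  obtain ⟨g, hg, k⟩ := h.g0
  obtain ⟨j, hj, i, i'⟩ := h.inv g hg
  obtain ⟨ω0, k0⟩ := h.ex hj none
  obtain ⟨ω1, k1⟩ := h.ex hj (some a)
  have k0' := h.mi hg i' k0
  have k1' := h.mi hg i' k1
  rcases ω0 with _ | t0
  · exact absurd (k.uq k0') (by simp)
  rcases ω1 with _ | t1
  · exact absurd (k.uq k1') (by simpa using ha.symm)
  obtain ⟨r, rfl⟩ : ∃ r, t1 = t0 + r := ⟨t1 - t0, by ring⟩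
  have hr : r ≠ 0 := by
    rintro rfl
    rw [add_zero] at k1'
    exact absurd (k0'.uq k1') (by simp)
  have m1 := h.comp _ (h.u r) j hj
  have ml := h.comp g hg _ m1
  have l1 : Mp (g ∘ U T r ∘ j) none (some a) := h.mc hg (h.mc (h.u r) k0 (mp_U r t0)) k1'
  have l2 : (g ∘ U T r ∘ j) (vc T (some 0)) = vc T (some 0) := by
    obtain ⟨l, -, e⟩ := h.mi hj i k
    simp only [Function.comp_apply]
    rw [e, U_sm, U_none, ← e, i']
  have l3 : ∀ (l : T.k) v, (g ∘ U T r ∘ j) (l • v) = l • (g ∘ U T r ∘ j) v := fun l v => by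
    obtain ⟨ψ, hψ⟩ := h.sl g hg
    obtain ⟨χ, hχ⟩ := h.sl j hj
    have e := i' (l • vc T none)
    rw [hχ, hψ, i'] at e
    have e' : ψ (χ l) = l := by simpa [vc] using congrArg (·.2.2.2) e
    simp only [Function.comp_apply]
    rw [hχ, U_sm, hψ, e']
  have l4 : ∀ t, Mp (g ∘ U T r ∘ j) (some t) (some t) → t = 0 := fun t kt => by
    obtain ⟨ω, kω⟩ := h.ex hj (some t)
    have e := h.mc hj kt kω
    rw [show j ∘ g ∘ U T r ∘ j = U T r ∘ j from funext fun v => i _] at e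
    rcases ω with _ | s
    · simpa using (h.mi hg i' kω).uq k
    · exact absurd (e.uq (h.mc (h.u r) kω (mp_U r s))) (by simpa using hr)
  have l5 : ∀ v, (g ∘ U T r ∘ j) ((g ∘ U T r ∘ j) v) = v := fun v => by
    simp only [Function.comp_apply]
    rw [i, UU, i']
  generalize g ∘ U T r ∘ j = L at ml l1 l2 l3 l4 l5
  have m2 := h.comp L ml _ (h.u a)
  refine ⟨U T a ∘ L ∘ U T a, h.comp _ (h.u a) _ m2, fun l v => ?_, fun v => ?_, ?_, ?_, fun t kt => ?_⟩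
  · simp only [Function.comp_apply]
    rw [U_sm, l3, U_sm]
  · simp only [Function.comp_apply]
    rw [UU, l5, UU]
  · simpa [aa] using h.mc (h.u a) (h.mc ml (mp_U0 a) l1) (mp_U a a)
  · simp only [Function.comp_apply]
    rw [U_some, aa, l2, U_some, zero_add]
  · have e1 := mp_U (T := T) a (t + a)
    rw [add_assoc, aa, add_zero] at e1
    have e := h.mc (h.u a) (h.mc (h.comp _ (h.u a) _ m2) e1 kt) (mp_U a t)
    rw [show U T a ∘ (U T a ∘ L ∘ U T a) ∘ U T a = L from funext fun v => by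
      simp only [Function.comp_apply]; rw [UU, UU]] at e
    linear_combination l4 _ e - aa a

end H79.D3G
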