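/- D3 tower (row S5261), job Gb: the reflection in characteristic two. -/
import Cfsg.Agent.H79.D3GbB

set_option autoImplicit false
set_option linter.unusedSectionVars false
set_option linter.unusedSimpArgs false
set_option linter.unusedVariables false

open H90.D3 H90.RF

universe v

namespace H79.D3G

variable {K : Type*} [Field K] [Finite K] {T : CF K} {Γ : Set (V T → V T)} {a : K} {μ : V T → V T}

theorem vc_eq (t : K) : vc T (some t) = vc T (some 0) + (0, t, T.sh t, 0) + T.nmk t • vc T none := by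
  apply vx <;> simp [vc, ksm]

theorem Mu.val (h : Gm T Γ) (m : Mu Γ a μ) (ha : a ≠ 0) :
    μ (vc T none) = (T.nmk a)⁻¹ • vc T (some 0) ∧ μ (vc T (some 0)) = T.nmk a • vc T none ∧
    ∀ c d, (μ (0, c, d, 0)).1 = 0 ∧ (μ (0, c, d, 0)).2.2.2 = 0 := by
  obtain ⟨l, hl, e⟩ := m.sw
  have hl' : (l : K) ≠ 0 := fun k => hl (Subtype.ext k)
  have e0 : μ (vc T (some 0)) = l⁻¹ • vc T none := by
    rw [← m.ii (vc T none), e, m.lin, smul_smul, inv_mul_cancel₀ hl, one_smul]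
  have o : ∀ c d, (μ (0, c, d, 0)).1 = 0 ∧ (μ (0, c, d, 0)).2.2.2 = 0 := fun c d => by
    have k1 := h.orth μ m.mem (vc T (some 0)) (0, c, d, 0) (by simp [fm, vc])
    have k2 := h.orth μ m.mem (vc T none) (0, c, d, 0) (by simp [fm, vc])
    rw [e0] at k1
    rw [e] at k2
    exact ⟨by simpa [fm, vc, ksm, hl] using k1, by simpa [fm, vc, ksm, hl] using k2⟩
  have k := congrArg (·.1) m.fv
  rw [vc_eq, h.add μ m.mem, h.add μ m.mem, m.lin, e, e0] at k
  have k' : T.nmk a * l = 1 := by simpa [vc, (o _ _).1] using k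
  obtain rfl : l = (T.nmk a)⁻¹ := eq_inv_of_mul_eq_one_right k'
  exact ⟨e, by rw [e0, inv_inv], o⟩

theorem Mu.tor (h : Gm T Γ) (m : Mu Γ a μ) (ha : a ≠ 0) {ν : V T → V T} (n : Mu Γ 1 ν) :
    ∃ (x : K) (φ : RingAut K), (∀ l : T.k, φ l = l) ∧ T.nm x = T.nm a ^ 2 ∧
      ∀ t, Mp (μ ∘ ν) (some t) (some (x * φ t)) := by
  obtain ⟨m1, m2, -⟩ := m.val h ha
  obtain ⟨n1, n2, -⟩ := n.val h one_ne_zero
  have o : T.nmk 1 = 1 := Subtype.ext T.nm_one
  rw [o, inv_one, one_smul] at n1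
  rw [o, one_smul] at n2
  have hm := h.comp μ m.mem ν n.mem
  have e1 : (μ ∘ ν) (vc T none) = T.nmk a • vc T none := by rw [Function.comp_apply, n1, m2]
  have e2 : (μ ∘ ν) (vc T (some 0)) = (T.nmk a)⁻¹ • vc T (some 0) := by rw [Function.comp_apply, n2, m1]
  obtain ⟨δ, d1, d2, d3⟩ := h.st _ hm ⟨_, e1⟩
  have na : T.nm a ≠ 0 := T.nm_eq_zero.not.2 ha
  have y : (δ.y : K) = (T.nm a)⁻¹ := by
    have := d1 (vc T (some 0))
    rw [e2] at this
    simpa [vc] using this.symm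
  refine ⟨δ.x, δ.φ, fun l => ?_, ?_, fun t => ?_⟩
  · have := d1 (l • vc T (some 0))
    rw [Function.comp_apply, n.lin, m.lin, n2, m1, y] at this
    exact mul_left_cancel₀ (inv_ne_zero na) (by simpa [vc, mul_comm] using this.symm)
  · rw [e1, y] at d3
    have : T.nm a = T.nm δ.x * (T.nm a)⁻¹ := by simpa [vc] using d3
    field_simp at this
    exact this.symm
  · obtain ⟨ω, l, hl, e⟩ := h.ex hm (some t)
    have k1 := d1 (vc T (some t))
    have k2 := d2 (0, t, T.sh t, T.nmk t) rfl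
    have k3 := h.add _ hm (vc T (some 0)) (0, t, T.sh t, T.nmk t)
    rw [show vc T (some 0) + (0, t, T.sh t, T.nmk t) = vc T (some t) by apply vx <;> simp [vc], e, e2] at k3
    have k4 := congrArg (·.2.1) k3
    rw [e] at k1
    rcases ω with _ | s
    · exact absurd (by simpa [vc] using k1.symm) δ.hy
    · have k5 : (l : K) = δ.y := by simpa [vc] using k1
      have k6 : (l : K) * s = δ.x * δ.y * δ.φ t := by rw [← k2]; simpa [vc, ksm] using k4
      obtain rfl : s = δ.x * δ.φ t := mul_left_cancel₀ δ.hy (by rw [← k5, k6, k5]; ring)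
      exact ⟨l, hl, e⟩

theorem Gm.nu (h : Gm T Γ) (h2 : (2 : K) = 0) : ∃ f ∈ Γ, ∀ v, f v = (v.2.2.2, v.2.2.1, v.2.1, v.1) := by
  have hμ : ∀ a : K, ∃ μ, a ≠ 0 → Mu Γ a μ := fun a => by
    by_cases ha : a = 0
    · exact ⟨id, fun k => absurd ha k⟩
    · exact (h.mu h2 ha).imp fun _ k _ => k
  choose μ hμ using hμ
  have n := hμ 1 one_ne_zero
  have hx : ∀ a : K, ∃ (x : K) (φ : RingAut K), a ≠ 0 → (∀ l : T.k, φ l = l) ∧ T.nm x = T.nm a ^ 2 ∧
      ∀ t, Mp (μ a ∘ μ 1) (some t) (some (x * φ t)) := fun a => by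
    by_cases ha : a = 0
    · exact ⟨1, 1, fun k => absurd ha k⟩
    · exact ((hμ a ha).tor h ha n).imp fun _ k => k.imp fun _ k _ => k
  choose x φ hx using hx
  have sw' := h.mi n.mem n.ii n.sw
  have hρ : ∀ t : K, ∃ s, (t = 0 → s = 0) ∧ (t ≠ 0 → s ≠ 0 ∧ Mp (μ 1) (some t) (some s)) := fun t => by
    by_cases ht : t = 0
    · exact ⟨0, fun _ => rfl, fun k => absurd ht k⟩
    obtain ⟨ω, k⟩ := h.ex n.mem (some t)
    have k' := h.mi n.mem n.ii k
    rcases ω with _ | s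
    · exact absurd (k'.uq n.sw) (by simpa using ht)
    · refine ⟨s, fun e => absurd e ht, fun _ => ⟨?_, k⟩⟩
      rintro rfl
      exact absurd (k'.uq sw') (by simp)
  choose ρ r0 hρ using hρ
  have one : ∀ ω, Mp (T := T) id ω ω := fun ω => ⟨1, one_ne_zero, (one_smul _ _).symm⟩
  have act : ∀ a, a ≠ 0 → ∀ t, t ≠ 0 → Mp (μ a) (some t) (some (x a * φ a (ρ t))) := fun a ha t ht => by
    have := h.mc (h.comp _ (hμ a ha).mem _ n.mem) (hρ t ht).2 ((hx a ha).2.2 (ρ t))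
    rwa [show (μ a ∘ μ 1) ∘ μ 1 = μ a from funext fun v => congrArg (μ a) (n.ii v)] at this
  have fv : ∀ a, a ≠ 0 → Mp (μ a) (some a) (some a) := fun a ha =>
    ⟨1, one_ne_zero, by rw [(hμ a ha).fv, one_smul]⟩
  have D : Dt T ρ x φ := {
    r0 := r0 0 rfl
    rr := fun t => by
      by_cases ht : t = 0
      · rw [ht, r0 0 rfl, r0 0 rfl]
      · exact Option.some.inj ((hρ _ (hρ t ht).1).2.uq (h.mi n.mem n.ii (hρ t ht).2))
    r1 := Option.some.inj ((hρ 1 one_ne_zero).2.uq (fv 1 one_ne_zero))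
    fx := fun t ht e => n.fx t (by simpa [e] using (hρ t ht).2)
    k := fun a ha => (hx a ha).1
    nm := fun a ha => (hx a ha).2.1
    rel := fun a ha t => by
      by_cases ht : t = 0
      · simp [ht, r0 0 rfl]
      have x0 : x a ≠ 0 := fun e => by
        have := (hx a ha).2.1
        rw [e, CF.nm_zero, eq_comm, pow_eq_zero_iff two_ne_zero, CF.nm_eq_zero] at this
        exact ha this
      have := h.mc (hμ a ha).mem ((hx a ha).2.2 t) (act a ha _ (mul_ne_zero x0 ((map_ne_zero _).2 ht)))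
      rw [show μ a ∘ μ a ∘ μ 1 = μ 1 from funext fun v => (hμ a ha).ii _] at this
      exact Option.some.inj (this.uq (hρ t ht).2)
    fa := fun a ha t ht => ⟨fun e => (hμ a ha).fx t (by simpa [e] using act a ha t ht), fun e => by
      subst e
      exact Option.some.inj ((act t ha t ha).uq (fv t ha))⟩
    one := fun t => by
      have := (hx 1 one_ne_zero).2.2 t
      rw [show μ 1 ∘ μ 1 = id from funext n.ii] at this
      exact Option.some.inj (this.uq (one _)) }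
  obtain ⟨n1, n2, n3⟩ := n.val h one_ne_zero
  have o : T.nmk 1 = 1 := Subtype.ext T.nm_one
  rw [o, inv_one, one_smul] at n1
  rw [o, one_smul] at n2
  have ad := h.add _ n.mem
  have z : μ 1 0 = 0 := by simpa using ad 0 0
  have p1 : ∀ t, μ 1 (0, t, T.sh t, 0) = (0, T.sh t, t, 0) := fun t => by
    by_cases ht : t = 0
    · rw [ht, T.sh_zero]
      exact z
    obtain ⟨l, hl, e⟩ := (hρ t ht).2
    rw [D.inv h2 ht, vc_eq t, ad, ad, n.lin, n1, n2] at e
    have k1 : T.nm t = l := by simpa [vc, (n3 _ _).1] using congrArg (fun v => (v.1 : K)) e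
    have k2 := congrArg (·.2.1) e
    have k3 := congrArg (·.2.2.1) e
    have s0 : T.sh t ≠ 0 := T.sh_eq_zero.not.2 ht
    simp only [vc, Prod.fst_add, Prod.snd_add, Prod.smul_fst, Prod.smul_snd, ksm, ← k1, ← T.mul_sh,
      T.sh_inv, CF.sh_zero, mul_zero, zero_add, add_zero] at k2 k3
    refine Prod.ext (n3 _ _).1 (Prod.ext (k2.trans ?_) (Prod.ext (k3.trans ?_) (n3 _ _).2)) <;> field_simp
  have p2 : ∀ t r, μ 1 (0, 0, T.cr t r, 0) = (0, T.cr t r, 0, 0) := fun t r => by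
    have e := p1 (t + r)
    rw [show ((0, t + r, T.sh (t + r), 0) : V T) = (0, t, T.sh t, 0) + (0, r, T.sh r, 0) + (0, 0, T.cr t r, 0) by
      apply vx <;> simp [T.sh_add]; ring, ad, ad, p1, p1] at e
    refine add_left_cancel (e.trans ?_)
    apply vx <;> simp [T.sh_add]; ring
  have p3 : ∀ d, μ 1 (0, 0, d, 0) = (0, d, 0, 0) := fun d => by
    obtain ⟨t, r, t', r', rfl⟩ := T.exists_cr_add d
    rw [show ((0, 0, T.cr t r + T.cr t' r', 0) : V T) = (0, 0, T.cr t r, 0) + (0, 0, T.cr t' r', 0) by simp,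
      ad, p2, p2]
    simp
  have p4 : ∀ c, μ 1 (0, c, 0, 0) = (0, 0, c, 0) := fun c => by rw [← p3, n.ii]
  refine ⟨μ 1, n.mem, fun ⟨b, c, d, e⟩ => ?_⟩
  rw [show ((b, c, d, e) : V T) = b • vc T (some 0) + (0, c, 0, 0) + (0, 0, d, 0) + e • vc T none by
    apply vx <;> simp [vc, ksm], ad, ad, ad, n.lin, n.lin, n1, n2, p3, p4]
  apply vx <;> simp [vc, ksm]

/-! ### From automorphisms of `Q₁` to maps of the module -/

/-- a preimage -/
def io (v : V T) : Co T := w1 T v.1 v.2.1 v.2.2.1 v.2.2.2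
/-- the image -/
def pj (u : Co T) : V T := (u.bk, u.c, u.d, u.ek)
/-- the induced map -/
def bar (β : Co T → Co T) (v : V T) : V T := pj (β (io v))

theorem io_mem (v : V T) : io v ∈ sQ1 T := rfl
theorem pj_io (v : V T) : pj (io v) = v := rfl
theorem pj_eq {u w : Co T} : pj u = pj w ↔ EqV u w :=
  ⟨fun h => ⟨congrArg (fun v => (v.1 : K)) h, congrArg (·.2.1) h, congrArg (·.2.2.1) h,
    congrArg (fun v => (v.2.2.2 : K)) h⟩, fun h => vx h.1 h.2.1 h.2.2.1 h.2.2.2⟩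

theorem bar_pj {β : Co T → Co T} (h : Au (sQ1 T) β) {u : Co T} (hu : u ∈ sQ1 T) : bar β (pj u) = pj (β u) :=
  pj_eq.2 (EqV.map h (io_mem _) hu (pj_eq.1 (pj_io _)))

theorem pj_mul {u w : Co T} (hw : w ∈ sQ1 T) : pj (u * w) = pj u + pj w := by
  rw [mem_sQ1] at hw
  apply vx <;> simp [pj, hw]

theorem pj_sm (l : T.k) (u : Co T) : pj (u.sm l) = l • pj u := by apply vx <;> simp [pj, ksm]

theorem pj_cj (s : Co T) {u : Co T} (hu : u ∈ sQ1 T) : pj (s⁻¹ * u * s) = U T s.a (pj u) := by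
  obtain ⟨h1, h2, h3, h4⟩ := cj_Q1 s hu
  exact vx h1 h2 h3 h4

theorem gm {p : ℕ} (a1 : A1 T) {Y0 Y1 Y2 : Subgroup (Equiv.Perm (Co T))} (tri : Tri T p Y0 Y1 Y2)
    (std : Std T Y0) (om : Om T 0 Y1) (mv : ∃ α ∈ Y1, ¬ Pr α (sW T)) :
    Gm T {f | ∃ α ∈ Y1, f = bar α} := by
  have au := tri.l1.au
  have cp : ∀ α ∈ Y1, ∀ β ∈ Y1, ∀ v, bar (T := T) (α * β : Equiv.Perm _) v = bar α (bar β v) :=
    fun α hα β hβ v => (bar_pj (au α hα) ((au β hβ).mem _ (io_mem v))).symm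
  have sl : ∀ α ∈ Y1, ∃ ψ : T.k ≃+* T.k, ∀ l v, bar α (l • v) = ψ l • bar α v := fun α hα => by
    obtain ⟨ψ, hψ⟩ := a1 α (au α hα)
    refine ⟨ψ, fun l v => ?_⟩
    rw [← pj_io v, ← pj_sm, bar_pj (au α hα) (sm_mem _ _), pj_eq.2 (hψ l _ (io_mem v)), pj_sm]
    rfl
  have kp : ∀ α ∈ Y1, (∃ e : T.k, bar α (vc T none) = e • vc T none) → Pr α (sW T) := by
    rintro α hα ⟨e, he⟩ z hz
    obtain ⟨ψ, hψ⟩ := sl α hα
    have k := bar_pj (au α hα) (W_le_Q1 hz)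
    rw [show pj z = z.ek • vc T none by apply vx <;> simp [pj, vc, ksm, hz.2.1, hz.2.2.1, hz.2.2.2], hψ, he] at k
    exact ⟨(au α hα).mem z hz.1, by simpa [pj, vc] using (congrArg (fun v => (v.1 : K)) k).symm,
      by simpa [pj, vc] using (congrArg (·.2.1) k).symm, by simpa [pj, vc] using (congrArg (·.2.2.1) k).symm⟩
  have eW : io (vc T none) ∈ sW T := ⟨rfl, rfl, rfl, rfl⟩
  refine ⟨?_, ?_, ?_, ?_, ?_, fun t => ?_, ?_, ?_, ?_⟩
  · rintro _ ⟨α, hα, rfl⟩ _ ⟨β, hβ, rfl⟩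
    exact ⟨α * β, mul_mem hα hβ, funext fun v => (cp α hα β hβ v).symm⟩
  · rintro _ ⟨α, hα, rfl⟩
    exact ⟨_, ⟨α⁻¹, inv_mem hα, rfl⟩, fun v => by rw [← cp _ (inv_mem hα) _ hα, inv_mul_cancel]; rfl,
      fun v => by rw [← cp _ hα _ (inv_mem hα), mul_inv_cancel]; rfl⟩
  · rintro _ ⟨α, hα, rfl⟩ v w
    rw [← pj_io v, ← pj_io w, ← pj_mul (io_mem w), bar_pj (au α hα) (mul_mem (io_mem v) (io_mem w)),
      (au α hα).mul _ (io_mem v) _ (io_mem w), pj_mul ((au α hα).mem _ (io_mem w))]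
    rfl
  · rintro _ ⟨α, hα, rfl⟩
    exact sl α hα
  · rintro _ ⟨α, hα, rfl⟩ v w e
    have k : cm (io v) (io w) = 1 :=
      eq_of_Z (cm_Q1 (io_mem v) (io_mem w)) (one_mem _) ((cm_g1 (io_mem v) (io_mem w)).trans e)
    have k' := (au α hα).cm (io_mem v) (io_mem w)
    rw [k, (au α hα).one] at k'
    exact (cm_g1 ((au α hα).mem _ (io_mem v)) ((au α hα).mem _ (io_mem w))).symm.trans (congrArg Co.g k'.symm)
  · obtain ⟨y, hy, e⟩ := tri.inn (xa T t)⁻¹
    obtain ⟨α, hα, e'⟩ := tri.res1 y hy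
    refine ⟨α, hα, funext fun v => ?_⟩
    rw [bar, e' _ (io_mem v), e, inv_inv, pj_cj _ (io_mem v)]
    rfl
  · rintro _ ⟨α, hα, rfl⟩
    rcases om α hα with k | ⟨s, k⟩
    · obtain ⟨-, h2, h3, h4⟩ := k _ eW
      exact Or.inl ⟨(α (io (vc T none))).ek, by apply vx <;> simp [bar, pj, vc, ksm] <;> assumption⟩
    · obtain ⟨h2, h3, h4⟩ := k _ eW
      refine Or.inr ⟨s.a, (s⁻¹ * α (io (vc T none)) * s).bk, ?_⟩
      rw [bar, ← pj_cj s ((au α hα).mem _ (io_mem _))]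
      generalize s⁻¹ * α (io (vc T none)) * s = w at h2 h3 h4
      apply vx <;> simp [pj, vc, ksm, h2, h3, h4]
  · rintro _ ⟨α, hα, rfl⟩ k
    obtain ⟨y, hy, e⟩ := tri.ext1 α hα (kp α hα k)
    obtain ⟨δ, hδ⟩ := std y hy
    obtain ⟨-, d1, d2, -, d3, -⟩ := Cg_sd hδ
    refine ⟨δ, fun v => ?_, fun v hv => ?_, ?_⟩
    · rw [bar, e _ (io_mem v)]
      exact d1 _ (io_mem v)
    · rw [bar, e _ (io_mem v)]
      exact d2 _ ⟨rfl, congrArg Subtype.val hv⟩
    · rw [bar, e _ (io_mem _)]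
      exact (d3 _ eW).trans (by simp [io, vc, w1])
  · obtain ⟨α, hα, k⟩ := mv
    exact ⟨_, ⟨α, hα, rfl⟩, mt (kp α hα) k⟩

theorem jobGb : JobGb.{v} := fun p _ K _ _ _ T h2 a1 Y0 Y1 Y2 tri std om mv => by
  obtain ⟨_, ⟨α, hα, rfl⟩, k⟩ := (gm a1 tri std om mv).nu h2
  refine ⟨α, hα, fun u hu => pj_eq.1 ?_⟩
  rw [← bar_pj (tri.l1.au α hα) hu, k]
  have n : ∀ x : K, x = -x := fun x => by linear_combination x * h2
  exact vx rfl (n _) rfl (n _)

end H79.D3G
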