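import Cfsg.Agent.H68.EaSpec

/-! Tower EA (S4577): elementary defect group of order 16 with inertial index 5. -/

set_option autoImplicit false

open scoped MonoidAlgebra ComplexConjugate

namespace H79.EaB5

open Cfsg H28 H34 H35 H36 H39 H24.KB H24.Ols H68.EA

universe u

theorem jobB5 : JobB5.{u} := by
  intro ev n5 g5 G _ _ M _ B D e h hD h2 hf h5
  classical
  have := Fact.mk h.hM.1
  have := charP_F h.hM
  have hco : ∀ a b : D, a * b = b * a :=
    Commute.of_orderOf_dvd_two fun g => orderOf_dvd_of_pow_eq_one (h2 g)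
  have hab : D ≤ Cen D := fun x hx y hy => congrArg Subtype.val (hco ⟨y, hy⟩ ⟨x, hx⟩)
  have hD0 : D ≠ ⊥ := by rintro rfl; simp at hD
  have hfree : ∀ g ∈ St ⊤ D e, ∀ x ∈ D, x ≠ 1 → g * x * g⁻¹ = x → g ∈ Cen D :=
    fun g hg x hx x1 h1 => by
      obtain ⟨α, h2, h3⟩ := exists_AI hg
      have := hf α h2 ⟨x, hx⟩ (mt Subtype.ext_iff.1 x1) (Subtype.ext ((h3 _).trans h1))
      exact mem_cen_iff_conj.2 fun y hy => by rw [← h3 ⟨y, hy⟩, this]; rfl
  have hl := h.rank_of_free hab hfree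
  obtain ⟨R, h1, hR, hc⟩ := exists_reps h
  obtain ⟨r, a2, a3, -, -⟩ := h.frob_count hab hfree hD0
  have a5 := hR.card_eq h.hM h.hB hc
  rw [← Finset.add_sum_erase _ _ h1, h.rank_one, Finset.sum_congr rfl fun u hu =>
    hl u (Finset.ne_of_mem_erase hu), Finset.sum_const, smul_eq_mul, mul_one] at a5
  rw [← card_AI, h5, hD] at a2
  obtain ⟨x, y, z, xy, xz, yz, hE⟩ := Finset.card_eq_three.1 (show (R.erase 1).card = 3 by omega)
  choose! d d6 d7 d8 using fun (u : D) hu => exists_col' h hab (hl u hu) fun t ht =>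
    ⟨1, one_mem _, by rw [pow_eq_pow_mod t (h2 u), show t % 2 = 1 by omega, pow_one]; rfl⟩
  simp only [hD] at d7 d8
  obtain ⟨x1, xR⟩ := Finset.mem_erase.1 (show x ∈ R.erase 1 by simp [hE])
  obtain ⟨y1, yR⟩ := Finset.mem_erase.1 (show y ∈ R.erase 1 by simp [hE])
  obtain ⟨z1, zR⟩ := Finset.mem_erase.1 (show z ∈ R.erase 1 by simp [hE])
  have ort : ∀ u ∈ R, ∀ v ∈ R, u ≠ 1 → v ≠ 1 → u ≠ v → ∑ χ ∈ bF B, d u χ * d v χ = 0 :=
    fun u hu v hv u1 v1 huv => by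
      have h9 := SS.orth h.hM (mt (hR u hu v hv) huv) 1 1
      have h10 : ∀ u, u ≠ 1 → gen1 2 (h.s u).b 1 ≠ 0 := fun u hu => by
        rw [gen1_one h.hM.1 (hl u hu) (block_nonempty (h.s u).ind.1)]
        exact Nat.cast_ne_zero.2 (gdeg_ne_zero (block_nonempty (h.s u).ind.1))
      rw [Finset.sum_congr rfl (g := fun χ => ((d u χ * d v χ : ℤ) : ℂ) *
        (gen1 2 (h.s u).b 1 * conj (gen1 2 (h.s v).b 1))) fun χ _ => by
          rw [d6 u u1, d6 v v1]; simp; ring, ← Finset.sum_mul, ← Int.cast_sum] at h9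
      exact Int.cast_eq_zero.1 ((mul_eq_zero.1 h9).resolve_right
        (mul_ne_zero (h10 u u1) ((map_ne_zero _).2 (h10 v v1))))
  have star : ∀ v ∈ R, v ≠ 1 → ∀ χ ∈ bF B, ∀ ψ ∈ bF B,
      ∃ n : ℤ, 16 * (h.s 1).con χ ψ - d v χ * d v ψ = 4 * n := fun v hv v1 χ hχ ψ hψ => by
    obtain ⟨n, hn⟩ := star_int h hab hR hc (g5 D _ v hD h2 hf h5 v1) (fun α hα w => by
      have e1 : α w = 1 ↔ w = 1 := map_eq_one_iff _ α.injective
      have e2 : (∃ β ∈ AI ⊤ D e, β v = α w) ↔ ∃ β ∈ AI ⊤ D e, β v = w :=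
        ⟨fun ⟨β, b1, b2⟩ => ⟨α⁻¹ * β, mul_mem (inv_mem hα) b1, by simp [b2]⟩,
          fun ⟨β, b1, b2⟩ => ⟨α * β, mul_mem hα b1, by simp [b2]⟩⟩
      simp only [e1, e2]
      congr) hχ hψ
    rw [← Finset.add_sum_erase _ _ h1, if_pos rfl, Finset.sum_eq_single_of_mem v
      (Finset.mem_erase.2 ⟨v1, hv⟩) fun w hw wv => by
        rw [if_neg (Finset.ne_of_mem_erase hw), if_neg fun k => wv
          (hR v hv w (Finset.mem_of_mem_erase hw) ((cj_iff_AI h hab).2 k)).symm, zero_mul],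
      if_neg v1, if_pos ⟨1, one_mem _, rfl⟩] at hn
    refine ⟨n, ?_⟩
    rw [← hn, ← d7 v v1]
    push_cast; ring
  have dv : ∀ v ∈ R, v ≠ 1 → ∀ χ ∈ bF B, ∀ ψ ∈ bF B, 4 ∣ d x χ * d x ψ - d v χ * d v ψ :=
    fun v hv v1 χ hχ ψ hψ => by
      obtain ⟨n, hn⟩ := star v hv v1 χ hχ ψ hψ
      obtain ⟨m, hm⟩ := star x xR x1 χ hχ ψ hψ
      exact ⟨n - m, Int.cast_injective (α := ℂ) (by push_cast; linear_combination hn - hm)⟩
  have key := n5 _ (bF B) (d x) (d y) (d z) (d8 x x1).2.1 (ort x xR y yR x1 y1 xy)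
    (ort x xR z zR x1 z1 xz) (ort y yR z zR y1 z1 yz)
    (fun i hi => ⟨(d8 x x1).1 i hi, (d8 y y1).1 i hi, (d8 z z1).1 i hi⟩)
    (fun i hi => by
      have h6 := QB_self_re_pos (b := (h.s 1).b) Nat.prime_two (f_ne_zero h hab 1 hi)
      have h7 := hR.sum_con_eq h.hM h.hB hc (mem_bF.1 hi) (mem_bF.1 hi)
      rw [if_pos rfl, ← Finset.add_sum_erase _ _ h1, hE, Finset.sum_insert (by simp [xy, xz]),
        Finset.sum_pair yz] at h7
      rw [← con_eq h hab, hD, show ((16 : ℕ) : ℂ) * _ =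
        ((16 - (d x i ^ 2 + d y i ^ 2 + d z i ^ 2) : ℤ) : ℂ) by
          have b1 := d7 x x1 i i
          have b2 := d7 y y1 i i
          have b3 := d7 z z1 i i
          push_cast at b1 b2 b3 ⊢
          linear_combination 16 * h7 - b1 - b2 - b3, Complex.intCast_re] at h6
      exact sub_pos.1 (by exact_mod_cast h6))
    (d8 y y1).2.1 (d8 z z1).2.1 (fun i hi j hj => ⟨dv y yR y1 i hi j hj, dv z zR z1 i hi j hj⟩)
    (by
      obtain ⟨ψ, hψ, h0⟩ := exists_height_zero 2 (block_nonempty h.hB)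
      exact ⟨ψ, mem_bF.2 hψ, Int.not_even_iff_odd.1 fun k =>
        ((d8 x x1).2.2 ψ (mem_bF.2 hψ)).1 (even_iff_two_dvd.1 k) h0⟩)
    fun w w1 w2 w3 => ev G M B D e h h2 hD0 R hc w fun v hv v1 χ _ => by
      have h6 : ∑ ψ ∈ bF B, d v ψ * w ψ = 0 := by
        have : v ∈ ({x, y, z} : Finset D) := hE ▸ Finset.mem_erase.2 ⟨v1, hv⟩
        simp only [Finset.mem_insert, Finset.mem_singleton] at this
        rcases this with rfl | rfl | rfl <;> assumption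
      refine mul_left_cancel₀ (a := ((16 : ℕ) : ℂ)) (by norm_num) ?_
      rw [Finset.mul_sum, Finset.sum_congr rfl (g := fun ψ => (d v χ : ℂ) * ((d v ψ * w ψ : ℤ) : ℂ))
        fun ψ _ => by rw [← mul_assoc, d7 v v1]; push_cast; ring, ← Finset.mul_sum,
        ← Int.cast_sum, h6]
      simp
  intro χ hχ
  by_contra k
  exact Int.not_even_iff_odd.2 (key χ (mem_bF.2 hχ))
    (even_iff_two_dvd.2 (((d8 x x1).2.2 χ (mem_bF.2 hχ)).2 k))

end H79.EaB5
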