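/- Slot FP of the tower FB: the Sylow 2-subgroup of the four-point stabiliser. -/
import Cfsg.Agent.H11.FBSpec
import Cfsg.Agent.H76.Hall4B

set_option autoImplicit false

namespace H79.FbFP

open MulAction Subgroup H11.FB

universe u v

theorem even_K {G : Type u} {Ω : Type v} [Group G] [Finite G] [Fintype Ω] [DecidableEq Ω]
    [MulAction G Ω] [FaithfulSMul G Ω] {a b c d : Ω} {K H : Subgroup G} (hy : Hy a b c d K H)
    (cd : Cd a b c d K H) (oH : Odd (Nat.card H)) : 2 ∣ Nat.card K := by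
  by_contra h2
  have oK : Odd (Nat.card K) := by rw [← Nat.not_even_iff_odd, even_iff_two_dvd]; exact h2
  have oL : Odd (Nat.card (L4 G a b c d)) := cd.cL ▸ oK.mul oH
  have h : H76.Hall4.O4 G Ω := ⟨hy.four,
    fun g hg => FaithfulSMul.eq_of_smul_eq_smul (α := Ω) fun x => by rw [hg, one_smul],
    fun {a' b' c' d'} hd g ga gb gc gd => by
      obtain ⟨l, h1, h2, h3, h4⟩ := hy.exists_smul hy.ne hd
      have hm : l⁻¹ * g * l ∈ L4 G a b c d := by
        rw [mem_L4]
        simp only [conj_smul_iff, h1, h2, h3, h4]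
        exact ⟨ga, gb, gc, gd⟩
      have := Odd.of_dvd_nat oL (Subgroup.orderOf_dvd_natCard _ hm)
      rwa [show l⁻¹ * g * l = MulAut.conj l⁻¹ g by simp, MulEquiv.orderOf_eq] at this⟩
  have hc : Nat.card Ω = Fintype.card Ω := Nat.card_eq_fintype_card
  by_cases h8 : 8 ≤ Fintype.card Ω
  · have hS := h.sharp (hc ▸ h8)
    obtain ⟨k, hk, k1⟩ := (K.bot_or_exists_ne_one).resolve_left hy.fr.Kne
    obtain ⟨e1, e2, e3, e4⟩ := mem_L4.1 (hy.fr.Kle hk)
    have hm : k ∈ stabilizer G (H76.Tits4.emb hy.ne) := by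
      refine (H76.mem_stabilizer_emb_iff (G := G) _ _).2 fun i => ?_
      fin_cases i
      exacts [e1, e2, e3, e4]
    rw [hS.2, mem_bot] at hm
    exact k1 hm
  have h7 : Fintype.card Ω = 7 := by have := cd.seven; omega
  have hd : Nat.card G ∣ Nat.card (Equiv.Perm Ω) :=
    card_dvd_of_injective (MulAction.toPermHom G Ω) MulAction.toPerm_injective
  rw [Nat.card_perm, hc, h7, cd.cG, cd.cX, cd.cL, h7] at hd
  have k1 : Nat.card K ≠ 1 := fun e => hy.fr.Kne (card_eq_one.1 e)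
  have k2 : Nat.card H ≠ 1 := fun e => hy.fr.Hne (card_eq_one.1 e)
  have le := Nat.le_of_dvd (by decide) hd
  obtain ⟨m, hm⟩ := oK
  obtain ⟨n, hn⟩ := oH
  rw [hm, hn] at le
  have : 3 * 3 ≤ (2 * m + 1) * (2 * n + 1) := Nat.mul_le_mul (by omega) (by omega)
  simp only [Nat.factorial] at le
  omega

theorem jobFP : JobFP.{u, v} := by
  intro G Ω _ _ _ _ _ _ a b c d K H hy cd oH
  have e := even_K hy cd oH
  have := hy.fr.nil
  have : Fact (Nat.Prime 2) := ⟨Nat.prime_two⟩
  obtain ⟨Q⟩ : Nonempty (Sylow 2 K) := inferInstance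
  have hn : (Q : Subgroup K).Normal :=
    Sylow.normal_of_normalizerCondition Group.normalizerCondition_of_isNilpotent Q
  refine ⟨(Q : Subgroup K).map K.subtype, map_subtype_le _, Q.isPGroup'.map _, fun h => ?_, fun g hg k hk => ?_⟩
  · exact Q.ne_bot_of_dvd_card e ((map_eq_bot_iff_of_injective _ K.subtype_injective).1 h)
  · have ho : orderOf g ∣ 2 ^ k := orderOf_dvd_of_pow_eq_one hk
    have gK : g ∈ K := hy.fr.mem_K hg (Nat.Coprime.coprime_dvd_left ho
      (Nat.Coprime.pow_left k ((Nat.coprime_two_left).2 oH)))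
    refine ⟨⟨g, gK⟩, ?_, rfl⟩
    have hp : IsPGroup 2 (zpowers (⟨g, gK⟩ : K)) := by
      obtain ⟨j, -, hj⟩ := (Nat.dvd_prime_pow Nat.prime_two).1 ho
      refine IsPGroup.of_card (n := j) ?_
      rw [Nat.card_zpowers, ← hj, ← orderOf_coe]
    obtain ⟨R, hR⟩ := hp.exists_le_sylow
    have := Sylow.unique_of_normal Q hn
    rw [Subsingleton.elim R Q] at hR
    exact hR (mem_zpowers _)

end H79.FbFP
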