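/- Slot Mk of the tower FE: the vertex subgroup of a tightly embedded subgroup. -/
import Cfsg.Agent.H14.FESpec

set_option autoImplicit false

namespace H79.FeMk

open Cfsg Subgroup MulAction H14 H98 H1.Gold H31.S2 H14.GC H14.FE
open scoped commutatorElement

universe u

variable {G : Type u} [Group G]

theorem inv_cen [Finite G] {X : Subgroup G} {s d : G} (hs : GC.Inv s) (sX : s ∈ X) (hd : d * d = 1)
    (hn : d ∈ nor X) : ∃ e ∈ X, GC.Inv e ∧ e * d = d * e := by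
  have di : d⁻¹ = d := inv_eq_of_mul_eq_one_right hd
  have si : s⁻¹ = s := hs.inv_eq
  obtain ⟨w, hw⟩ : ∃ w, w = s * (d * s * d⁻¹) := ⟨_, rfl⟩
  have wX : w ∈ X := hw ▸ X.mul_mem sX ((mem_normalizer_iff.1 hn s).1 sX)
  have e1 : d * w * d⁻¹ = w⁻¹ := by
    rw [hw]
    calc d * (s * (d * s * d⁻¹)) * d⁻¹ = d * s * d * s * (d * d)⁻¹ := by group
      _ = d * s⁻¹ * d⁻¹ * s⁻¹ := by rw [hd, si, di]; group
      _ = _ := by group
  have e2 : s * w * s⁻¹ = w⁻¹ := by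
    rw [hw]
    calc s * (s * (d * s * d⁻¹)) * s⁻¹ = (s * s) * (d * s * d⁻¹ * s⁻¹) := by group
      _ = d * s⁻¹ * d⁻¹ * s⁻¹ := by rw [hs.2, si, one_mul]
      _ = _ := by group
  have p1 : ∀ j : ℕ, d * w ^ j * d⁻¹ = (w ^ j)⁻¹ := fun j => by rw [← conj_pow, e1, inv_pow]
  have p2 : ∀ j : ℕ, s * w ^ j * s⁻¹ = (w ^ j)⁻¹ := fun j => by rw [← conj_pow, e2, inv_pow]
  have pos := orderOf_pos w
  have one := pow_orderOf_eq_one w
  rcases Nat.even_or_odd' (orderOf w) with ⟨k, hk | hk⟩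
  · have sq : w ^ k * w ^ k = 1 := by rw [← pow_add, ← two_mul, ← hk, one]
    refine ⟨w ^ k, X.pow_mem wX k, ⟨pow_ne_one_of_lt_orderOf (by omega) (by omega), sq⟩, ?_⟩
    have := p1 k
    rw [inv_eq_of_mul_eq_one_right sq, mul_inv_eq_iff_eq_mul] at this
    exact this.symm
  · have sq : w ^ (k + 1) * w ^ (k + 1) = w := by
      rw [← pow_add, show k + 1 + (k + 1) = (2 * k + 1) + 1 by ring, pow_succ, ← hk, one, one_mul]
    refine ⟨s * w ^ (k + 1), X.mul_mem sX (X.pow_mem wX _), ⟨fun e => hs.1 ?_, ?_⟩, ?_⟩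
    · have e' : w ^ (k + 1) = s := by rw [← si]; exact (inv_eq_of_mul_eq_one_right e).symm
      rw [e', hs.2] at sq
      rw [← e', ← sq, one_pow]
    · calc s * w ^ (k + 1) * (s * w ^ (k + 1)) = s * w ^ (k + 1) * s⁻¹ * w ^ (k + 1) := by rw [si, mul_assoc _ s]
        _ = 1 := by rw [p2, inv_mul_cancel]
    · have e3 : d * s * d⁻¹ = s * w := by rw [hw, ← mul_assoc s s, hs.2, one_mul]
      symm
      calc d * (s * w ^ (k + 1)) = (d * s * d⁻¹) * (d * w ^ (k + 1) * d⁻¹) * d := by group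
        _ = s * (w ^ (k + 1) * w ^ (k + 1)) * (w ^ (k + 1))⁻¹ * d := by rw [e3, p1, sq]
        _ = _ := by group

theorem nor_iff {X : Subgroup G} {g : G} : g ∈ nor X ↔ cj g X = X := by
  rw [mem_normalizer_iff'']
  exact ⟨fun h => by ext x; rw [mem_cj]; exact (h x).symm, fun h x => by rw [← mem_cj, h]⟩

theorem nor_cj {X : Subgroup G} {b y : G} : y ∈ nor (cj b X) ↔ b⁻¹ * y * b ∈ nor X := by
  rw [nor_iff, nor_iff, cj_cj]
  constructor
  · intro h
    have := congrArg (cj b⁻¹) h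
    rwa [cj_cj, cj_cj, inv_mul_cancel, ← mul_assoc, show cj 1 X = X by ext; simp] at this
  · intro h
    have := congrArg (cj b) h
    rwa [cj_cj, ← mul_assoc, ← mul_assoc, mul_inv_cancel, one_mul] at this

theorem te [Finite G] {Q : Subgroup G} (h : IsTightlyEmbedded Q) {g x : G} (hx : GC.Inv x) (h1 : x ∈ Q)
    (h2 : x ∈ cj g Q) : g ∈ nor Q := by
  by_contra hg
  have := Odd.of_dvd_nat (h.2 g hg) (orderOf_dvd_natCard _ (show x ∈ Q ⊓ cj g Q from ⟨h1, h2⟩))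
  rw [inv_iff.1 hx] at this
  exact absurd this (by decide)

theorem pec_le {Q : Subgroup G} : pElementClosure 2 Q ≤ Q := (closure_le _).2 fun _ h => h.1

theorem jobMk : JobMk.{u} := by
  intro G _ _ Q hQ mq A hA hn four ne
  have AQ : A ≤ Q := hA.trans pec_le
  have hn' : nor A ≤ nor Q := fun g hg => by
    obtain ⟨s, sA, -, -, hs, -⟩ := four
    exact te hQ (hs.conj g) (AQ ((mem_normalizer_iff.1 hg s).1 sA)) ⟨s, AQ sA, rfl⟩
  have key : ∀ g : G, ∀ d ∈ cj g Q, GC.Inv d → d ∈ nor Q → A ≤ nor (cj g A) := fun g d h1 h2 h3 x hx =>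
    nor_cj.2 (hn (nor_cj.1 (mq g d h1 h2 h3 (hA hx))))
  refine ⟨⟨?_, ?_, ?_, ?_⟩, fun no g hg d hd hi => hg ?_⟩
  · rintro _ ⟨g, rfl⟩
    exact four.cj g
  · rintro _ _ ⟨a, rfl⟩ ⟨b, rfl⟩ hne d ⟨h1, h2⟩ hi
    have h3 : a⁻¹ * b ∈ nor Q := by
      refine te hQ (x := a⁻¹ * d * a) (by simpa using hi.conj a⁻¹) (AQ (mem_cj.1 h1)) (mem_cj.2 ?_)
      have := AQ (mem_cj.1 h2)
      convert this using 1
      group
    have := congrArg (cj a) (nor_iff.1 (hn h3))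
    rw [cj_cj, mul_inv_cancel_left] at this
    exact hne this.symm
  · rintro _ _ ⟨a, rfl⟩ ⟨b, rfl⟩ d h1 hi h2 x hx
    have i0 : GC.Inv (a⁻¹ * d * a) := by simpa using hi.conj a⁻¹
    have n0 : a⁻¹ * d * a ∈ nor (cj (a⁻¹ * b) Q) := by
      refine nor_cj.2 ?_
      have := hn' (nor_cj.1 h2)
      convert this using 1
      group
    obtain ⟨s, sA, -, -, hs, -⟩ := four
    obtain ⟨e, eX, he, ec⟩ := inv_cen (X := cj (a⁻¹ * b) Q) (hs.conj (a⁻¹ * b)) ⟨s, AQ sA, rfl⟩ i0.2 n0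
    have eQ : e ∈ nor Q := te hQ i0 (AQ (mem_cj.1 h1)) (mem_cj.2 (by
      rw [mul_assoc e⁻¹, ← ec, inv_mul_cancel_left]; exact AQ (mem_cj.1 h1)))
    have := nor_cj.1 (key _ e eX he eQ (mem_cj.1 hx))
    refine nor_cj.2 ?_
    convert this using 1
    group
  · rintro _ ⟨g, rfl⟩ R hR
    have h1 := hR.cj g⁻¹
    rw [cj_cj, inv_mul_cancel, show cj 1 A = A by ext; simp] at h1
    obtain ⟨a, ha, h⟩ := ne _ h1
    refine ⟨g * a * g⁻¹, by simpa using mem_cj.1 ha, ?_⟩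
    rcases h with h | ⟨x, hx, h⟩
    · refine Or.inl fun e => h ?_
      have : a * a = g⁻¹ * (g * a * g⁻¹ * (g * a * g⁻¹)) * g := by group
      rw [this, e]; group
    · refine Or.inr ⟨g * x * g⁻¹, ⟨x, hx, rfl⟩, fun e => h ?_⟩
      rw [← cj_opp, mem_cj] at e
      convert e using 1
      simp only [commutatorElement_def]
      group
  · have := no A (cj g A) ⟨1, by ext; simp⟩ ⟨g, rfl⟩ (key g d hd.1 hi hd.2)
    exact hn' (nor_iff.2 this.symm)

end H79.FeMk
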