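import Cfsg.Agent.H63.KgvSpec
import Cfsg.Agent.H28.CharBasic

set_option autoImplicit false

namespace H79.KgvEg

open Finset Cfsg H63.Kgv

universe u

theorem uniq {ι : Type} [Fintype ι] (f : ι → ℂ) (hf : Function.Injective f) (v : ι → ℂ)
    (h : ∀ j : ℕ, ∑ x, v x * f x ^ j = 0) : v = 0 := by
  let e := (Fintype.equivFin ι).symm
  have h1 : (v ∘ e) = 0 := by
    apply Matrix.eq_zero_of_forall_pow_sum_mul_pow_eq_zero (f := f ∘ e) (hf.comp e.injective)
    intro i
    have := h i
    rw [← e.sum_comp] at this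
    exact this
  funext x
  have := congrFun h1 (e.symm x)
  simpa using this

theorem surj {K : Type} [Field K] [Fintype K] (θ : Kˣ →* ℂˣ) (hθ : Function.Injective θ) (ω : ℂ)
    (hω : ω ^ (Fintype.card K - 1) = 1) : ∃ x : Kˣ, (θ x : ℂ) = ω := by
  classical
  have hN : 0 < Fintype.card K - 1 := by
    have := Fintype.one_lt_card (α := K)
    omega
  have hsub : (univ.image fun x : Kˣ => (θ x : ℂ)) ⊆ Polynomial.nthRootsFinset (Fintype.card K - 1) (1 : ℂ) := by
    intro z hz
    obtain ⟨x, -, rfl⟩ := mem_image.1 hz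
    rw [Polynomial.mem_nthRootsFinset hN, ← Units.val_pow_eq_pow_val, ← map_pow, ← Fintype.card_units,
      pow_card_eq_one, map_one, Units.val_one]
  have hinj : Function.Injective fun x : Kˣ => (θ x : ℂ) := fun a b h => hθ (Units.ext h)
  have hc : (Polynomial.nthRootsFinset (Fintype.card K - 1) (1 : ℂ)).card ≤
      (univ.image fun x : Kˣ => (θ x : ℂ)).card := by
    rw [card_image_of_injective _ hinj, card_univ, Fintype.card_units]
    exact (Multiset.toFinset_card_le _).trans (Polynomial.card_nthRoots _ _)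
  have he := eq_of_subset_of_card_le hsub hc
  have : ω ∈ univ.image fun x : Kˣ => (θ x : ℂ) := by
    rw [he, Polynomial.mem_nthRootsFinset hN]; exact hω
  obtain ⟨x, -, hx⟩ := mem_image.1 this
  exact ⟨x, hx⟩

theorem job : EgSt.{u} := by
  intro K _ _ θ E _ _ hθ
  classical
  have hinj : Function.Injective fun x : Kˣ => (θ x : ℂ) := fun a b h => hθ (Units.ext h)
  have hex : ∀ (χ : E → ℂ) y m, Eg θ χ y m → Eg θ χ y (H63.Kgv.em θ χ y) := by
    intro χ y m hm
    have h : ∃ m, Eg θ χ y m := ⟨m, hm⟩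
    unfold H63.Kgv.em
    rw [dif_pos h]
    exact h.choose_spec
  refine ⟨fun χ y m hm => ?_, fun χ y hχ hy => ?_⟩
  · have h1 := hex χ y m hm
    have h2 := uniq (fun x : Kˣ => (θ x : ℂ)) hinj (fun x => (H63.Kgv.em θ χ y x : ℂ) - (m x : ℂ)) (by
      intro j
      have a := h1 j
      have b := hm j
      simp only [sub_mul, sum_sub_distrib]
      rw [sub_eq_zero]
      exact a.symm.trans b)
    funext x
    have := congrFun h2 x
    simp only [Pi.zero_apply, sub_eq_zero, Nat.cast_inj] at this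
    exact this
  · obtain ⟨s, hs, -, hv⟩ := H28.Cfsg.IsCharacter.exists_roots hχ y
    have hd : orderOf y ∣ Fintype.card K - 1 := orderOf_dvd_of_pow_eq_one hy
    have hs' : ∀ ω ∈ s, ∃ x : Kˣ, (θ x : ℂ) = ω := by
      intro ω hω
      apply surj θ hθ
      obtain ⟨k, hk⟩ := hd
      rw [hk, pow_mul, hs ω hω, one_pow]
    refine hex χ y (fun x => s.count (θ x : ℂ)) fun j => ?_
    have h1 := hv (j : ℤ)
    simp only [zpow_natCast] at h1
    rw [h1, Finset.sum_multiset_map_count]
    have h2 : s.toFinset ⊆ univ.image fun x : Kˣ => (θ x : ℂ) := by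
      intro ω hω
      obtain ⟨x, hx⟩ := hs' ω (Multiset.mem_toFinset.1 hω)
      exact mem_image.2 ⟨x, mem_univ _, hx⟩
    rw [sum_subset h2 (by
      intro ω _ hω
      rw [Multiset.count_eq_zero_of_notMem (fun h => hω (Multiset.mem_toFinset.2 h)), zero_smul]),
      sum_image (fun a _ b _ h => hinj h)]
    simp only [nsmul_eq_mul]

end H79.KgvEg
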