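import Cfsg.Agent.H23.NDSpec

/-! Tower ND (S4780): the case `N / L` nonabelian. -/

set_option autoImplicit false
open Cfsg H44 H55.Nd H23.ND
open scoped commutatorElement

namespace H79.NDII

universe u

variable {G : Type u} [Group G] [Finite G]

omit [Finite G] in
theorem one_of {p : ℕ} (hp : p.Prime) {L : Subgroup G} (hL : ¬ p ∣ Nat.card L) {v : G}
    (hv : v ∈ L) {m : ℕ} (h : v ^ p ^ m = 1) : v = 1 :=
  orderOf_eq_one_iff.1 (Nat.eq_one_of_dvd_coprimes
    (((Nat.Prime.coprime_iff_not_dvd hp).2 hL).pow_left m) (orderOf_dvd_of_pow_eq_one h)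
    (Subgroup.orderOf_dvd_natCard L hv))

omit [Finite G] in
theorem ppow {p : ℕ} {P : Subgroup G} (hP : IsPGroup p P) {y : G} (hy : y ∈ P) :
    ∃ m, y ^ p ^ m = 1 := by
  obtain ⟨m, hm⟩ := hP ⟨y, hy⟩
  exact ⟨m, congrArg Subtype.val hm⟩

theorem comm_le {N : Subgroup G} [hN : N.Normal] {h : G} (e : N ⊔ Subgroup.zpowers h = ⊤) :
    ⁅(⊤ : Subgroup G), ⊤⁆ ≤ N := by
  refine Subgroup.commutator_le.2 fun g _ g' _ => ?_
  obtain ⟨x, hx, _, ⟨i, rfl⟩, rfl⟩ := dec_gen e g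
  obtain ⟨y, hy, _, ⟨j, rfl⟩, rfl⟩ := dec_gen e g'
  rw [← QuotientGroup.eq_one_iff]
  change QuotientGroup.mk' N _ = 1
  have a : QuotientGroup.mk' N x = 1 := (QuotientGroup.eq_one_iff x).2 hx
  have b : QuotientGroup.mk' N y = 1 := (QuotientGroup.eq_one_iff y).2 hy
  rw [map_commutatorElement, map_mul, map_mul, a, b, one_mul, one_mul,
    commutatorElement_eq_one_iff_commute]
  exact ((Commute.refl h).zpow_zpow i j).map _

theorem jobII (hS : JobStep.{u}) (hFP : JobFP.{u}) (hE : JobExt.{u}) (hA : JobAl.{u}) :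
    JobII.{u} := by
  intro G _ _ p k N L P hN hL hNb h hB hF hLN hpL hk hP hLP hnl hO
  have ext := hE G p k N L h hB hLN hpL hk
  rcases hO with ⟨q, q1, q2, q3, q4⟩ | ⟨l4, ⟨a', b', hcd⟩, hC, ⟨q, lv⟩, ax⟩
  · have key : ∀ d ∈ charDegrees G,
        d = 1 ∨ d = (N.map (QuotientGroup.mk' L)).index ∨ d = q := fun d hd => by
      rcases ext d hd with e | ⟨I, i1, i2, i3, -⟩
      · exact q4 d e
      · exact .inr (.inr (hB.nd.eq (cd_quot L q3) hd q1
          ((hA G p k q N L I hB.hp hLN hk q2 i1 i2).trans i3)).symm)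
    exact ⟨⟨_, q, q, fun d hd => (key d hd).imp_right (Or.imp_right .inl)⟩, derived_three key⟩
  set π := QuotientGroup.mk' L with hπ
  set Nb := N.map π with hNb'
  have sj : Function.Surjective π := QuotientGroup.mk'_surjective L
  have kr : ∀ x, π x = 1 ↔ x ∈ L := fun x => QuotientGroup.eq_one_iff x
  have back : ∀ x, π x ∈ Nb → x ∈ N := by
    rintro x ⟨y, hy, e⟩
    have : y⁻¹ * x ∈ L := (kr _).1 (by rw [map_mul, map_inv, e, inv_mul_cancel])
    simpa using mul_mem hy (hLN this)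
  have m2 : (⁅N, N⁆).map π = L2 Nb := Subgroup.map_commutator _ _ _
  have n2 : (⁅N, N⁆).Normal := inferInstance
  have cc : ∀ x ∈ CC N, π x ∈ CC Nb := fun x hx => by
    obtain ⟨x1, x2⟩ := mem_CC.1 hx
    refine mem_CC.2 ⟨⟨x, x1, rfl⟩, fun g => ?_⟩
    obtain ⟨g, rfl⟩ := sj g
    change _ ∈ L2 Nb
    rw [← m2]
    exact ⟨_, x2 g, by simp⟩
  have hZ : (CC Nb).comap π ≤ N := fun x hx => back x (CC_le Nb hx)
  have LZ : L ≤ (CC Nb).comap π := fun x hx => by
    rw [Subgroup.mem_comap, (kr x).2 hx]; exact one_mem _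
  have st := hS G p N ⁅N, N⁆ ((CC Nb).comap π) ((Ct (L2 Nb) (L3 Nb)).comap π) h q hB hF hZ
    (Subgroup.commutator_le_left _ _) (Subgroup.commutator_mono hZ le_rfl)
    (fun g hg a ha => by
      have := Subgroup.commutator_mem_commutator (H₁ := Nb) ⟨g, hg, rfl⟩ ha
      rw [Subgroup.commutator_comm] at this
      exact this) lv.q1 (by rw [Subgroup.relIndex_comap]; exact lv.sq)
    (by rw [Subgroup.index_comap_of_surjective _ sj]; exact cd_quot L lv.cd)
    (fun x hx k => hF.cl x hx fun t => k (cc x t))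
  have cl : ∀ y ∈ N, (π y ∉ CC Nb ∨ (π y ∈ L2 Nb ∧ π y ∉ L3 Nb)) → Cl N y ⁅L, N⁆ := by
    rintro y hy (t | ⟨t1, t2⟩)
    · exact (hF.cl y hy fun s => t (cc y s)).mono (Subgroup.commutator_mono hLN le_rfl)
    · refine (st y (mem_CC.2 ⟨⟨y, hy, rfl⟩, fun g => ?_⟩) fun g hg => ?_).mono
        (Subgroup.commutator_mono LZ le_rfl)
      · exact mul_mem (Subgroup.Normal.conj_mem inferInstance _ t1 g) (inv_mem t1)
      · refine lv.sr (π g) _ t1 t2 (hC ?_)
        have : (⁅(CC Nb).comap π, N⁆).map π ≤ ⁅CC Nb, Nb⁆ := by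
          rw [Subgroup.map_commutator]
          exact Subgroup.commutator_mono (Subgroup.map_comap_le _ _) le_rfl
        exact this ⟨_, hg, by simp⟩
  have PN : P ≤ N := hLP ▸ le_sup_right
  have dec : ∀ n ∈ N, ∃ l ∈ L, ∃ y ∈ P, l * y = n := fun n hn =>
    Subgroup.mem_sup_of_normal_left.1 (hLP.symm ▸ hn)
  have lift : ∀ s ∈ Nb, ∃ y ∈ P, π y = s := by
    rintro _ ⟨n, hn, rfl⟩
    obtain ⟨l, hl, y, hy, rfl⟩ := dec n hn
    exact ⟨y, hy, by rw [map_mul, (kr l).2 hl, one_mul]⟩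
  have LP : ∀ y ∈ L, y ∈ P → y = 1 := fun y h1 h2 => by
    obtain ⟨m, hm⟩ := ppow hP h2
    exact one_of hB.hp hpL h1 hm
  obtain ⟨a0, ha0, x0, hx0, ax1, ax2, ax3, ax4⟩ := ax
  obtain ⟨a, ha, rfl⟩ := lift a0 ha0
  obtain ⟨x, hx, rfl⟩ := lift x0 hx0
  have M0 : ⁅L, N⁆ = ⊥ := by
    refine hFP G p P ⁅L, N⁆ ((L3 Nb).comap π) a x hB.hp hP ha hx
      (LP _ ((kr _).1 (by rw [map_pow, ax1])) (pow_mem ha p))
      (by rw [Subgroup.mem_comap, map_pow]; exact ax2)
      (by rw [Subgroup.mem_comap]; simpa using ax3) fun i j ij z z1 z2 v hv e => ?_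
    have hy : a ^ i * x ^ j * z ∈ P := mul_mem (mul_mem (pow_mem ha i) (pow_mem hx j)) z2
    have := cl _ (PN hy) (by simpa using ax4 i j ij _ z1) v hv
    generalize a ^ i * x ^ j * z = y at hy e this
    obtain ⟨c, -, hc⟩ := this
    obtain ⟨m, hm⟩ := ppow hP hy
    refine one_of hB.hp hpL (Subgroup.commutator_le_left _ _ hv) (m := m) ?_
    have := congrArg (· ^ p ^ m) hc
    simp only [conj_pow, hm, Commute.mul_pow (show Commute y v from e)] at this
    simpa using this.symm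
  have cen : ∀ l ∈ L, ∀ n ∈ N, Commute l n := fun l hl n hn => by
    have := Subgroup.commutator_mem_commutator hl hn
    rwa [M0, Subgroup.mem_bot, commutatorElement_eq_one_iff_commute] at this
  have NP : ⁅N, N⁆ ≤ P := Subgroup.commutator_le.2 fun g hg g' hg' => by
    obtain ⟨l, hl, y, hy, rfl⟩ := dec g hg
    obtain ⟨l', hl', y', hy', rfl⟩ := dec g' hg'
    have e1 := (cen l hl _ (mul_mem (mul_mem (PN hy) hg') (inv_mem (PN hy)))).eq
    have e2 := (cen l' hl' _ (PN hy)).eq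
    have e3 := (cen l' hl' _ (PN (mul_mem (mul_mem (mul_mem hy hy') (inv_mem hy)) (inv_mem hy')))).eq
    have : ⁅l * y, l' * y'⁆ = y * y' * y⁻¹ * y'⁻¹ := by
      calc ⁅l * y, l' * y'⁆ = l * (y * (l' * y') * y⁻¹) * l⁻¹ * (l' * y')⁻¹ := by
            rw [commutatorElement_def]; group
        _ = (y * l') * y' * y⁻¹ * y'⁻¹ * l'⁻¹ := by rw [e1]; group
        _ = l' * (y * y' * y⁻¹ * y'⁻¹) * l'⁻¹ := by rw [← e2]; group
        _ = _ := by rw [e3]; group
    rw [this]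
    exact mul_mem (mul_mem (mul_mem hy hy') (inv_mem hy)) (inv_mem hy')
  have LZG : L ≤ Subgroup.center G := fun l hl => by
    by_cases t : l ∈ CC N
    · refine Subgroup.mem_center_iff.2 fun g => ?_
      have := LP _ (mul_mem (hL.conj_mem l hl g) (inv_mem hl)) (NP ((mem_CC.1 t).2 g))
      rwa [mul_inv_eq_one, mul_inv_eq_iff_eq_mul] at this
    · refine (hnl fun y hy => ?_).elim
      obtain ⟨c, c1, c2⟩ := hF.cl l (hLN hl) t y hy
      rw [← (cen l hl c c1).eq, mul_inv_cancel_right, left_eq_mul] at c2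
      rw [c2]; exact one_mem L
  refine ⟨⟨Nb.index, a', b', fun d hd => ?_⟩, ?_⟩
  · rcases ext d hd with e | ⟨I, -, i2, -, i4⟩
    · exact hcd d e
    · rw [i4 LZG] at i2
      exact (hnl ((Subgroup.commutator_mono le_top le_top).trans i2)).elim
  · have d1 : derivedSeries G 1 ≤ N := comm_le hB.gen
    have d2 : derivedSeries G 2 ≤ ⁅N, N⁆ := Subgroup.commutator_mono d1 d1
    have d3 : derivedSeries G 3 ≤ ⁅⁅N, N⁆, ⁅N, N⁆⁆ := Subgroup.commutator_mono d2 d2
    have b : ⁅L2 Nb, L2 Nb⁆ = ⊥ := Subgroup.commutator_commutator_eq_bot_of_rotate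
      (by rw [Subgroup.commutator_comm Nb]; exact l4) l4
    refine eq_bot_iff.2 fun y hy => LP y ((kr y).1 ?_)
      (NP (Subgroup.commutator_le_left _ _ (d3 hy)))
    have : π y ∈ (⁅⁅N, N⁆, ⁅N, N⁆⁆).map π := ⟨y, d3 hy, rfl⟩
    rwa [Subgroup.map_commutator, m2, b] at this

end H79.NDII
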