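import Cfsg.Agent.H79.O8TA

/-! FS tower (S1144), octagons: the Tits endomorphism and the torus. -/

set_option autoImplicit false
set_option linter.unusedSectionVars false

namespace H79.O8T

open H12.BN H59.BN H54.O8 H63.Oc Subgroup
open H21.BN (Co)

variable {G : Type} [Group G] [Finite G] {x : MP 8 G} {K : Type} [Field K] [Finite K]

namespace Pre
variable (P : Pre x K)

theorem co {k : ℤ} (h0 : 0 ≤ k) (h9 : k ≤ 9) : ∃ H : Subgroup G, Co (P.X k) H ∧ H ≤ x.U k ∧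
    ∀ g, Nk x g → ∀ u ∈ H, g⁻¹ * u * g ∈ H := by
  rcases Int.emod_two_eq_zero_or_one k with h | h
  · exact ⟨_, P.ev k h0 (by omega) h, V_le k, fun g hg u hu => Nk.V hg hu⟩
  · exact ⟨_, P.od k (by omega) h9 h, le_rfl, fun g hg u hu => (hg k u hu).1⟩

theorem mem {k : ℤ} (h0 : 0 ≤ k) (h9 : k ≤ 9) (t : K) : P.X k t ∈ x.U k :=
  let ⟨_, c, h, _⟩ := P.co h0 h9; h (c.mem' t)

theorem inj {k : ℤ} (h0 : 0 ≤ k) (h9 : k ≤ 9) : Function.Injective (P.X k) :=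
  let ⟨_, c, _⟩ := P.co h0 h9; c.inj

theorem zero {k : ℤ} (h0 : 0 ≤ k) (h9 : k ≤ 9) : P.X k 0 = 1 :=
  let ⟨_, c, _⟩ := P.co h0 h9; c.zero

theorem ne {k : ℤ} (h0 : 0 ≤ k) (h9 : k ≤ 9) {t : K} (ht : t ≠ 0) : P.X k t ≠ 1 :=
  let ⟨_, c, _⟩ := P.co h0 h9; c.ne_one ht

theorem phi {k : ℤ} (h0 : 0 ≤ k) (h9 : k ≤ 9) {g : G} (hg : Nk x g) :
    ∃ φ : K → K, ∀ t, g⁻¹ * P.X k t * g = P.X k (φ t) := by
  obtain ⟨H, c, -, h⟩ := P.co h0 h9
  choose φ hφ using fun t => (c.mem _).1 (h g hg _ (c.mem' t))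
  exact ⟨φ, hφ⟩

theorem rf1 (u : K) (hu : u ≠ 0) : Rf x (x.mu 1 (P.X 1 u)) 10 :=
  rf_mu (P.mem (by decide) (by decide) u) (P.ne (by decide) (by decide) hu)

theorem rf3 (u : K) (hu : u ≠ 0) : Rf x (x.mu 3 (P.X 3 u)) 14 :=
  rf_mu (P.mem (by decide) (by decide) u) (P.ne (by decide) (by decide) hu)

theorem rf8 (u : K) (hu : u ≠ 0) : Rf x (x.mu 8 (P.X 8 u)) 8 :=
  (rf_mu (P.mem (by decide) (by decide) u) (P.ne (by decide) (by decide) hu)).per rfl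

theorem s_zero : P.s 0 = 0 := by simpa using P.s_add 0 0

theorem s_one : P.s 1 = 1 := by
  have := (P.m8 1 1 one_ne_zero).symm.trans (P.n8 2 6 rfl (by decide) (by decide) 1)
  simpa using P.inj (by decide) (by decide) this

/-- `X i t` conjugated by `X j u` is `X i t * X k (t u)` -/
def Rel (i j k : ℤ) : Prop := ∀ t u, (P.X j u)⁻¹ * P.X i t * P.X j u = P.X i t * P.X k (t * u)

theorem Rel.tr {P : Pre x K} {i j k i' j' k' : ℤ} (R : P.Rel i j k) {g : G} {f f' f'' : K → K}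
    (hi : ∀ t, g⁻¹ * P.X i t * g = P.X i' (f t)) (hj : ∀ t, g⁻¹ * P.X j t * g = P.X j' (f' t))
    (hk : ∀ t, g⁻¹ * P.X k t * g = P.X k' (f'' t)) (t u : K) :
    (P.X j' (f' u))⁻¹ * P.X i' (f t) * P.X j' (f' u) = P.X i' (f t) * P.X k' (f'' (t * u)) := by
  rw [← hi, ← hj, ← hk, show (g⁻¹ * P.X j u * g)⁻¹ * (g⁻¹ * P.X i t * g) * (g⁻¹ * P.X j u * g) =
    g⁻¹ * ((P.X j u)⁻¹ * P.X i t * P.X j u) * g by group, R]
  group

/-- `g` acts on `X k` as the scalar `c` -/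
def Ch (g : G) (k : ℤ) (c : K) : Prop := ∀ t, g⁻¹ * P.X k t * g = P.X k (c * t)

theorem Ch.ne {P : Pre x K} {g : G} {k : ℤ} {c : K} (h : P.Ch g k c) (h0 : 0 ≤ k) (h9 : k ≤ 9) :
    c ≠ 0 := fun e => P.ne h0 h9 one_ne_zero (by
  have := h 1
  rw [e, zero_mul, P.zero h0 h9] at this
  exact conj_eq_one_iff.1 (by rwa [inv_inv]))

theorem Ch.un {P : Pre x K} {g : G} {k : ℤ} {c d : K} (h : P.Ch g k c) (h' : P.Ch g k d)
    (h0 : 0 ≤ k) (h9 : k ≤ 9) : c = d := by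
  simpa using P.inj h0 h9 ((h 1).symm.trans (h' 1))

theorem Rel.down {P : Pre x K} {i j k : ℤ} (R : P.Rel i j k) (i0 : 0 ≤ i) (i9 : i ≤ 9) (j0 : 0 ≤ j)
    (j9 : j ≤ 9) (k0 : 0 ≤ k) (k9 : k ≤ 9) {g : G} (hg : Nk x g) {c : K} (h : P.Ch g k c) :
    ∃ a b, P.Ch g i a ∧ P.Ch g j b ∧ c = a * b := by
  obtain ⟨f, hf⟩ := P.phi i0 i9 hg
  obtain ⟨f', hf'⟩ := P.phi j0 j9 hg
  have e : ∀ t u, f t * f' u = c * (t * u) := fun t u =>
    P.inj k0 k9 (mul_left_cancel ((R _ _).symm.trans (R.tr hf hf' h t u)))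
  have e1 := e 1 1
  rw [mul_one, mul_one] at e1
  have c0 := h.ne k0 k9
  rw [← e1, mul_ne_zero_iff] at c0
  refine ⟨f 1, f' 1, fun t => ?_, fun t => ?_, e1.symm⟩
  · rw [hf, mul_right_cancel₀ c0.2 (show f t * f' 1 = f 1 * t * f' 1 by
      rw [e, ← e1]; ring)]
  · rw [hf', mul_left_cancel₀ c0.1 (show f 1 * f' t = f 1 * (f' 1 * t) by
      rw [e, ← e1]; ring)]

theorem Rel.up {P : Pre x K} {i j k : ℤ} (R : P.Rel i j k) (j0 : 0 ≤ j)
    (j9 : j ≤ 9) (k0 : 0 ≤ k) (k9 : k ≤ 9) {g : G} (hg : Nk x g) {a : K} (h : P.Ch g i a) :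
    ∃ c, P.Ch g k c := by
  obtain ⟨f, hf⟩ := P.phi k0 k9 hg
  obtain ⟨f', hf'⟩ := P.phi j0 j9 hg
  refine ⟨a * f' 1, fun t => ?_⟩
  have := P.inj k0 k9 (mul_left_cancel ((R _ _).symm.trans (R.tr h hf' hf t 1)))
  rw [hf, ← mul_one t, ← this]; congr 1; ring

variable (A : A8 x)
include A

theorem r27 : P.Rel 2 7 4 := fun t u => by
  rcases eq_or_ne u 0 with rfl | hu
  · simp [P.zero (k := 7) (by decide) (by decide), P.zero (k := 4) (by decide) (by decide)]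
  rw [A.r27 2 7 rfl (.inl rfl) _ ((P.ev 2 (by decide) (by decide) rfl).mem' t) _
    (P.mem (by decide) (by decide) u) (P.ne (by decide) (by decide) hu), P.m7 t u hu]

theorem r61 : P.Rel 6 1 4 := (P.r27 A).tr (P.n8 2 6 rfl (by decide) (by decide))
  (P.n8 7 1 rfl (by decide) (by decide)) (P.n8 4 4 rfl (by decide) (by decide))

theorem r83 : P.Rel 8 3 6 := (P.r27 A).tr (P.n1 2 8 rfl (by decide) (by decide) (by decide))
  (P.n1 7 3 rfl (by decide) (by decide) (by decide))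
  (P.n1 4 6 rfl (by decide) (by decide) (by decide))

theorem r05 : P.Rel 0 5 2 := (P.r83 A).tr (P.n8 8 0 rfl (by decide) (by decide))
  (P.n8 3 5 rfl (by decide) (by decide)) (P.n8 6 2 rfl (by decide) (by decide))

theorem r49 : P.Rel 4 9 6 := (P.r61 A).tr (P.n1 6 4 rfl (by decide) (by decide) (by decide))
  (P.n1 1 9 rfl (by decide) (by decide) (by decide))
  (P.n1 4 6 rfl (by decide) (by decide) (by decide))

theorem r28 (t u : K) : ∃ c ∈ x.U 5, (P.X 8 u)⁻¹ * P.X 2 t * P.X 8 u =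
    P.X 2 t * P.X 4 (P.s t * u) * c * P.X 6 (t * P.s u) := by
  rcases eq_or_ne u 0 with rfl | hu
  · exact ⟨1, one_mem _, by simp [P.zero (k := 8) (by decide) (by decide), P.s_zero,
      P.zero (k := 4) (by decide) (by decide), P.zero (k := 6) (by decide) (by decide)]⟩
  rcases eq_or_ne t 0 with rfl | ht
  · exact ⟨1, one_mem _, by simp [P.zero (k := 2) (by decide) (by decide), P.s_zero,
      P.zero (k := 4) (by decide) (by decide), P.zero (k := 6) (by decide) (by decide)]⟩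
  obtain ⟨c, hc, e⟩ := A.r28 2 8 5 rfl rfl rfl _ ((P.ev 2 (by decide) (by decide) rfl).mem' t)
    (P.ne (by decide) (by decide) ht) _ ((P.ev 8 (by decide) (by decide) rfl).mem' u)
    (P.ne (by decide) (by decide) hu)
  refine ⟨c, hc, ?_⟩
  have k := (P.rf1 1 one_ne_zero).mu (j := 2) rfl (P.mem (k := 8) (by decide) (by decide) t)
    (P.ne (by decide) (by decide) ht)
  rw [P.n1 8 2 rfl (by decide) (by decide) (by decide)] at k
  rw [e, P.m8 t u hu, k, ← P.n1 6 4 rfl (by decide) (by decide) (by decide), mul_comm (P.s t),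
    ← P.m8 u t ht, ← P.n1 2 8 rfl (by decide) (by decide) (by decide) u]
  group

theorem r60 (t u : K) : ∃ c ∈ x.U 3, (P.X 6 t)⁻¹ * ((P.X 0 u)⁻¹ * P.X 6 t * P.X 0 u) =
    P.X 2 (t * P.s u) * c * P.X 4 (P.s t * u) := by
  obtain ⟨c, hc, e⟩ := P.r28 A t u
  have hc' := (P.rf8 1 one_ne_zero).U (j := 3) rfl hc
  refine ⟨_, hc', ?_⟩
  have m2 := (P.ev 2 (by decide) (by decide) rfl).mem' (t * P.s u)
  have m4 := (P.ev 4 (by decide) (by decide) rfl).mem' (P.s t * u)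
  rw [mul_assoc (P.X 2 _), V_cm (by decide) (by decide) m4 hc', ← mul_assoc (P.X 2 _),
    V_cm (j := 2) (by decide) (by decide) m4 m2.1, mul_assoc (P.X 4 _),
    ← V_cm (by decide) (by decide) m2 hc', ← P.n8 8 0 rfl (by decide) (by decide),
    ← P.n8 2 6 rfl (by decide) (by decide), ← P.n8 4 4 rfl (by decide) (by decide),
    ← P.n8 6 2 rfl (by decide) (by decide) (t * P.s u)]
  generalize x.mu 8 (P.X 8 1) = n
  rw [show (n⁻¹ * P.X 8 u * n)⁻¹ * (n⁻¹ * P.X 2 t * n) * (n⁻¹ * P.X 8 u * n) =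
    n⁻¹ * ((P.X 8 u)⁻¹ * P.X 2 t * P.X 8 u) * n by group, e]
  group

/-- the characters of a torus element -/
theorem all {g : G} (hg : Nk x g) {c4 : K} (h4 : P.Ch g 4 c4) :
    ∃ c0 c1 c2 c3 c5 c6 c7 c8 c9, P.Ch g 0 c0 ∧ P.Ch g 1 c1 ∧ P.Ch g 2 c2 ∧ P.Ch g 3 c3 ∧
      P.Ch g 5 c5 ∧ P.Ch g 6 c6 ∧ P.Ch g 7 c7 ∧ P.Ch g 8 c8 ∧ P.Ch g 9 c9 ∧ c4 = c2 * c7 ∧
      c4 = c6 * c1 ∧ c6 = c8 * c3 ∧ c6 = c4 * c9 ∧ c2 = c0 * c5 ∧
      (∀ u, c6 * P.s u = c2 * P.s (c8 * u)) ∧ c4 = P.s c2 * c8 ∧ c2 = c6 * P.s c0 ∧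
      c4 = P.s c6 * c0 := by
  obtain ⟨c2, c7, h2, h7, e1⟩ := (P.r27 A).down (by decide) (by decide) (by decide) (by decide)
    (by decide) (by decide) hg h4
  obtain ⟨c6, c1, h6, h1, e2⟩ := (P.r61 A).down (by decide) (by decide) (by decide) (by decide)
    (by decide) (by decide) hg h4
  obtain ⟨c8, c3, h8, h3, e3⟩ := (P.r83 A).down (by decide) (by decide) (by decide) (by decide)
    (by decide) (by decide) hg h6
  obtain ⟨c4', c9, h4', h9, e4⟩ := (P.r49 A).down (by decide) (by decide) (by decide) (by decide)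
    (by decide) (by decide) hg h6
  obtain ⟨c0, c5, h0, h5, e5⟩ := (P.r05 A).down (by decide) (by decide) (by decide) (by decide)
    (by decide) (by decide) hg h2
  obtain rfl := h4.un h4' (by decide) (by decide)
  have a28 : ∀ u, c4 * u = P.s c2 * (c8 * u) ∧ c6 * P.s u = c2 * P.s (c8 * u) := fun u => by
    obtain ⟨c, hc, e⟩ := P.r28 A 1 u
    obtain ⟨c', hc', e'⟩ := P.r28 A (c2 * 1) (c8 * u)
    have E : P.X 4 (c4 * (P.s 1 * u)) * (g⁻¹ * c * g) * P.X 6 (c6 * (1 * P.s u)) =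
        P.X 4 (P.s (c2 * 1) * (c8 * u)) * c' * P.X 6 (c2 * 1 * P.s (c8 * u)) := by
      apply mul_left_cancel (a := P.X 2 (c2 * 1))
      rw [← mul_assoc, ← mul_assoc, ← mul_assoc (P.X 2 _), ← mul_assoc (P.X 2 _), ← e', ← h2, ← h4,
        ← h6, ← h8, show (g⁻¹ * P.X 8 u * g)⁻¹ * (g⁻¹ * P.X 2 1 * g) * (g⁻¹ * P.X 8 u * g) =
          g⁻¹ * ((P.X 8 u)⁻¹ * P.X 2 1 * P.X 8 u) * g by group, e]
      group
    obtain ⟨k1, k2⟩ := un3 (i := 4) rfl rfl (P.mem (by decide) (by decide) _) (hg 5 c hc).1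
      (P.mem (by decide) (by decide) _) (P.mem (by decide) (by decide) _) hc'
      (P.mem (by decide) (by decide) _) E
    exact ⟨by simpa [P.s_one] using P.inj (by decide) (by decide) k1,
      by simpa using P.inj (by decide) (by decide) k2⟩
  have a60 : c2 = c6 * P.s c0 ∧ c4 = P.s c6 * c0 := by
    obtain ⟨c, hc, e⟩ := P.r60 A 1 1
    obtain ⟨c', hc', e'⟩ := P.r60 A (c6 * 1) (c0 * 1)
    have E : P.X 2 (c2 * (1 * P.s 1)) * (g⁻¹ * c * g) * P.X 4 (c4 * (P.s 1 * 1)) =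
        P.X 2 (c6 * 1 * P.s (c0 * 1)) * c' * P.X 4 (P.s (c6 * 1) * (c0 * 1)) := by
      rw [← e', ← h2, ← h4, ← h6, ← h0, show (g⁻¹ * P.X 6 1 * g)⁻¹ * ((g⁻¹ * P.X 0 1 * g)⁻¹ *
        (g⁻¹ * P.X 6 1 * g) * (g⁻¹ * P.X 0 1 * g)) =
          g⁻¹ * ((P.X 6 1)⁻¹ * ((P.X 0 1)⁻¹ * P.X 6 1 * P.X 0 1)) * g by group, e]
      group
    obtain ⟨k1, k2⟩ := un3 (i := 2) rfl rfl (P.mem (by decide) (by decide) _) (hg 3 c hc).1
      (P.mem (by decide) (by decide) _) (P.mem (by decide) (by decide) _) hc'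
      (P.mem (by decide) (by decide) _) E
    exact ⟨by simpa [P.s_one] using P.inj (by decide) (by decide) k1,
      by simpa [P.s_one] using P.inj (by decide) (by decide) k2⟩
  exact ⟨c0, c1, c2, c3, c5, c6, c7, c8, c9, h0, h1, h2, h3, h5, h6, h7, h8, h9, e1, e2, e3, e4, e5,
    fun u => (a28 u).2, by simpa using (a28 1).1, a60.1, a60.2⟩

theorem ex8 {a : K} (ha : a ≠ 0) : ∃ g, Nk x g ∧ P.Ch g 8 a := by
  have key : ∀ u, u ≠ 0 → ∀ t,
      (x.mu 3 (P.X 3 u))⁻¹ * P.X 8 t * x.mu 3 (P.X 3 u) = P.X 6 (t * u) := fun u hu t => by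
    have k := (P.rf1 1 one_ne_zero).mu (j := 3) rfl (P.mem (k := 7) (by decide) (by decide) u)
      (P.ne (by decide) (by decide) hu)
    rw [P.n1 7 3 rfl (by decide) (by decide) (by decide)] at k
    rw [k, ← P.n1 4 6 rfl (by decide) (by decide) (by decide), ← P.m7 t u hu,
      ← P.n1 2 8 rfl (by decide) (by decide) (by decide)]
    group
  refine ⟨_, (P.rf3 a ha).mul (P.rf3 1 one_ne_zero).inv, fun t => ?_⟩
  have k := key 1 one_ne_zero (a * t)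
  rw [mul_one, mul_comm a, ← key a ha t, mul_comm t] at k
  rw [mul_inv_rev, inv_inv, mul_assoc, mul_assoc, ← mul_assoc (P.X 8 t), ← mul_assoc _ (_ * _),
    ← mul_assoc _ (P.X 8 t), ← k]
  group

theorem s_mul_sq {a : K} (ha : a ≠ 0) :
    (∀ u, P.s (a * u) = P.s a * P.s u) ∧ ∃ c0 c2 c6, c2 ≠ 0 ∧ c6 = c2 * P.s a ∧
      c2 = c6 * P.s c0 ∧ P.s c2 * a = P.s c6 * c0 := by
  obtain ⟨g, hg, h8⟩ := P.ex8 A ha
  obtain ⟨c6, h6⟩ := (P.r83 A).up (by decide) (by decide) (by decide) (by decide) hg h8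
  obtain ⟨c4, -, h4, -⟩ := (P.r49 A).down (by decide) (by decide) (by decide) (by decide)
    (by decide) (by decide) hg h6
  obtain ⟨c0, c1, c2, c3, c5, c6, c7, c8, c9, h0, h1, h2, h3, h5, h6, h7, h8', h9, e1, e2, e3, e4,
    e5, e6, e7, e8, e9⟩ := P.all A hg h4
  obtain rfl := h8.un h8' (by decide) (by decide)
  have k2 := h2.ne (by decide) (by decide)
  have k := e6 1
  rw [P.s_one, mul_one, mul_one] at k
  exact ⟨fun u => mul_left_cancel₀ k2 (by rw [← e6, k, mul_assoc]), c0, c2, c6, k2, k, e8,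
    e7.symm.trans e9⟩

/-- the Tits endomorphism as a ring homomorphism -/
def sig : K →+* K where
  toFun := P.s
  map_one' := P.s_one
  map_zero' := P.s_zero
  map_add' := P.s_add
  map_mul' a u := by
    rcases eq_or_ne a 0 with rfl | ha
    · simp [P.s_zero]
    · exact (P.s_mul_sq A ha).1 u

/-- the Tits endomorphism -/
def tf : TF K where
  σ := P.sig A
  sq a := by
    rcases eq_or_ne a 0 with rfl | ha
    · simp
    obtain ⟨-, c0, c2, c6, k2, e1, e2, e3⟩ := P.s_mul_sq A ha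
    change c6 = c2 * P.sig A a at e1
    change c2 = c6 * P.sig A c0 at e2
    change P.sig A c2 * a = P.sig A c6 * c0 at e3
    have k : a * c0 = 1 := (P.sig A).injective (mul_left_cancel₀ k2 (by
      rw [map_mul, map_one, ← mul_assoc, ← e1, ← e2, mul_one]))
    rw [e1, map_mul, mul_assoc] at e3
    have := mul_left_cancel₀ ((map_ne_zero _).2 k2) e3
    linear_combination (-a) * this - (P.sig A) ((P.sig A) a) * k

theorem tor_of (g : G) (a b : K) (ha : a ≠ 0) (hb : b ≠ 0) (hg : Nk x g)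
    (h4 : ∀ t, g⁻¹ * P.X 4 t * g =
      P.X 4 (a ^ 2 * (P.tf A).σ a * (b ^ 3 * (P.tf A).σ b ^ 2) * t))
    (h6 : g⁻¹ * P.X 6 1 * g = P.X 6 (a * (P.tf A).σ a * (b ^ 3 * (P.tf A).σ b ^ 2))) :
    Tor x (P.tf A) P.X g a b := by
  obtain ⟨c0, c1, c2, c3, c5, c6, c7, c8, c9, h0, h1, h2, h3, h5, h6', h7, h8, h9, e1, e2, e3, e4,
    e5, e6, -, e8, e9⟩ := P.all A hg h4
  have k6 := P.inj (by decide) (by decide) ((h6' 1).symm.trans h6)
  have k := e6 1
  rw [P.s_one, mul_one, mul_one] at k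
  rw [mul_one] at k6
  have n2 := h2.ne (by decide) (by decide)
  change c6 = c2 * (P.tf A).σ c8 at k
  change c2 = c6 * (P.tf A).σ c0 at e8
  change _ = (P.tf A).σ c6 * c0 at e9
  generalize P.tf A = T at *
  have hA : T.σ a ≠ 0 := (map_ne_zero _).2 ha
  have hB : T.σ b ≠ 0 := (map_ne_zero _).2 hb
  have k80 : c8 * c0 = 1 := T.σ.injective (mul_left_cancel₀ n2 (by
    rw [map_mul, map_one, ← mul_assoc, ← k, ← e8, mul_one]))
  subst k6
  simp only [map_mul, map_pow, T.sq] at e9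
  obtain rfl : c0 = (b * T.σ b)⁻¹ := by field_simp at e9 ⊢; linear_combination -e9
  obtain rfl : c8 = b * T.σ b := by field_simp at k80; exact k80
  simp only [map_mul, map_inv₀, T.sq] at e8
  obtain rfl : c2 = a * T.σ a * (b * T.σ b) := by rw [e8]; field_simp
  obtain rfl : c7 = a * (b ^ 2 * T.σ b) := by field_simp at e1; linear_combination -e1
  obtain rfl : a = c1 := by field_simp at e2; linear_combination e2
  obtain rfl : c3 = a * T.σ a * (b ^ 2 * T.σ b) := by field_simp at e3; linear_combination -e3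
  obtain rfl : c9 = a⁻¹ := by field_simp at e4 ⊢; linear_combination -e4
  obtain rfl : c5 = a * T.σ a * (b ^ 2 * T.σ b ^ 2) := by field_simp at e5; linear_combination -e5
  exact ⟨hg, h0, h1, h2, h3, h4, h5, h6', h7, h8, h9⟩

theorem tor_ex (a b : K) (ha : a ≠ 0) (hb : b ≠ 0) :
    ∃ g ∈ iSup x.U, Tor x (P.tf A) P.X g a b := by
  have key : ∀ c : K, c ≠ 0 → ∃ g ∈ iSup x.U, Nk x g ∧ P.Ch g 4 1 ∧ P.Ch g 6 c := fun c hc => by
    obtain ⟨u, rfl⟩ := (Finite.injective_iff_surjective.1 (P.sig A).injective) c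
    have hu : u ≠ 0 := (map_ne_zero _).1 hc
    refine ⟨x.mu 8 (P.X 8 1) * x.mu 8 (P.X 8 u), mul_mem
      (mu_mem (P.mem (by decide) (by decide) _) (P.ne (by decide) (by decide) one_ne_zero))
      (mu_mem (P.mem (by decide) (by decide) _) (P.ne (by decide) (by decide) hu)),
      (P.rf8 1 one_ne_zero).mul (P.rf8 u hu), fun t => ?_, fun t => ?_⟩
    · rw [one_mul]
      nth_rw 2 [← mu8_cm (P.mem (by decide) (by decide) u) (P.ne (by decide) (by decide) hu)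
        ((P.ev 4 (by decide) (by decide) rfl).mem' t)]
      nth_rw 2 [← P.n8 4 4 rfl (by decide) (by decide)]
      group
    · rw [mul_comm _ t]
      change _ = P.X 6 (t * P.s u)
      rw [← P.m8 t u hu, ← P.n8 6 2 rfl (by decide) (by decide)]
      group
  have hA : (P.tf A).σ a ≠ 0 := (map_ne_zero _).2 ha
  have hB : (P.tf A).σ b ≠ 0 := (map_ne_zero _).2 hb
  obtain ⟨g, g1, g2, g4, g6⟩ := key (a * (P.tf A).σ a * (b ^ 3 * (P.tf A).σ b ^ 2)) (by simp [*])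
  obtain ⟨h, h1, h2, h4, h6⟩ :=
    key (a ^ 2 * (P.tf A).σ a * (b ^ 3 * (P.tf A).σ b ^ 2)) (by simp [*])
  have m1 := mu_mem (P.mem (k := 1) (by decide) (by decide) 1)
    (P.ne (by decide) (by decide) one_ne_zero)
  have a46 := P.n1 4 6 rfl (by decide) (by decide) (by decide)
  have a64 := P.n1 6 4 rfl (by decide) (by decide) (by decide)
  have nk := (P.rf1 1 one_ne_zero).conj h2
  generalize x.mu 1 (P.X 1 1) = n at *
  refine ⟨g * (n⁻¹ * h * n), mul_mem g1 (mul_mem (mul_mem (inv_mem m1) h1) m1),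
    P.tor_of A _ a b ha hb (Nk.mul g2 nk) (fun t => ?_) ?_⟩
  · rw [show (g * (n⁻¹ * h * n))⁻¹ * P.X 4 t * (g * (n⁻¹ * h * n)) =
      (n⁻¹ * h * n)⁻¹ * (g⁻¹ * P.X 4 t * g) * (n⁻¹ * h * n) by group, g4, one_mul, ← a64 t,
      ← a64 (_ * t), ← h6]
    group
  · rw [show (g * (n⁻¹ * h * n))⁻¹ * P.X 6 1 * (g * (n⁻¹ * h * n)) =
      (n⁻¹ * h * n)⁻¹ * (g⁻¹ * P.X 6 1 * g) * (n⁻¹ * h * n) by group, g6, mul_one, ← a46]
    have := h4 (a * (P.tf A).σ a * (b ^ 3 * (P.tf A).σ b ^ 2))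
    rw [one_mul] at this
    nth_rw 2 [← this]
    group

end Pre

theorem jobT : JobT := by
  intro G _ _ x H A
  obtain ⟨K, _, _, ⟨P⟩⟩ := pre H A
  have c7 := P.od 7 (by decide) (by decide) rfl
  have h2 : (2 : K) = 0 := by
    rw [← c7.eq_one, ← one_add_one_eq_two, c7.add]; exact A.sqU 7 rfl _ (c7.mem' 1)
  exact ⟨K, _, ‹_›, (CharP.charP_iff_prime_eq_zero Nat.prime_two).2 (by exact_mod_cast h2),
    P.tf A, ⟨⟨P.X, P.ev, P.od, P.n1, P.n8, P.r27 A, P.r28 A, P.tor_of A, P.tor_ex A⟩⟩⟩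

end H79.O8T
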