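import Cfsg.Agent.H54.O8Spec

/-! FS tower (S1144), octagons: reflections of root groups and the field of a Moufang octagon. -/

set_option autoImplicit false
set_option linter.unusedSectionVars false

namespace H79.O8T

open H12.BN H59.BN H54.O8 Subgroup
open H21.BN (Co field_of_End)

variable {G : Type} [Group G] [Finite G] {x : MP 8 G}

theorem m8 (x : MP 8 G) : MK x := H21.BN.mk (by decide)

theorem U_per (x : MP 8 G) {i j : ℤ} (h : j = i + 16) : x.U j = x.U i :=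
  U_congr x (by push_cast; omega)

theorem II_per (x : MP 8 G) (i j : ℤ) : II x.U (i + 16) (j + 16) = II x.U i j :=
  le_antisymm (II_le fun k h1 h2 => by
      rw [U_per x (i := k - 16) (by ring)]; exact le_II _ (by omega) (by omega))
    (II_le fun k h1 h2 => by
      rw [← U_per x (j := k + 16) rfl]; exact le_II _ (by omega) (by omega))

theorem V_per (x : MP 8 G) {i j : ℤ} (h : j = i + 16) : V x j = V x i := by
  subst h
  rw [V, V, U_per x rfl, show i + 16 - 4 = i - 4 + 16 by ring, show i + 16 + 4 = i + 4 + 16 by ring,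
    II_per]

theorem V_le (i : ℤ) : V x i ≤ x.U i := inf_le_left

theorem V_cm {i j : ℤ} (h1 : i - 4 ≤ j) (h2 : j ≤ i + 4) {v u : G} (hv : v ∈ V x i)
    (hu : u ∈ x.U j) : u * v = v * u := hv.2 u (le_II _ h1 h2 hu)

/-- `g` maps `U k` to `U (c - k)` -/
def Rf (x : MP 8 G) (g : G) (c : ℤ) : Prop :=
  ∀ k, ∀ u ∈ x.U k, g⁻¹ * u * g ∈ x.U (c - k) ∧ g * u * g⁻¹ ∈ x.U (c - k)

theorem Rf.per {g : G} {c d : ℤ} (h : Rf x g c) (e : c = d + 16) : Rf x g d := fun k u hu => by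
  rw [← U_per x (i := d - k) (j := c - k) (by omega)]; exact h k u hu

theorem rf_mu {i : ℤ} {a : G} (ha : a ∈ x.U i) (h1 : a ≠ 1) : Rf x (x.mu i a) (2 * i + 8) :=
  fun k u hu => ⟨(m8 x).mu_conj' i a ha h1 k u hu, x.mu_conj ha h1 hu⟩

theorem Rf.inv {g : G} {c : ℤ} (h : Rf x g c) : Rf x g⁻¹ c := fun k u hu => by
  rw [inv_inv]; exact (h k u hu).symm

theorem Rf.U {g : G} {c : ℤ} (h : Rf x g c) {k j : ℤ} (e : j = c - k) {u : G} (hu : u ∈ x.U k) :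
    g⁻¹ * u * g ∈ x.U j := e ▸ (h k u hu).1

theorem Rf.V {g : G} {c : ℤ} (h : Rf x g c) {k j : ℤ} (e : j = c - k) {u : G} (hu : u ∈ V x k) :
    g⁻¹ * u * g ∈ V x j := by
  refine ⟨h.U e hu.1, fun w hw => ?_⟩
  have : II x.U (j - 4) (j + 4) ≤ centralizer {g⁻¹ * u * g} := II_le fun l h1 h2 w hw => by
    have := V_cm (i := k) (j := c - l) (by omega) (by omega) hu (h l w hw).2
    rw [mem_centralizer_singleton_iff]
    calc _ = g⁻¹ * (g * w * g⁻¹ * u) * g := by group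
      _ = _ := by rw [this]; group
  exact mem_centralizer_singleton_iff.1 (this hw)

theorem Rf.mul {g g' : G} {c : ℤ} (h : Rf x g c) (h' : Rf x g' c) : Nk x (g * g') := fun k u hu => by
  have e1 := (h' _ _ (h k u hu).1).1
  have e2 := (h _ _ (h' k u hu).2).2
  rw [sub_sub_cancel] at e1 e2
  exact ⟨by simpa [mul_assoc] using e1, by simpa [mul_assoc] using e2⟩

theorem Nk.mul {g g' : G} (h : Nk x g) (h' : Nk x g') : Nk x (g * g') := fun k u hu =>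
  ⟨by simpa [mul_assoc] using (h' _ _ (h k u hu).1).1,
    by simpa [mul_assoc] using (h _ _ (h' k u hu).2).2⟩

theorem Rf.conj {g g' : G} {c : ℤ} (h : Rf x g c) (h' : Nk x g') : Nk x (g⁻¹ * g' * g) :=
  fun k u hu => by
  have e1 := (h _ _ (h' _ _ (h k u hu).2).1).1
  have e2 := (h _ _ (h' _ _ (h k u hu).2).2).1
  rw [sub_sub_cancel] at e1 e2
  exact ⟨by simpa [mul_assoc] using e1, by simpa [mul_assoc] using e2⟩

theorem Nk.V {g : G} (h : Nk x g) {k : ℤ} {u : G} (hu : u ∈ V x k) : g⁻¹ * u * g ∈ V x k := by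
  refine ⟨(h k u hu.1).1, fun w hw => ?_⟩
  have : II x.U (k - 4) (k + 4) ≤ centralizer {g⁻¹ * u * g} := II_le fun l h1 h2 w hw => by
    have := V_cm h1 h2 hu (h l w hw).2
    rw [mem_centralizer_singleton_iff]
    calc _ = g⁻¹ * (g * w * g⁻¹ * u) * g := by group
      _ = _ := by rw [this]; group
  exact mem_centralizer_singleton_iff.1 (this hw)

theorem Rf.mu {g : G} {c : ℤ} (h : Rf x g c) {i j : ℤ} (e : j = c - i) {a : G} (ha : a ∈ x.U i)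
    (h1 : a ≠ 1) : x.mu j (g⁻¹ * a * g) = g⁻¹ * x.mu i a * g := by
  have := ((m8 x).conj i j g⁻¹ (fun y => ⟨fun hy => by rw [inv_inv]; exact h.U e hy, fun hy => by
      simpa [mul_assoc] using h.inv.U (j := i) (by omega) hy⟩)
    (fun y => ⟨fun hy => by
      rw [inv_inv, U_per x (i := c - (i + (8 : ℕ))) (by push_cast; omega)]; exact h.U rfl hy,
      fun hy => by
        rw [U_per x (i := c - (j + (8 : ℕ))) (by push_cast; omega)]
        simpa [mul_assoc] using h.inv.U rfl hy⟩) a ha h1).2.2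
  rwa [inv_inv] at this

theorem Nk.mu {g : G} (h : Nk x g) {i : ℤ} {a : G} (ha : a ∈ x.U i)
    (h1 : a ≠ 1) : x.mu i (g⁻¹ * a * g) = g⁻¹ * x.mu i a * g := by
  have k : ∀ l y, y ∈ x.U l ↔ g⁻¹ * y * g⁻¹⁻¹ ∈ x.U l := fun l y =>
    ⟨fun hy => by rw [inv_inv]; exact (h l y hy).1,
      fun hy => by simpa [mul_assoc] using (h l _ hy).2⟩
  have := ((m8 x).conj i i g⁻¹ (k i) (k _) a ha h1).2.2
  rwa [inv_inv] at this

theorem mu_inv {i : ℤ} {a : G} (ha : a ∈ x.U i) (h1 : a ≠ 1) (h2 : a * a = 1) :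
    (x.mu i a)⁻¹ = x.mu i a := by
  rw [← ((m8 x).inv i a ha h1).2.2, inv_eq_of_mul_eq_one_left h2]

theorem mu_mem {i : ℤ} {a : G} (ha : a ∈ x.U i) (h1 : a ≠ 1) : x.mu i a ∈ iSup x.U :=
  mul_mem (mul_mem (le_iSup x.U _ (x.ka_mem ha h1)) (le_iSup x.U _ ha))
    (le_iSup x.U _ (x.la_mem ha h1))

/-- `μ(w)`, `w ∈ U 8`, centralises `V 4` -/
theorem mu8_cm {w v : G} (hw : w ∈ x.U 8) (h1 : w ≠ 1) (hv : v ∈ V x 4) :
    (x.mu 8 w)⁻¹ * v * x.mu 8 w = v := by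
  have k1 : x.ka 8 w ∈ x.U 0 := U_per x (j := 8 + (8 : ℕ)) (i := 0) rfl ▸ x.ka_mem hw h1
  have k2 : x.la 8 w ∈ x.U 0 := U_per x (j := 8 + (8 : ℕ)) (i := 0) rfl ▸ x.la_mem hw h1
  have e : x.mu 8 w * v = v * x.mu 8 w := by
    rw [MP.mu, mul_assoc, V_cm (by decide) (by decide) hv k2, ← mul_assoc, mul_assoc _ w,
      V_cm (by decide) (by decide) hv hw, ← mul_assoc, V_cm (by decide) (by decide) hv k1]
    group
  rw [mul_assoc, ← e, inv_mul_cancel_left]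

/-- uniqueness of decompositions `a b c`, `a ∈ U i`, `b ∈ U (i+1)`, `c ∈ U (i+2)` -/
theorem un3 {i j k : ℤ} (hj : j = i + 1) (hk : k = i + 2) {a b c a' b' c' : G} (ha : a ∈ x.U i)
    (hb : b ∈ x.U j) (hc : c ∈ x.U k) (ha' : a' ∈ x.U i) (hb' : b' ∈ x.U j) (hc' : c' ∈ x.U k)
    (e : a * b * c = a' * b' * c') : a = a' ∧ c = c' := by
  have canc : ∀ (i : ℤ) (a a' b b' : G), a ∈ x.U i → a' ∈ x.U i →
      b ∈ II x.U (i + 1) (i + (8 : ℕ)) → b' ∈ II x.U (i + 1) (i + (8 : ℕ)) → a * b = a' * b' →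
      a = a' ∧ b = b' := fun i a a' b b' ha ha' hb hb' e => by
    have : a'⁻¹ * a = 1 := x.disj i _ (mul_mem (inv_mem ha') ha) (by
      rw [show a'⁻¹ * a = b' * b⁻¹ by rw [inv_mul_eq_iff_eq_mul, ← mul_assoc, ← e]; group]
      exact mul_mem hb' (inv_mem hb))
    obtain rfl : a' = a := inv_mul_eq_one.1 this
    exact ⟨rfl, mul_left_cancel e⟩
  rw [mul_assoc, mul_assoc] at e
  obtain ⟨e1, e⟩ := canc i _ _ _ _ ha ha'
    (mul_mem (le_II _ (by omega) (by push_cast; omega) hb)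
      (le_II _ (by omega) (by push_cast; omega) hc))
    (mul_mem (le_II _ (by omega) (by push_cast; omega) hb')
      (le_II _ (by omega) (by push_cast; omega) hc')) e
  exact ⟨e1, (canc j _ _ _ _ hb hb' (le_II _ (by omega) (by push_cast; omega) hc)
    (le_II _ (by omega) (by push_cast; omega) hc') e).2⟩

open scoped IsMulCommutative in
/-- the field: `U 7` acts on `V 2` -/
theorem field7 (H : Hy x) (A : A8 x) {e : G} (he : e ∈ x.U 7) (e1 : e ≠ 1) :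
    ∃ (K W : Type) (_ : Field K) (_ : Finite K) (_ : AddCommGroup W) (_ : Module K W)
      (y : K → G) (v : W → G), Co y (x.U 7) ∧ Co v (V x 2) ∧ y 1 = e ∧
        ∀ t b, t ≠ 0 → (x.mu 7 (y t))⁻¹ * v b * x.mu 7 (y t) =
          (x.mu 7 e)⁻¹ * v (t • b) * x.mu 7 e := by
  have : IsMulCommutative (V x 2) := .of_comm fun a b =>
    Subtype.ext (V_cm (by decide) (by decide) b.2 a.2.1)
  have r : ∀ u ∈ x.U 7, u ≠ 1 → ∀ v ∈ V x 2, v⁻¹ * (u⁻¹ * v * u) = (x.mu 7 u)⁻¹ * v * x.mu 7 u :=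
    fun u hu h1 v hv => by rw [A.r27 2 7 rfl (.inl rfl) v hv u hu h1, inv_mul_cancel_left]
  have rf : ∀ u ∈ x.U 7, u ≠ 1 → Rf x (x.mu 7 u) 6 := fun u hu h1 => (rf_mu hu h1).per rfl
  have m4 : ∀ u ∈ x.U 7, ∀ v ∈ V x 2, v⁻¹ * (u⁻¹ * v * u) ∈ V x 4 := fun u hu v hv => by
    rcases eq_or_ne u 1 with rfl | h1
    · simp
    · rw [r u hu h1 v hv]; exact (rf u hu h1).V rfl hv
  have mi : ∀ u ∈ x.U 7, u ≠ 1 → (x.mu 7 u)⁻¹ = x.mu 7 u := fun u hu h1 =>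
    mu_inv hu h1 (A.sqU 7 rfl u hu)
  let W := Additive (V x 2)
  let L : Additive (x.U 7) →+ AddMonoid.End W := AddMonoidHom.mk' (fun a => AddMonoidHom.mk'
    (fun b => Additive.ofMul ⟨(x.mu 7 e)⁻¹⁻¹ * ((b.toMul : G)⁻¹ * ((a.toMul : G)⁻¹ * b.toMul *
      a.toMul)) * (x.mu 7 e)⁻¹, (rf e he e1).inv.V rfl (m4 _ a.toMul.2 _ b.toMul.2)⟩)
    fun b b' => Subtype.ext (by
        change _ * ((_ * _)⁻¹ * (_ * (_ * _) * _)) * _ = _ * _ * _ * (_ * _ * _)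
        have := V_cm (j := 2) (by decide) (by decide) (m4 _ a.toMul.2 _ b.toMul.2)
          (inv_mem b'.toMul.2.1)
        calc _ = (x.mu 7 e)⁻¹⁻¹ * ((b'.toMul : G)⁻¹ * ((b.toMul : G)⁻¹ * ((a.toMul : G)⁻¹ *
            b.toMul * a.toMul))) * ((a.toMul : G)⁻¹ * b'.toMul * a.toMul) * (x.mu 7 e)⁻¹ := by group
          _ = _ := by rw [this]; group))
    fun a a' => AddMonoidHom.ext fun b => Subtype.ext (by
      change _ * (_ * ((_ * _)⁻¹ * _ * (_ * _))) * _ = _ * _ * _ * (_ * _ * _)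
      have h1 := V_cm (j := 7) (by decide) (by decide) (m4 _ a.toMul.2 _ b.toMul.2) a'.toMul.2
      have h2 := V_cm (j := 4) (by decide) (by decide) (m4 _ a.toMul.2 _ b.toMul.2)
        (m4 _ a'.toMul.2 _ b.toMul.2).1
      calc _ = (x.mu 7 e)⁻¹⁻¹ * (b.toMul : G)⁻¹ * (a'.toMul : G)⁻¹ * b.toMul * (((b.toMul : G)⁻¹ *
            ((a.toMul : G)⁻¹ * b.toMul * a.toMul)) * a'.toMul) * (x.mu 7 e)⁻¹ := by group
        _ = (x.mu 7 e)⁻¹⁻¹ * (((b.toMul : G)⁻¹ * ((a'.toMul : G)⁻¹ * b.toMul * a'.toMul)) *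
            ((b.toMul : G)⁻¹ * ((a.toMul : G)⁻¹ * b.toMul * a.toMul))) * (x.mu 7 e)⁻¹ := by
          rw [← h1]; group
        _ = _ := by rw [h2]; group)
  have hL : ∀ a b, ((L a b).toMul : G) = (x.mu 7 e)⁻¹⁻¹ * ((b.toMul : G)⁻¹ * ((a.toMul : G)⁻¹ *
      b.toMul * a.toMul)) * (x.mu 7 e)⁻¹ := fun _ _ => rfl
  have hL' : ∀ a b, (a.toMul : G) ≠ 1 → ((L a b).toMul : G) =
      x.mu 7 e * ((x.mu 7 a.toMul)⁻¹ * b.toMul * x.mu 7 a.toMul) * (x.mu 7 e)⁻¹ :=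
    fun a b h => by rw [hL, r _ a.toMul.2 h _ b.toMul.2, inv_inv]
  have ext : ∀ {A B : AddMonoid.End W}, (∀ b, ((A b).toMul : G) = (B b).toMul) → A = B :=
    fun h => AddMonoidHom.ext fun b => Subtype.ext (h b)
  obtain ⟨b0, hb0, b1⟩ := H.cen 2 rfl
  have : Nontrivial W := ⟨Additive.ofMul ⟨b0, hb0⟩, 0, fun e => b1 (congrArg Subtype.val e)⟩
  obtain ⟨F, _, _, _, y, y1, y2, y3, y4⟩ := field_of_End L ((injective_iff_map_eq_zero L).2
    fun a h => by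
      by_contra h1
      have := hL' a (Additive.ofMul ⟨b0, hb0⟩) fun e => h1 (Subtype.ext e)
      rw [h] at this
      have h2 := conj_eq_one_iff.1 this.symm
      exact b1 (conj_eq_one_iff.1 (by rwa [inv_inv]))) (e := Additive.ofMul ⟨e, he⟩) (ext fun b => by
      rw [hL' (Additive.ofMul ⟨e, he⟩) _ e1]
      change _ * ((x.mu 7 e)⁻¹ * _ * x.mu 7 e) * _ = (b.toMul : G); group) fun a h0 => by
    have a1 : (a.toMul : G) ≠ 1 := fun e => h0 (Subtype.ext e)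
    have w1 : (x.mu 7 e)⁻¹ * a.toMul * x.mu 7 e ≠ 1 := fun h =>
      a1 (conj_eq_one_iff.1 (by rwa [inv_inv]))
    have w2 := (rf e he e1).U (j := -1) rfl a.toMul.2
    obtain ⟨k1, -, k2⟩ := (m8 x).ka _ _ w2 w1
    rw [(rf e he e1).mu (j := -1) rfl a.toMul.2 a1] at k2
    refine ⟨Additive.ofMul ⟨_, x.ka_mem w2 w1⟩, ext fun b => ?_⟩
    change ((L _ (L a b)).toMul : G) = (b.toMul : G)
    rw [hL' (Additive.ofMul ⟨_, x.ka_mem w2 w1⟩) _ k1, hL' _ _ a1]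
    change _ * ((x.mu (-1 + (8 : ℕ)) (x.ka _ _))⁻¹ * _ * x.mu (-1 + (8 : ℕ)) (x.ka _ _)) * _ = _
    rw [k2]
    have i1 := mi e he e1
    have i2 := mi _ a.toMul.2 a1
    generalize x.mu 7 e = n at i1
    generalize x.mu 7 (a.toMul : G) = m at i2
    have j1 : n * n = 1 := by rw [← inv_mul_cancel n, i1]
    have j2 : m * m = 1 := by rw [← inv_mul_cancel m, i2]
    simp only [mul_inv_rev, i1, i2, mul_assoc]
    simp only [← mul_assoc n n, ← mul_assoc m m, j1, j2, one_mul, mul_one]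
  refine ⟨F, W, inferInstance, inferInstance, inferInstance, inferInstance,
    fun t => (y t).toMul, fun b => b.toMul, ⟨fun s t => by rw [y1]; rfl,
      fun s t h => y2.1 (Subtype.ext h), fun g => ⟨fun hg => ?_, fun ⟨t, e⟩ => e ▸ (y t).toMul.2⟩⟩,
    ⟨fun _ _ => rfl, fun _ _ h => Subtype.ext h, fun g => ⟨fun hg => ⟨Additive.ofMul ⟨g, hg⟩, rfl⟩,
      fun ⟨t, e⟩ => e ▸ t.toMul.2⟩⟩, by simp only [y3]; rfl, fun t b ht => ?_⟩
  · obtain ⟨t, e⟩ := y2.2 (Additive.ofMul ⟨g, hg⟩)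
    exact ⟨t, by rw [e]; rfl⟩
  · have y0 : y 0 = 0 := by simpa using y1 0 0
    beta_reduce
    rw [y4, hL' _ _ fun e => ht (y2.1 ((Subtype.ext e : y t = 0).trans y0.symm))]; group

/-- coordinates before the torus is understood -/
structure Pre (x : MP 8 G) (K : Type) [Field K] where
  X : ℤ → K → G
  s : K → K
  ev : ∀ k : ℤ, 0 ≤ k → k ≤ 8 → k % 2 = 0 → Co (X k) (V x k)
  od : ∀ k : ℤ, 1 ≤ k → k ≤ 9 → k % 2 = 1 → Co (X k) (x.U k)
  n1 : ∀ j k : ℤ, j + k = 10 → 1 ≤ j → 1 ≤ k → j ≠ 5 → ∀ t,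
    (x.mu 1 (X 1 1))⁻¹ * X j t * x.mu 1 (X 1 1) = X k t
  n8 : ∀ j k : ℤ, j + k = 8 → 0 ≤ j → 0 ≤ k → ∀ t,
    (x.mu 8 (X 8 1))⁻¹ * X j t * x.mu 8 (X 8 1) = X k t
  m7 : ∀ t u, u ≠ 0 → (x.mu 7 (X 7 u))⁻¹ * X 2 t * x.mu 7 (X 7 u) = X 4 (t * u)
  m8 : ∀ t u, u ≠ 0 → (x.mu 8 (X 8 u))⁻¹ * X 2 t * x.mu 8 (X 8 u) = X 6 (t * s u)
  s_add : ∀ a b, s (a + b) = s a + s b

theorem Rf.coV {K : Type} [AddGroup K] {g : G} {c : ℤ} (h : Rf x g c) {k j : ℤ} (e : j = c - k)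
    {f : K → G} (hf : Co f (H54.O8.V x k)) : Co (fun t => g⁻¹ * f t * g) (H54.O8.V x j) :=
  hf.conj (fun _ hu => h.V e hu) fun _ hu => by simpa using h.inv.V (j := k) (by omega) hu

theorem Rf.coU {K : Type} [AddGroup K] {g : G} {c : ℤ} (h : Rf x g c) {k j : ℤ} (e : j = c - k)
    {f : K → G} (hf : Co f (x.U k)) : Co (fun t => g⁻¹ * f t * g) (x.U j) :=
  hf.conj (fun _ hu => h.U e hu) fun _ hu => by simpa using h.inv.U (j := k) (by omega) hu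

theorem pre (H : Hy x) (A : A8 x) :
    ∃ (K : Type) (_ : Field K) (_ : Finite K), Nonempty (Pre x K) := by
  obtain ⟨e1, he1, ne1⟩ := x.nontriv 1
  obtain ⟨e8, he8, ne8⟩ := H.cen 8 rfl
  have r1 : Rf x (x.mu 1 e1) 10 := rf_mu he1 ne1
  have r8 : ∀ w ∈ V x 8, w ≠ 1 → Rf x (x.mu 8 w) 8 := fun w hw h1 => (rf_mu hw.1 h1).per rfl
  have i1 := mu_inv he1 ne1 (A.sqU 1 rfl e1 he1)
  have i8 := mu_inv he8.1 ne8 (A.sqV 8 rfl e8 he8)
  have q8 := r8 e8 he8 ne8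
  have cne : ∀ {g a : G}, a ≠ 1 → g⁻¹ * a * g ≠ 1 := fun h1 h =>
    h1 (conj_eq_one_iff.1 (by rwa [inv_inv]))
  have he := q8.U (j := 7) rfl he1
  have m7 := q8.mu (j := 7) rfl he1 ne1
  have r7 : Rf x _ 6 := (rf_mu he (cne ne1)).per rfl
  obtain ⟨K, W, _, _, _, _, y, v, cy, cv, y1, hy⟩ := field7 H A he (cne ne1)
  have ex : ∀ w, ∃ s : K, (w = 1 → s = 0) ∧ (w ∈ V x 8 → w ≠ 1 → s ≠ 0 ∧ ∀ b,
      (x.mu 8 w)⁻¹ * v b * x.mu 8 w = (x.mu 8 e8)⁻¹ * v (s • b) * x.mu 8 e8) := fun w => by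
    by_cases hw : w ∈ V x 8 ∧ w ≠ 1
    swap
    · exact ⟨0, fun _ => rfl, fun h1 h2 => (hw ⟨h1, h2⟩).elim⟩
    have nk := (r8 w hw.1 hw.2).mul q8.inv
    obtain ⟨s, hs⟩ := (cy.mem _).1 (nk 7 _ he).1
    have s0 : s ≠ 0 := fun h => cne (cne ne1) (by rw [hs, h, cy.zero])
    refine ⟨s⁻¹, fun h => (hw.2 h).elim, fun _ _ => ⟨inv_ne_zero s0, fun b => ?_⟩⟩
    obtain ⟨b', hb⟩ := (cv.mem _).1 (Nk.V nk (cv.mem' b))
    have h4 := r7.V (j := 4) rfl (cv.mem' b)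
    have k := hy s b' s0
    rw [← hs, Nk.mu nk he (cne ne1), ← hb] at k
    have k4 := mu8_cm hw.1.1 hw.2 h4
    have k5 := mu8_cm he8.1 ne8 h4
    have : v (s • b') = v b := by
      generalize x.mu 7 _ = n7 at k k4 k5
      have : n7⁻¹ * v (s • b') * n7 = n7⁻¹ * v b * n7 := by
        rw [← k]
        calc _ = x.mu 8 e8 * ((x.mu 8 w)⁻¹ * (n7⁻¹ * v b * n7) * x.mu 8 w) * (x.mu 8 e8)⁻¹ := by
              group
          _ = _ := by rw [k4]; nth_rw 1 [← k5]; group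
      simpa using this
    rw [← cv.inj this, inv_smul_smul₀ s0, ← hb, this]; group
  choose S S1 hS using ex
  obtain ⟨b0, hb0⟩ := (cv.mem _).1 (r1.V (j := 2) rfl he8)
  have b1 : b0 ≠ 0 := fun h => cne ne8 (by rw [hb0, h, cv.zero])
  have dec : ∀ w ∈ V x 8, ∃ a ∈ V x 4, ∃ c ∈ x.U 5, w⁻¹ * v b0 * w =
      v b0 * (a * c * ((x.mu 8 e8)⁻¹ * v (S w • b0) * x.mu 8 e8)) := fun w hw => by
    rcases eq_or_ne w 1 with rfl | h1
    · exact ⟨1, one_mem _, 1, one_mem _, by simp [S1 1 rfl, cv.zero]⟩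
    obtain ⟨c, hc, e⟩ := A.r28 2 8 5 rfl rfl rfl _ (cv.mem' b0) (cv.ne_one b1) w hw h1
    exact ⟨_, (rf_mu (cv.mem' b0).1 (cv.ne_one b1)).V rfl hw, c, hc, by
      rw [e, (hS w hw h1).2]; group⟩
  have Sadd : ∀ w ∈ V x 8, ∀ w' ∈ V x 8, S (w * w') = S w + S w' := fun w hw w' hw' => by
    obtain ⟨a, ha, c, hc, e⟩ := dec w hw
    obtain ⟨a', ha', c', hc', e'⟩ := dec w' hw'
    obtain ⟨a'', ha'', c'', hc'', e''⟩ := dec _ (mul_mem hw hw')
    have m6 := fun b => q8.V (j := 6) rfl (cv.mem' b)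
    have k1 := V_cm (j := 4) (by decide) (by decide) hw' ha.1
    have k2 := V_cm (j := 5) (by decide) (by decide) hw' hc
    have k3 := V_cm (j := 6) (by decide) (by decide) hw' (m6 (S w • b0)).1
    have k4 := V_cm (j := 4) (by decide) (by decide) (m6 (S w' • b0)) ha.1
    have k5 := V_cm (j := 5) (by decide) (by decide) (m6 (S w' • b0)) hc
    have k6 := V_cm (j := 5) (by decide) (by decide) ha hc'
    have E : a'' * c'' * ((x.mu 8 e8)⁻¹ * v (S (w * w') • b0) * x.mu 8 e8) = (a' * a) * (c' * c) *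
        (((x.mu 8 e8)⁻¹ * v (S w' • b0) * x.mu 8 e8) *
          ((x.mu 8 e8)⁻¹ * v (S w • b0) * x.mu 8 e8)) := by
      apply mul_left_cancel (a := v b0)
      rw [← e'', show (w * w')⁻¹ * v b0 * (w * w') = w'⁻¹ * (w⁻¹ * v b0 * w) * w' by group, e]
      generalize (x.mu 8 e8)⁻¹ * v (S w' • b0) * x.mu 8 e8 = p' at *
      generalize (x.mu 8 e8)⁻¹ * v (S w • b0) * x.mu 8 e8 = p at *
      calc _ = w'⁻¹ * v b0 * a * c * (p * w') := by group
        _ = w'⁻¹ * v b0 * a * (c * w') * p := by rw [k3]; group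
        _ = w'⁻¹ * v b0 * (a * w') * c * p := by rw [k2]; group
        _ = (w'⁻¹ * v b0 * w') * a * c * p := by rw [k1]; group
        _ = v b0 * a' * c' * (p' * a) * c * p := by rw [e']; group
        _ = v b0 * a' * (c' * a) * (p' * c) * p := by rw [← k4]; group
        _ = _ := by rw [k6, ← k5]; group
    have := (un3 (i := 4) rfl rfl ha''.1 hc'' (m6 _).1 (mul_mem ha'.1 ha.1) (mul_mem hc' hc)
      (mul_mem (m6 _).1 (m6 _).1) E).2
    have h2 : v (S (w * w') • b0) = v ((S w + S w') • b0) := by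
      rw [add_comm, add_smul, cv.add]
      apply (MulAut.conj (x.mu 8 e8)⁻¹).injective
      simpa [mul_assoc] using this
    exact smul_left_injective K b1 (cv.inj h2)
  have c8 := r1.coV (j := 8) rfl cv
  have : Finite W := Finite.of_injective _ cv.inj
  have bij : Function.Bijective fun t : K => t • b0 :=
    (smul_left_injective K b1).bijective_of_nat_card_le (by
      refine Nat.card_le_card_of_injective (fun b => S ((x.mu 1 e1)⁻¹ * v b * x.mu 1 e1))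
        fun b b' h => c8.inj ?_
      have k := Sadd _ (mul_mem (c8.mem' b) (inv_mem (c8.mem' b'))) _ (c8.mem' b')
      rw [inv_mul_cancel_right] at k
      by_contra hne
      refine (hS _ (mul_mem (c8.mem' b) (inv_mem (c8.mem' b'))) fun h' =>
        hne (mul_inv_eq_one.1 h')).1 ?_
      beta_reduce at h k
      linear_combination h - k)
  have c2 := cv.comp (fun s t => add_smul s t b0) bij
  clear c8
  have c8 := r1.coV (j := 8) rfl c2
  have c6 := q8.coV (j := 6) rfl c2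
  have c4 := r1.coV (j := 4) rfl c6
  have c0 := q8.coV (j := 0) rfl c8
  have c1 := q8.coU (j := 1) rfl cy
  have c3 := r1.coU (j := 3) rfl cy
  have c5 := q8.coU (j := 5) rfl c3
  have c9 := r1.coU (j := 9) rfl c1
  have j1 : ∀ g, (x.mu 1 e1)⁻¹ * ((x.mu 1 e1)⁻¹ * g * x.mu 1 e1) * x.mu 1 e1 = g := fun g => by
    nth_rw 1 [i1]; nth_rw 4 [← i1]; group
  have j8 : ∀ g, (x.mu 8 e8)⁻¹ * ((x.mu 8 e8)⁻¹ * g * x.mu 8 e8) * x.mu 8 e8 = g := fun g => by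
    nth_rw 1 [i8]; nth_rw 4 [← i8]; group
  have x1 : (x.mu 8 e8)⁻¹ * y 1 * x.mu 8 e8 = e1 := by rw [y1, j8]
  have x8 : (x.mu 1 e1)⁻¹ * v ((1 : K) • b0) * x.mu 1 e1 = e8 := by rw [one_smul, ← hb0, j1]
  have f4 : ∀ t : K, (x.mu 8 e8)⁻¹ * ((x.mu 1 e1)⁻¹ * ((x.mu 8 e8)⁻¹ * v (t • b0) * x.mu 8 e8) *
      x.mu 1 e1) * x.mu 8 e8 = (x.mu 1 e1)⁻¹ * ((x.mu 8 e8)⁻¹ * v (t • b0) * x.mu 8 e8) *
      x.mu 1 e1 := fun t => mu8_cm he8.1 ne8 (c4.mem' t)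
  let X : ℤ → K → G := fun k t =>
    if k = 0 then (x.mu 8 e8)⁻¹ * ((x.mu 1 e1)⁻¹ * v (t • b0) * x.mu 1 e1) * x.mu 8 e8
    else if k = 1 then (x.mu 8 e8)⁻¹ * y t * x.mu 8 e8
    else if k = 2 then v (t • b0)
    else if k = 3 then (x.mu 1 e1)⁻¹ * y t * x.mu 1 e1
    else if k = 4 then (x.mu 1 e1)⁻¹ * ((x.mu 8 e8)⁻¹ * v (t • b0) * x.mu 8 e8) * x.mu 1 e1
    else if k = 5 then (x.mu 8 e8)⁻¹ * ((x.mu 1 e1)⁻¹ * y t * x.mu 1 e1) * x.mu 8 e8
    else if k = 6 then (x.mu 8 e8)⁻¹ * v (t • b0) * x.mu 8 e8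
    else if k = 7 then y t
    else if k = 8 then (x.mu 1 e1)⁻¹ * v (t • b0) * x.mu 1 e1
    else (x.mu 1 e1)⁻¹ * ((x.mu 8 e8)⁻¹ * y t * x.mu 8 e8) * x.mu 1 e1
  have X1 : X 1 1 = e1 := x1
  have X8 : X 8 1 = e8 := x8
  refine ⟨K, inferInstance, inferInstance, ⟨{
    X := X
    s := fun u => S (X 8 u)
    ev := fun k h1 h2 h3 => by
      obtain rfl | rfl | rfl | rfl | rfl : k = 0 ∨ k = 2 ∨ k = 4 ∨ k = 6 ∨ k = 8 := by omega
      exacts [c0, c2, c4, c6, c8]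
    od := fun k h1 h2 h3 => by
      obtain rfl | rfl | rfl | rfl | rfl : k = 1 ∨ k = 3 ∨ k = 5 ∨ k = 7 ∨ k = 9 := by omega
      exacts [c1, c3, c5, cy, c9]
    n1 := fun j k h1 h2 h3 h4 t => ?_
    n8 := fun j k h1 h2 h3 t => ?_
    m7 := fun t u hu => ?_
    m8 := fun t u hu => ?_
    s_add := fun a b => ?_ }⟩⟩
  · rw [X1]
    obtain rfl : k = 10 - j := by omega
    have : j ≤ 9 := by omega
    interval_cases j
    exacts [rfl, rfl, j1 _, j1 _, (h4 rfl).elim, rfl, rfl, j1 _, j1 _]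
  · rw [X8]
    obtain rfl : k = 8 - j := by omega
    have : j ≤ 8 := by omega
    interval_cases j
    exacts [j8 _, j8 _, rfl, rfl, f4 t, j8 _, j8 _, rfl, rfl]
  · refine (hy u (t • b0) hu).trans (Eq.trans ?_ (f4 (t * u)))
    rw [m7, smul_smul, mul_comm u t]
    simp only [mul_inv_rev, i8, mul_assoc]
  · refine ((hS _ (c8.mem' u) (c8.ne_one hu)).2 (t • b0)).trans ?_
    rw [smul_smul, mul_comm]; rfl
  · exact (congrArg S (c8.add a b)).trans (Sadd _ (c8.mem' a) _ (c8.mem' b))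

end H79.O8T
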