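import Cfsg.Agent.H47.O8Cm

/-! Finite checks for `JobO2` of `H47.O8Sp` (blueprint `LOCAL3C.md`, §5.18). -/

set_option autoImplicit false
set_option maxRecDepth 100000
set_option synthInstance.maxSize 2048
open H47.O8
open H47.MC (V Mat)
open scoped Matrix

namespace H79.O8

def LE : List Mat := [!![0, 1, 0, 0; 1, 0, 0, 0; 0, 0, 0, 1; 0, 0, 1, 0],
  !![0, 1, 0, 0; 1, 0, 0, 0; 0, 0, 0, 2; 0, 0, 2, 0],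
  !![0, 1, 0, 0; 1, 0, 0, 0; 0, 0, 1, 0; 0, 0, 0, 1],
  !![0, 1, 0, 0; 1, 0, 0, 0; 0, 0, 2, 0; 0, 0, 0, 2],
  !![0, 2, 0, 0; 2, 0, 0, 0; 0, 0, 0, 1; 0, 0, 1, 0],
  !![0, 2, 0, 0; 2, 0, 0, 0; 0, 0, 0, 2; 0, 0, 2, 0],
  !![0, 2, 0, 0; 2, 0, 0, 0; 0, 0, 1, 0; 0, 0, 0, 1],
  !![0, 2, 0, 0; 2, 0, 0, 0; 0, 0, 2, 0; 0, 0, 0, 2],
  !![1, 0, 0, 0; 0, 1, 0, 0; 0, 0, 0, 1; 0, 0, 1, 0],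
  !![1, 0, 0, 0; 0, 1, 0, 0; 0, 0, 0, 2; 0, 0, 2, 0],
  !![1, 0, 0, 0; 0, 1, 0, 0; 0, 0, 1, 0; 0, 0, 0, 1],
  !![1, 0, 0, 0; 0, 1, 0, 0; 0, 0, 2, 0; 0, 0, 0, 2],
  !![2, 0, 0, 0; 0, 2, 0, 0; 0, 0, 0, 1; 0, 0, 1, 0],
  !![2, 0, 0, 0; 0, 2, 0, 0; 0, 0, 0, 2; 0, 0, 2, 0],
  !![2, 0, 0, 0; 0, 2, 0, 0; 0, 0, 1, 0; 0, 0, 0, 1],
  !![2, 0, 0, 0; 0, 2, 0, 0; 0, 0, 2, 0; 0, 0, 0, 2]]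

def LO : List Mat := [!![0, 1, 0, 0; 1, 0, 0, 0; 0, 0, 0, 1; 0, 0, 2, 0],
  !![0, 1, 0, 0; 1, 0, 0, 0; 0, 0, 0, 2; 0, 0, 1, 0],
  !![0, 1, 0, 0; 1, 0, 0, 0; 0, 0, 1, 0; 0, 0, 0, 2],
  !![0, 1, 0, 0; 1, 0, 0, 0; 0, 0, 2, 0; 0, 0, 0, 1],
  !![0, 2, 0, 0; 2, 0, 0, 0; 0, 0, 0, 1; 0, 0, 2, 0],
  !![0, 2, 0, 0; 2, 0, 0, 0; 0, 0, 0, 2; 0, 0, 1, 0],
  !![0, 2, 0, 0; 2, 0, 0, 0; 0, 0, 1, 0; 0, 0, 0, 2],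
  !![0, 2, 0, 0; 2, 0, 0, 0; 0, 0, 2, 0; 0, 0, 0, 1],
  !![1, 0, 0, 0; 0, 1, 0, 0; 0, 0, 0, 1; 0, 0, 2, 0],
  !![1, 0, 0, 0; 0, 1, 0, 0; 0, 0, 0, 2; 0, 0, 1, 0],
  !![1, 0, 0, 0; 0, 1, 0, 0; 0, 0, 1, 0; 0, 0, 0, 2],
  !![1, 0, 0, 0; 0, 1, 0, 0; 0, 0, 2, 0; 0, 0, 0, 1],
  !![2, 0, 0, 0; 0, 2, 0, 0; 0, 0, 0, 1; 0, 0, 2, 0],
  !![2, 0, 0, 0; 0, 2, 0, 0; 0, 0, 0, 2; 0, 0, 1, 0],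
  !![2, 0, 0, 0; 0, 2, 0, 0; 0, 0, 1, 0; 0, 0, 0, 2],
  !![2, 0, 0, 0; 0, 2, 0, 0; 0, 0, 2, 0; 0, 0, 0, 1]]

def LF1 : List Mat := [!![0, 1, 0, 0; 1, 0, 0, 0; 0, 0, 1, 0; 0, 0, 0, 1],
  !![0, 1, 0, 0; 1, 0, 0, 0; 0, 0, 1, 0; 0, 0, 0, 2],
  !![0, 1, 0, 0; 1, 0, 0, 0; 0, 0, 2, 0; 0, 0, 0, 1],
  !![0, 1, 0, 0; 1, 0, 0, 0; 0, 0, 2, 0; 0, 0, 0, 2],
  !![0, 2, 0, 0; 2, 0, 0, 0; 0, 0, 1, 0; 0, 0, 0, 1],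
  !![0, 2, 0, 0; 2, 0, 0, 0; 0, 0, 1, 0; 0, 0, 0, 2],
  !![0, 2, 0, 0; 2, 0, 0, 0; 0, 0, 2, 0; 0, 0, 0, 1],
  !![0, 2, 0, 0; 2, 0, 0, 0; 0, 0, 2, 0; 0, 0, 0, 2],
  !![1, 0, 0, 0; 0, 1, 0, 0; 0, 0, 1, 0; 0, 0, 0, 1],
  !![1, 0, 0, 0; 0, 1, 0, 0; 0, 0, 1, 0; 0, 0, 0, 2],
  !![1, 0, 0, 0; 0, 1, 0, 0; 0, 0, 2, 0; 0, 0, 0, 1],
  !![1, 0, 0, 0; 0, 1, 0, 0; 0, 0, 2, 0; 0, 0, 0, 2],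
  !![2, 0, 0, 0; 0, 2, 0, 0; 0, 0, 1, 0; 0, 0, 0, 1],
  !![2, 0, 0, 0; 0, 2, 0, 0; 0, 0, 1, 0; 0, 0, 0, 2],
  !![2, 0, 0, 0; 0, 2, 0, 0; 0, 0, 2, 0; 0, 0, 0, 1],
  !![2, 0, 0, 0; 0, 2, 0, 0; 0, 0, 2, 0; 0, 0, 0, 2]]

/-- the matrices of `F = ⟨t, τ₁, τ₂, τ₃, c⟩` -/
def LF : List Mat := LE ++ LO

def pQ : Fin 3 → Mat := ![1, !![2, 1, 1, 1; 1, 2, 1, 1; 1, 1, 2, 1; 2, 2, 2, 1],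
  !![2, 1, 1, 2; 1, 2, 1, 2; 1, 1, 2, 2; 1, 1, 1, 1]]

theorem clo_F : Clo LF := by decide +kernel

theorem clo_F1 : Clo LF1 := by decide +kernel

theorem LF_T : AllL LF fun N => mm N mT = mm mT N := by decide +kernel

theorem LF1_T : AllL LF1 fun N => mm N mT = mm mT N := by decide +kernel

theorem dec96 {M : Mat} (hi : Iso M) (h2 : M * mT = mT * M) :
    ∃ N ∈ LF, ∃ a : Fin 3, M = N * mQ1 ^ a.val := by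
  simp only [pow_Q1, mul_eq _ (_ : Mat)]
  exact forall_T' (P := fun M => ∃ N ∈ LF, ∃ a : Fin 3, M = mm N (pQ a)) (by decide +kernel) hi h2

theorem LE_cases : AllL LE fun N => 
    N = 1 ∨ N = mT ∨ mm N N = 1 ∧ ∃ k, act N (uu k) = -uu k := by decide +kernel

theorem LO_move : AllL LO fun N =>
    ∃ k l, k ≠ l ∧ (act N (zz k) = zz l ∨ act N (zz k) = -zz l) := by decide +kernel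

theorem LO_mul : AllL LO fun N => AllL LO fun N' => mm N N' ∈ LE := by decide +kernel

theorem LF1_pair : AllL LF1 fun N => ∀ k, k = 0 ∨ k = 1 → ∃ l, (l = 0 ∨ l = 1) ∧
    (act N (zz k) = zz l ∨ act N (zz k) = -zz l) := by decide +kernel

end H79.O8
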