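import Cfsg.Agent.H79.O8a

/-! `JobO2` of `H47.O8Sp`, first part: `T = Σ F` is a Sylow `2`-subgroup (`LOCAL3C.md`, §5.18). -/

set_option autoImplicit false
set_option maxRecDepth 100000
set_option synthInstance.maxSize 2048
open Cfsg Subgroup H14 H98 H56.L3 H42.L3 H42.MC H26.MC H47.O8
open H47.MC (V Mat Coord Acts Nr)
open scoped Matrix commutatorElement

namespace H79.O8

universe u

variable {G : Type u} [Group G] [Finite G] {d : Dat G} (h : Loc d) {c : G} {g a w : G}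
include h

theorem hs_B {L : List Mat} (hL : Clo L) (hT : AllL L fun N => mm N mT = mm mT N) :
    hs d hL ≤ d.B := fun _ ⟨N, h1, h2⟩ => h.hat_B h2 (by rw [mul_eq, mul_eq]; exact hT N h1)

theorem card_T (hc : Hat d c mC) (ex : Ex d) {L : List Mat} (hL : Clo L)
    (hT : AllL L fun N => mm N mT = mm mT N) (ht : mT ∈ L) :
    Nat.card (hs d hL ⊔ d.Sg : Subgroup G) = L.length * 256 := by
  have h1 := card_sup_inf ((hs_B h hL hT).trans ex.nB)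
  rw [show hs d hL ⊓ d.Sg = zpowers d.t from le_antisymm
    (fun x hx => ex.inf ⟨hx.2, (hs_B h hL hT hx.1).1⟩)
    (zpowers_le.2 ⟨⟨_, ht, h.ht⟩, h.t_Sg⟩), h.card_zt, h.card_hs' hc hL, ex.card] at h1
  omega

omit h in
theorem Sg_fixm (ex : Ex d) {σ ρ : G} (hσ : σ ∈ d.Sg) (hρ : ρ ∈ d.Sg) : σ ∈ fixm d.t ρ :=
  ⟨ex.le hσ, ex.cm σ hσ ρ hρ⟩

omit h [Finite G] in
theorem H_t (ex : Ex d) : d.B ⊔ d.Sg ≤ Ce d.t := sup_le inf_le_right ex.le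

omit h [Finite G] in
theorem H_nr (ex : Ex d) : d.B ⊔ d.Sg ≤ Nr d.Sg := sup_le ex.nB le_normalizer

/-- `N(T) ≤ C(t)` -/
theorem nr_t (ex : Ex d) {T : Subgroup G} (h1 : d.Sg ≤ T) (h2 : T ≤ d.B ⊔ d.Sg) (hg : g ∈ Nr T) :
    g ∈ Ce d.t := by
  have h3 : ∀ σ ∈ d.Sg, σ * (g * d.t * g⁻¹) = g * d.t * g⁻¹ * σ := fun σ hσ => by
    have := mem_Ce.1 (conj_mem_Ce (H_t ex (h2 (conj_mem_of_mem_normalizer' hg (h1 hσ)))) g)
    simpa [mul_assoc] using this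
  obtain ⟨b, hb, s, hs, e⟩ := (mem_sup_left_norm ex.nB).1
    (h2 (conj_mem_of_mem_normalizer hg (h1 h.t_Sg)))
  have h4 : b ∈ zpowers d.t := ex.faith b hb fun σ hσ => by
    have h5 : b * s ∈ fixm d.t σ := ⟨mul_mem hb.2 (ex.le hs), by
      rw [← e, ← h3 σ hσ, mul_inv_cancel_right, mul_inv_cancel]; exact one_mem _⟩
    simpa using (mul_mem h5 (inv_mem (Sg_fixm ex hs hσ))).2
  rcases h.mem_zt.1 (ex.cen ⟨e ▸ mul_mem (h.zt_Sg h4) hs, fun σ hσ => h3 σ hσ⟩) with e | e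
  · exact absurd (by simpa using e) h.t_ne
  · exact mem_Ce'.2 e

/-- `Σ` is the only subgroup of `T` of its kind -/
theorem eq_Sg (hc : Hat d c mC) (ex : Ex d) {A : Subgroup G} (h1 : A ≤ hs d clo_F ⊔ d.Sg)
    (h2 : Nat.card A = 512) (h3 : ∀ a ∈ A, ∀ a' ∈ A, a ∈ fixm d.t a') : A ≤ d.Sg := by
  have hF := hs_B h clo_F LF_T
  have hn : A ≤ Nr d.Sg := (h1.trans (sup_le_sup_right hF _)).trans (H_nr ex)
  have dec : ∀ a ∈ A, ∃ f N, ∃ σ ∈ d.Sg, N ∈ LF ∧ Hat d f N ∧ f ∈ d.B ∧ a = f * σ ∧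
      ∀ r ∈ A ⊓ d.Sg, f ∈ fixm d.t r := fun a ha => by
    obtain ⟨f, ⟨N, a1, a2⟩, σ, hσ, rfl⟩ := (mem_sup_left_norm (hF.trans ex.nB)).1 (h1 ha)
    exact ⟨f, N, σ, hσ, a1, a2, hF ⟨N, a1, a2⟩, rfl, fun r hr => by
      simpa using mul_mem (h3 _ ha r hr.1) (inv_mem (Sg_fixm ex hσ hr.2))⟩
  have h4 := card_sup_inf hn
  rw [h2, ex.card] at h4
  have ev : ∀ f N, ∀ σ ∈ d.Sg, N ∈ LE → Hat d f N → f * σ ∈ A → f * σ ∈ d.Sg :=
      fun f N σ hσ a1 a2 ha => by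
    rcases LE_cases N a1 with e | e | ⟨e, k, e'⟩
    · rw [h.eq_one a2 e, one_mul]; exact hσ
    · rw [h.uniq a2 h.ht e]; exact mul_mem h.t_Sg hσ
    exfalso
    have hB := hF ⟨N, List.mem_append_left _ a1, a2⟩
    have h5 := (ex.free k f hB (h.sq a2 (mul_eq N N ▸ e)) (by
      rw [a2.1, mulVec_eq, e', v_neg h.co])).2 (A ⊓ d.Sg) inf_le_right fun r hr => by
        simpa using (mul_mem (h3 _ ha r hr.1) (inv_mem (Sg_fixm ex hσ hr.2))).2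
    have h6 := card_T h hc ex clo_F LF_T (by decide +kernel)
    have h7 : A ⊔ d.Sg = hs d clo_F ⊔ d.Sg := eq_of_le_of_card_ge (sup_le h1 le_sup_right) (by
      rw [h6, show LF.length = 32 from rfl]; nlinarith)
    obtain ⟨x, hx, s, hs, e1⟩ := (mem_sup_left_norm hn).1
      (h7.ge (mem_sup_left ⟨mC, by decide +kernel, hc⟩))
    obtain ⟨y, hy, s', hs', e2⟩ := (mem_sup_left_norm hn).1
      (h7.ge (mem_sup_left ⟨mR 1, by decide +kernel, h.hτ 1⟩))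
    have h8 : c * d.τ 1 * c⁻¹ * (d.τ 1)⁻¹ ∈ d.Sg := by
      have := mul_mem (mul_mem (mul_mem (conj_mem_of_mem_normalizer (hn hx) hs)
        (conj_mem_of_mem_normalizer (hn (mul_mem hx hy)) (mul_mem hs' (inv_mem hs))))
        (h.zt_Sg (h3 x hx y hy).2)) (conj_mem_of_mem_normalizer (hn hy) (inv_mem hs'))
      convert this using 1
      rw [e1, e2]; group
    rw [h.conj hc (h.hτ 1) (h.hτ 2) (by decide +kernel), h.τ_inv] at h8
    have h9 := ((h.hτ 2).mul (h.hτ 1)).1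
    rcases h.mem_zt.1 (ex.inf ⟨h8, acts_nr h.co h9⟩) with e | e <;> rw [e] at h9
    exacts [absurd (acts_unique h.co h9 acts_one) (by decide +kernel),
      absurd (acts_unique h.co h9 h.aT) (by decide +kernel)]
  intro a0 ha0
  by_contra e0
  have od : ∀ a ∈ A, a ∉ d.Sg → ∃ f N, ∃ σ ∈ d.Sg, N ∈ LO ∧ Hat d f N ∧ f ∈ d.B ∧ a = f * σ ∧
      ∀ r ∈ A ⊓ d.Sg, f ∈ fixm d.t r := fun a ha e => by
    obtain ⟨f, N, σ, hσ, a1, a2, a3, rfl, a4⟩ := dec a ha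
    exact ⟨f, N, σ, hσ, (List.mem_append.1 a1).resolve_left fun e' => e (ev f N σ hσ e' a2 ha),
      a2, a3, rfl, a4⟩
  obtain ⟨f, N, σ, hσ, a1, a2, a3, rfl, a4⟩ := od _ ha0 e0
  have h5 : d.Sg.relIndex A ∣ 2 := index_dvd_two_iff.2 ⟨⟨_, ha0⟩, fun b => by
    refine or_iff_not_imp_right.2 fun e => ?_
    obtain ⟨f', N', σ', hσ', b1, b2, -, b3, -⟩ := od _ b.2 e
    have : (b : G) * (f * σ) = f' * f * (f⁻¹ * σ' * f * σ) := by rw [b3]; group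
    change (b : G) * (f * σ) ∈ d.Sg
    exact this ▸ ev _ _ _ (mul_mem (conj_mem_of_mem_normalizer' (ex.nB a3) hσ') hσ)
      (mul_eq N' N ▸ LO_mul N' b1 N a1) (b2.mul a2) (this ▸ mul_mem b.2 ha0)⟩
  have h6 := relIndex_mul_card (inf_le_left : A ⊓ d.Sg ≤ A)
  rw [inf_relIndex_left, h2] at h6
  obtain ⟨k, l, kl, e⟩ := LO_move N a1
  have h7 := h.fr.perm f a3 N a2.1 k l (by simpa only [mulVec_eq] using e)
  have h8 := card_sup_inf ((inf_le_right : A ⊓ d.Sg ≤ _).trans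
    (h.nr_of_le ex.cm' (zpowers_le.2 (h.fr.tm k)) (RR_le d k)))
  have h9 := card_le_of_le (sup_le (inf_le_right : A ⊓ d.Sg ≤ _) (RR_le d k))
  have h10 := card_le_of_le (show A ⊓ d.Sg ⊓ d.RR k ≤ zpowers d.t from fun r hr => by
    refine (zt_conj a3.2).1 (h.zt_of_cn (h7 ▸ conj_mem_cj hr.2) fun s hs =>
      h.RR_c ex.cm' kl.symm hs ?_)
    simpa using mul_mem (zpowers_le.2 (h.fr.tm k) (a4 r hr.1).2) hr.2)
  rw [ex.card] at h9
  rw [h.card_zt] at h10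
  rw [h.fr.card] at h8
  have h11 := Nat.le_of_dvd two_pos h5
  nlinarith [Nat.mul_le_mul h9 h10]

theorem syl_T (hc : Hat d c mC) (ex : Ex d) (ct : CT d (Nr d.Sg)) :
    IsSyl 2 (hs d clo_F ⊔ d.Sg) ⊤ := by
  have hF := hs_B h clo_F LF_T
  refine isSyl_of_isSyl_normalizer ⟨le_inf le_top le_normalizer,
    .of_card (n := 13) (card_T h hc ex clo_F LF_T (by decide +kernel)), fun Q hQ h1 h2 =>
    le_antisymm (fun g hg => ?_) h1⟩
  have h3 := (h2 hg).2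
  have h4 := nr_t h ex le_sup_right (sup_le_sup_right hF _) h3
  obtain ⟨σ, hσ, h5⟩ := ct g ⟨h4, mem_normalizer_of_cj_le (eq_Sg h hc ex
    (cj_le_of_le le_sup_right h3) (by rw [card_cj, ex.card]) (by
      rintro _ ⟨a, ha, rfl⟩ _ ⟨b, hb, rfl⟩
      exact conj_fixm h4 (Sg_fixm ex ha hb)))⟩
  obtain ⟨x, k, M, -, a2, a3, a4, e⟩ := h.mem_B (mem_inf.2 ⟨h5, mul_mem (inv_mem (ex.le hσ)) h4⟩)
  obtain ⟨N, b1, a, rfl⟩ := dec96 a3 a4
  obtain ⟨f, hf⟩ := h.exAll hc (clo_F.2.2 N b1).1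
  have h6 : f ∈ hs d clo_F := ⟨N, b1, hf⟩
  have h7 : f⁻¹ * (σ⁻¹ * g) ∈ d.J ⊔ d.Q := by
    rw [e, h.uniq a2 (hf.mul (h.h1.pow a)) rfl, show f⁻¹ * (d.v x * (f * d.q1 ^ a.val)) =
      f⁻¹ * d.v x * f * d.q1 ^ a.val by group]
    exact mul_mem (mem_sup_left (conj_mem_of_mem_normalizer' (hF h6).1 (v_mem h.co x)))
      (mem_sup_right (pow_mem h.q1_Q _))
  have h8 : f⁻¹ * (σ⁻¹ * g) ∈ Q :=
    mul_mem (inv_mem (h1 (mem_sup_left h6))) (mul_mem (inv_mem (h1 (mem_sup_right hσ))) hg)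
  obtain ⟨m, e1⟩ := isPGroup_iff_forall.1 h.syl.isPGroup _ h7
  obtain ⟨n, e2⟩ := isPGroup_iff_forall.1 hQ _ h8
  have h9 := orderOf_eq_one_iff.1 (Nat.eq_one_of_dvd_coprimes (Nat.Coprime.pow n m (by decide))
    (orderOf_dvd_of_pow_eq_one e2) (orderOf_dvd_of_pow_eq_one e1))
  rw [show g = σ * f by rw [← mul_one (σ * f), ← h9]; group]
  exact mul_mem (mem_sup_right hσ) (mem_sup_left h6)

theorem odd_H (hc : Hat d c mC) (ex : Ex d) (ct : CT d (Nr d.Sg)) : Odd (d.B ⊔ d.Sg).index := by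
  have := (syl_T h hc ex ct).not_dvd_relIndex
  rw [relIndex_top_right] at this
  exact Nat.odd_iff.2 (Nat.two_dvd_ne_zero.1 fun e => this (e.trans
    (index_dvd_of_le (sup_le_sup_right (hs_B h clo_F LF_T) _))))

end H79.O8
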