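/- Real coordinates for the Gaussian lattice of the Rudvalis group, and packed arithmetic for
vectors of length 56. -/
import Cfsg.Prelude.Def_Spor_Ru
import Cfsg.Agent.H79.LRep

set_option autoImplicit false

namespace H79.Ru

open Cfsg Cfsg.Spor Finset H77 H72 H81

/-- the complex coordinate of a real coordinate -/
def ix (p : ℕ) : RuIdx :=
  (⟨p / 8 % 7, Nat.mod_lt _ (by norm_num)⟩, ⟨p / 2 % 4, Nat.mod_lt _ (by norm_num)⟩)

/-- real coordinates -/
def co (x : RuVec) (p : ℕ) : ℤ := if p % 2 = 0 then (x (ix p)).re else (x (ix p)).im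

/-- the vector with given real coordinates -/
def mkV (f : ℕ → ℤ) : RuVec := fun q => ⟨f (8 * q.1 + 2 * q.2), f (8 * q.1 + 2 * q.2 + 1)⟩

theorem co_mkV (f : ℕ → ℤ) {p : ℕ} (hp : p < 56) : co (mkV f) p = f p := by
  unfold co mkV ix
  split_ifs with h
  · exact congrArg f (by simp only; omega)
  · exact congrArg f (by simp only; omega)

theorem ix_eq (q : RuIdx) {r : ℕ} (hr : r < 2) : ix (8 * q.1 + 2 * q.2 + r) = q := by
  obtain ⟨⟨n, hn⟩, ⟨t, ht⟩⟩ := q
  simp only [ix, Prod.mk.injEq, Fin.mk.injEq]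
  omega

theorem co_re (x : RuVec) (q : RuIdx) : co x (8 * q.1 + 2 * q.2) = (x q).re := by
  have := ix_eq q (r := 0) (by norm_num)
  rw [co, if_pos (by omega), ← add_zero (8 * _ + _), this]

theorem co_im (x : RuVec) (q : RuIdx) : co x (8 * q.1 + 2 * q.2 + 1) = (x q).im := by
  rw [co, if_neg (by omega), ix_eq q (by norm_num)]

theorem ext_co {x y : RuVec} (h : ∀ p < 56, co x p = co y p) : x = y := by
  funext q
  have h1 := q.1.2
  have h2 := q.2.2
  ext
  · rw [← co_re, ← co_re, h _ (by omega)]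
  · rw [← co_im, ← co_im, h _ (by omega)]

theorem co_add (x y : RuVec) (p : ℕ) : co (x + y) p = co x p + co y p := by
  unfold co; split_ifs <;> simp

theorem co_neg (x : RuVec) (p : ℕ) : co (-x) p = -co x p := by
  unfold co; split_ifs <;> simp

theorem co_zero (p : ℕ) : co 0 p = 0 := by
  unfold co; split_ifs <;> simp

/-- a coordinate as a homomorphism -/
def coH (p : ℕ) : RuVec →+ ℤ := AddMonoidHom.mk' (fun x => co x p) fun x y => co_add x y p

theorem co_sub (x y : RuVec) (p : ℕ) : co (x - y) p = co x p - co y p := (coH p).map_sub x y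

theorem co_zsmul (a : ℤ) (x : RuVec) (p : ℕ) : co (a • x) p = a * co x p := (coH p).map_zsmul a x

theorem co_sum (s : Finset ℕ) (f : ℕ → RuVec) (p : ℕ) :
    co (∑ k ∈ s, f k) p = ∑ k ∈ s, co (f k) p := map_sum (coH p) f s

/-- the real inner product -/
def dot (x y : RuVec) : ℤ := ∑ p ∈ range 56, co x p * co y p

theorem dot_comm (x y : RuVec) : dot x y = dot y x := sum_congr rfl fun _ _ => mul_comm _ _

theorem dot_add (x y z : RuVec) : dot (x + y) z = dot x z + dot y z := by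
  simp only [dot, co_add, add_mul, sum_add_distrib]

/-- the inner product with a fixed vector -/
def dotH (z : RuVec) : RuVec →+ ℤ := AddMonoidHom.mk' (fun x => dot x z) fun x y => dot_add x y z

theorem dot_neg (x z : RuVec) : dot (-x) z = -dot x z := (dotH z).map_neg x

theorem dot_zero (z : RuVec) : dot 0 z = 0 := (dotH z).map_zero

theorem dot_zsmul (a : ℤ) (x z : RuVec) : dot (a • x) z = a * dot x z := (dotH z).map_zsmul a x

theorem dot_sum (s : Finset ℕ) (f : ℕ → RuVec) (z : RuVec) :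
    dot (∑ k ∈ s, f k) z = ∑ k ∈ s, dot (f k) z := map_sum (dotH z) f s

theorem dot_add_self (x y : RuVec) : dot (x + y) (x + y) = dot x x + dot y y + 2 * dot x y := by
  rw [dot_add, dot_comm x, dot_comm y, dot_add, dot_add, dot_comm y x]; ring

theorem ruNorm_eq (x : RuVec) : ruNorm x = dot x x := by
  have h : ∀ q : RuIdx, (x q).norm = ∑ r ∈ range 2,
      co x (8 * q.1 + 2 * q.2 + r) * co x (8 * q.1 + 2 * q.2 + r) := fun q => by
    rw [sum_range_succ, sum_range_one, add_zero, co_re, co_im, Zsqrtd.norm_def]; ring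
  rw [ruNorm, dot, Fintype.sum_prod_type]
  simp only [h, Fin.sum_univ_seven, Fin.sum_univ_four, sum_range_succ, sum_range_zero]
  simp only [Fin.isValue, Fin.coe_ofNat_eq_mod, Nat.reduceMod, Nat.reduceMul, Nat.reduceAdd]
  abel

theorem eq_zero_of_dot {x : RuVec} (h : dot x x = 0) : x = 0 :=
  ext_co fun p hp => by
    rw [co_zero]
    exact mul_self_eq_zero.1 ((sum_eq_zero_iff_of_nonneg fun q _ => mul_self_nonneg _).1 h p
      (mem_range.2 hp))

/-- the five maps under which the lattice is closed -/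
def mp : ℕ → RuVec → RuVec
  | 0 => fun v => gI • v
  | 1 => ruRj
  | 2 => ruRk
  | 3 => ruSign
  | _ => ruShift

/-- their coordinate permutations -/
def sg (t q : ℕ) : ℕ :=
  match t with
  | 0 => q / 2 * 2 + (1 - q % 2)
  | 1 => q / 8 * 8 + 0o54760123 / 8 ^ (q % 8) % 8
  | 2 => q / 8 * 8 + 0o32017645 / 8 ^ (q % 8) % 8
  | 3 => q
  | _ => (q + 8) % 56

/-- their signs -/
def ng (t q : ℕ) : Bool :=
  match t with
  | 0 => Nat.beq (q % 2) 0
  | 1 => tb 0b11000101 (q % 8)
  | 2 => tb 0b00011101 (q % 8)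
  | 3 => tb 0b1101001 (q / 8)
  | _ => false

theorem sg_lt : ∀ t < 5, ∀ q < 56, sg t q < 56 := by decide +kernel

theorem co_mp {t : ℕ} (ht : t < 5) (x : RuVec) {q : ℕ} (hq : q < 56) :
    co (mp t x) q = cond (ng t q) (-co x (sg t q)) (co x (sg t q)) := by
  have h1 : ∀ a : GaussianInt, (gI * a).re = -a.im := fun a => by simp [gI]
  have h2 : ∀ a : GaussianInt, (gI * a).im = a.re := fun a => by simp [gI]
  interval_cases t <;> interval_cases q <;>
    first | rfl | exact h1 _ | exact h2 _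

theorem mp_add {t : ℕ} (ht : t < 5) (x y : RuVec) : mp t (x + y) = mp t x + mp t y :=
  ext_co fun q hq => by
    rw [co_add, co_mp ht _ hq, co_mp ht _ hq, co_mp ht _ hq, co_add]
    cases ng t q
    · rfl
    · exact neg_add _ _

/-- the vector with coordinates `d p - 16` -/
def vf (d : ℕ → ℕ) : RuVec := mkV fun p => (d p : ℤ) - 16

theorem co_vf (d : ℕ → ℕ) {p : ℕ} (hp : p < 56) : co (vf d) p = (d p : ℤ) - 16 := co_mkV _ hp

theorem vf_congr {d e : ℕ → ℕ} (h : ∀ p < 56, d p = e p) : vf d = vf e :=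
  ext_co fun p hp => by rw [co_vf _ hp, co_vf _ hp, h p hp]

/-- the five maps on digits -/
def mF (t : ℕ) (d : ℕ → ℕ) (q : ℕ) : ℕ := cond (ng t q) (Nat.sub 32 (d (sg t q))) (d (sg t q))

theorem mF_le {t : ℕ} (ht : t < 5) {d : ℕ → ℕ} (hd : ∀ p < 56, d p ≤ 32) :
    ∀ p < 56, mF t d p ≤ 32 := fun p hp => by
  unfold mF
  cases ng t p
  · exact hd _ (sg_lt t ht p hp)
  · exact Nat.sub_le _ _

theorem mp_vf {t : ℕ} (ht : t < 5) {d : ℕ → ℕ} (hd : ∀ p < 56, d p ≤ 32) :
    mp t (vf d) = vf (mF t d) :=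
  ext_co fun q hq => by
    have h := sg_lt t ht q hq
    have := hd _ h
    rw [co_mp ht _ hq, co_vf _ h, co_vf _ hq, mF]
    cases ng t q
    · rfl
    · change _ = (((32 - d (sg t q) : ℕ) : ℤ) - 16)
      simp only [cond_true]; omega

/-- `∑ i < n, f i` -/
noncomputable def sumN (n : ℕ) (f : ℕ → ℕ) : ℕ :=
  Nat.rec (motive := fun _ => ℕ) 0 (fun i acc => Nat.add acc (f i)) n

theorem sumN_eq (n : ℕ) (f : ℕ → ℕ) : sumN n f = ∑ i ∈ range n, f i := by
  induction n with
  | zero => rfl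
  | succ n ih => rw [Finset.sum_range_succ, ← ih]; rfl

/-- all digits one -/
def O56 : ℕ := nat_lit 0x00010001000100010001000100010001000100010001000100010001000100010001000100010001000100010001000100010001000100010001000100010001000100010001000100010001000100010001000100010001000100010001000100010001000100010001000100010001

theorem O56_eq : O56 = od (fun _ => 1) 56 := by decide +kernel

theorem mul_O56 (a : ℕ) : a * O56 = od (fun _ => a) 56 := by
  rw [O56_eq, mul_od]; simp only [mul_one]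

/-- valid codes -/
noncomputable def okc (c : ℕ) : Bool :=
  band (Nat.blt c (Nat.shiftLeft 1 896)) (allN (fun k => Nat.ble (dk c k) 24) 56)

theorem okc_od {c : ℕ} (h : okc c = true) : od (dg c) 56 = c := by
  have := Nat.blt_eq.mp (band_iff.1 h).1
  exact od_dg (lt_of_lt_of_eq this (by decide +kernel))

theorem okc_le {c : ℕ} (h : okc c = true) : ∀ k < 56, dg c k ≤ 24 := fun k hk => by
  rw [← dk_eq]; exact Nat.le_of_ble_eq_true (of_allN (band_iff.1 h).2 k hk)

theorem okc_le' {c : ℕ} (h : okc c = true) : ∀ k < 56, dk c k ≤ 32 := fun k hk => by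
  rw [dk_eq]; exact (okc_le h k hk).trans (by norm_num)

theorem sum_od (s : Finset ℕ) (a : ℕ → ℕ) (f : ℕ → ℕ → ℕ) (n : ℕ) :
    ∑ q ∈ s, a q * od (f q) n = od (fun k => ∑ q ∈ s, a q * f q k) n := by
  simp only [od, mul_sum, sum_mul, mul_assoc]
  exact sum_comm

/-- a linear combination of codes -/
noncomputable def lc (d C : ℕ → ℕ) : ℕ := sumN 56 fun q => Nat.mul (d q) (C q)

theorem lc_od (d : ℕ → ℕ) {C : ℕ → ℕ} (hC : ∀ q < 56, okc (C q) = true) :
    lc d C = od (fun k => ∑ q ∈ range 56, d q * dg (C q) k) 56 := by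
  rw [lc, sumN_eq, ← sum_od]
  exact sum_congr rfl fun q hq => by rw [okc_od (hC q (mem_range.1 hq))]; rfl

theorem lc_le {d C : ℕ → ℕ} (hd : ∀ q < 56, d q ≤ 32) (hC : ∀ q < 56, okc (C q) = true) {k : ℕ}
    (hk : k < 56) : ∑ q ∈ range 56, d q * dg (C q) k ≤ 43008 :=
  (sum_le_card_nsmul _ _ (32 * 24) fun q hq => Nat.mul_le_mul (hd q (mem_range.1 hq))
    (okc_le (hC q (mem_range.1 hq)) k hk)).trans (by simp)

theorem dg_lc {d C : ℕ → ℕ} (hd : ∀ q < 56, d q ≤ 32) (hC : ∀ q < 56, okc (C q) = true) {k : ℕ}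
    (hk : k < 56) : dg (lc d C) k = ∑ q ∈ range 56, d q * dg (C q) k := by
  rw [lc_od d hC, dg_od_lt (fun i hi => (lc_le hd hC hi).trans_lt (by norm_num)) hk]

theorem dg_mask (s : ℕ) {t k : ℕ} (ht : t ≤ 4) (hk : k < 56) :
    dg (Nat.land s (Nat.mul (2 ^ t - 1) O56)) k = dg s k % 2 ^ t := by
  have : 2 ^ t ≤ 2 ^ 4 := Nat.pow_le_pow_right (by norm_num) ht
  rw [dg_land, show Nat.mul (2 ^ t - 1) O56 = (2 ^ t - 1) * O56 from rfl, mul_O56,
    dg_od_lt (fun _ _ => by omega) hk, Nat.and_two_pow_sub_one_eq_mod]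

theorem sum_off (d e : ℕ → ℕ) : ∑ q ∈ range 56, ((d q : ℤ) - 16) * ((e q : ℤ) - 16) =
    (∑ q ∈ range 56, d q * e q : ℕ) + 14336 -
      16 * ((∑ q ∈ range 56, d q : ℕ) + (∑ q ∈ range 56, e q : ℕ)) := by
  have : (14336 : ℤ) = ∑ _q ∈ range 56, (256 : ℤ) := by simp
  rw [this]
  push_cast
  rw [← sum_add_distrib, ← sum_add_distrib, mul_sum, ← sum_sub_distrib]
  exact sum_congr rfl fun _ _ => by ring

/-- all the products with the columns of `C` are divisible by `2 ^ t` -/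
noncomputable def memb (t : ℕ) (C d : ℕ → ℕ) : Bool :=
  Nat.beq (Nat.land (lc d C) (Nat.mul (2 ^ t - 1) O56)) 0

theorem of_memb {t : ℕ} {C d : ℕ → ℕ} (ht : t ≤ 4) (hd : ∀ q < 56, d q ≤ 32)
    (hC : ∀ q < 56, okc (C q) = true) (h : memb t C d = true) {k : ℕ} (hk : k < 56) :
    (2 : ℤ) ^ t ∣ ∑ q ∈ range 56, ((d q : ℤ) - 16) * ((dg (C q) k : ℤ) - 16) := by
  have h1 := dg_mask (lc d C) ht hk
  rw [Nat.eq_of_beq_eq_true h, dg_lc hd hC hk] at h1
  have h2 : (2 : ℤ) ^ t ∣ 2 ^ 4 := pow_dvd_pow _ ht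
  rw [sum_off]
  refine dvd_sub (dvd_add ?_ (h2.trans (by norm_num))) (h2.trans (Dvd.intro _ rfl))
  exact_mod_cast Nat.dvd_of_mod_eq_zero (h1.symm.trans (by simp [dg]))

/-- the product of two matrices is `c` times the identity -/
noncomputable def chkOrth (D : ℕ → ℕ → ℕ) (E : ℕ → ℕ) (c : ℕ) : Bool :=
  frc (lc (fun _ => 1) E) fun S => allN (fun p =>
    Nat.beq (Nat.add (lc (fun k => D k p) E) (Nat.mul 14336 O56))
      (Nat.add (Nat.mul 16 (Nat.add (Nat.mul (sumN 56 fun k => D k p) O56) S))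
        (Nat.shiftLeft c (Nat.mul 16 p)))) 56

theorem of_chkOrth {D : ℕ → ℕ → ℕ} {E : ℕ → ℕ} {c : ℕ} (hc : c ≤ 16)
    (hD : ∀ k < 56, ∀ p < 56, D k p ≤ 32) (hE : ∀ k < 56, okc (E k) = true)
    (h : chkOrth D E c = true) {p q : ℕ} (hp : p < 56) (hq : q < 56) :
    ∑ k ∈ range 56, ((D k p : ℤ) - 16) * ((dg (E k) q : ℤ) - 16) = if p = q then (c : ℤ) else 0 := by
  rw [chkOrth, frc_eq] at h
  have h1 := Nat.eq_of_beq_eq_true (of_allN h p hp)
  have e1 : Nat.shiftLeft c (Nat.mul 16 p) = od (fun k => if p = k then c else 0) 56 := by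
    rw [od, sum_eq_single_of_mem p (mem_range.2 hp) fun b _ hb => by rw [if_neg hb.symm, zero_mul],
      if_pos rfl, show (65536 : ℕ) = 2 ^ 16 by norm_num, ← pow_mul]
    exact Nat.shiftLeft_eq c (16 * p)
  have hs : ∑ k ∈ range 56, D k p ≤ 1792 :=
    (sum_le_card_nsmul _ _ 32 fun k hk => hD k (mem_range.1 hk) p hp).trans (by simp)
  have hs' : ∀ i < 56, ∑ k ∈ range 56, 1 * dg (E k) i ≤ 1344 := fun i hi =>
    (sum_le_card_nsmul _ _ 24 fun k hk => by
      rw [one_mul]; exact okc_le (hE k (mem_range.1 hk)) i hi).trans (by simp)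
  change lc _ E + 14336 * O56 = 16 * (_ * O56 + lc _ E) + _ at h1
  rw [e1, lc_od _ hE, lc_od _ hE, mul_O56, mul_O56, od_add, od_add, mul_od, od_add, sumN_eq] at h1
  have h2 := congrArg (dg · q) h1
  rw [dg_od_lt (fun i hi => by have := lc_le (fun k hk => hD k hk p hp) hE hi; omega) hq,
    dg_od_lt (fun i hi => by have := hs' i hi; split_ifs <;> omega) hq] at h2
  simp only [one_mul] at h2
  rw [sum_off]
  split_ifs at h2 ⊢ <;> omega

end H79.Ru
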