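/- Bit-sliced arithmetic: linear functionals of many vectors at once. -/
import Cfsg.Agent.H79.RuBase

set_option autoImplicit false

namespace H79.Ru

open Cfsg Cfsg.Spor Finset H77 H72 H81

/-- bit-sliced addition with carry; fails on overflow -/
noncomputable def addA (A : List ℕ) : List ℕ → ℕ → (List ℕ → Bool) → Bool :=
  List.rec (motive := fun _ => List ℕ → ℕ → (List ℕ → Bool) → Bool)
    (fun B c k => List.rec (motive := fun _ => Bool) (band (Nat.beq c 0) (k []))
      (fun _ _ _ => false) B)
    (fun a _ ih B c k => List.rec (motive := fun _ => Bool)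
      (frc (Nat.xor a c) fun s => frc (Nat.land a c) fun c' => ih [] c' fun r => k (s :: r))
      (fun b B' _ => frc (Nat.xor a b) fun x => frc (Nat.xor x c) fun s =>
        frc (Nat.lor (Nat.land a b) (Nat.land x c)) fun c' => ih B' c' fun r => k (s :: r)) B) A

theorem addA_spec (A : List ℕ) : ∀ (B : List ℕ) (c : ℕ) (k : List ℕ → Bool),
    addA A B c k = true → ∃ R, k R = true ∧
      ∀ i, col R i = col A i + col B i + (c.testBit i).toNat := by
  induction A with
  | nil =>
    intro B c k h
    cases B with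
    | nil =>
      obtain ⟨h1, h2⟩ := band_iff.1 h
      exact ⟨[], h2, fun i => by rw [Nat.eq_of_beq_eq_true h1]; simp [col]⟩
    | cons b B => exact absurd h Bool.false_ne_true
  | cons a A ih =>
    intro B c k h
    cases B with
    | nil =>
      obtain ⟨R, h1, h2⟩ := ih [] (a &&& c) (fun r => k ((a ^^^ c) :: r)) h
      refine ⟨_, h1, fun i => ?_⟩
      simp only [col, Nat.bit_val, h2, Nat.testBit_xor, Nat.testBit_and]
      cases a.testBit i <;> cases c.testBit i <;> simp
      omega
    | cons b B =>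
      obtain ⟨R, h1, h2⟩ := ih B ((a &&& b) ||| ((a ^^^ b) &&& c))
        (fun r => k (((a ^^^ b) ^^^ c) :: r)) h
      refine ⟨_, h1, fun i => ?_⟩
      simp only [col, Nat.bit_val, h2, Nat.testBit_xor, Nat.testBit_and, Nat.testBit_or]
      cases a.testBit i <;> cases b.testBit i <;> cases c.testBit i <;> simp <;> omega

/-- add `Q` several times -/
noncomputable def repA (n : ℕ) (Q : List ℕ) : List ℕ → (List ℕ → Bool) → Bool :=
  Nat.rec (motive := fun _ => List ℕ → (List ℕ → Bool) → Bool) (fun A k => k A)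
    (fun _ ih A k => addA A Q 0 fun R => ih R k) n

theorem repA_spec (Q : List ℕ) (k : List ℕ → Bool) (n : ℕ) : ∀ A, repA n Q A k = true →
    ∃ R, k R = true ∧ ∀ i, col R i = col A i + n * col Q i := by
  induction n with
  | zero => intro A h; exact ⟨A, h, fun i => by simp⟩
  | succ n ih =>
    intro A h
    obtain ⟨R, h1, h2⟩ := addA_spec A Q 0 _ h
    obtain ⟨R', h3, h4⟩ := ih R h1
    exact ⟨R', h3, fun i => by rw [h4, h2]; simp; ring⟩

/-- a linear combination with coefficients `d p - 16` -/
noncomputable def linL (QL : List (List ℕ × List ℕ)) (d : ℕ → ℕ) :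
    ℕ → List ℕ → (List ℕ → Bool) → Bool :=
  List.rec (motive := fun _ => ℕ → List ℕ → (List ℕ → Bool) → Bool) (fun _ A k => k A)
    (fun Q _ ih p A k => frc (d p) fun c => repA (Nat.sub c 16) Q.1 A fun R =>
      repA (Nat.sub 16 c) Q.2 R fun R' => frc (Nat.succ p) fun p' => ih p' R' k) QL

theorem linL_spec (d : ℕ → ℕ) (k : List ℕ → Bool) (QL : List (List ℕ × List ℕ)) :
    ∀ p A, linL QL d p A k = true → ∃ R, k R = true ∧ ∀ i, col R i = col A i +
      ∑ t ∈ range QL.length, ((d (p + t) - 16) * col (QL.getD t ([], [])).1 i +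
        (16 - d (p + t)) * col (QL.getD t ([], [])).2 i) := by
  induction QL with
  | nil => intro p A h; exact ⟨A, h, fun i => by simp⟩
  | cons Q QL ih =>
    intro p A h
    obtain ⟨R, h1, h2⟩ := repA_spec Q.1 _ (d p - 16) A h
    obtain ⟨R', h3, h4⟩ := repA_spec Q.2 _ (16 - d p) R h1
    obtain ⟨S, h5, h6⟩ := ih (p + 1) R' h3
    refine ⟨S, h5, fun i => ?_⟩
    rw [h6, h4, h2, List.length_cons, sum_range_succ']
    simp only [List.getD_cons_succ, List.getD_cons_zero, add_zero, add_assoc, add_comm 1]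
    ring

/-- evaluate the entries of a list -/
noncomputable def frcL (l : List ℕ) : (List ℕ → Bool) → Bool :=
  List.rec (motive := fun _ => (List ℕ → Bool) → Bool) (fun k => k [])
    (fun a _ ih k => frc a fun a' => ih fun r => k (a' :: r)) l

theorem frcL_eq (l : List ℕ) : ∀ k, frcL l k = k l := by
  induction l with
  | nil => intro k; rfl
  | cons a l ih => intro k; exact ih _

/-- planes with their complements -/
def cpl (o : ℕ) (Q : List ℕ) : List ℕ × List ℕ := (Q, Q.map (Nat.xor o))

/-- evaluate planes and their complements -/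
noncomputable def prep (o : ℕ) (Qs : List (List ℕ)) : (List (List ℕ × List ℕ) → Bool) → Bool :=
  List.rec (motive := fun _ => (List (List ℕ × List ℕ) → Bool) → Bool) (fun k => k [])
    (fun Q _ ih k => frcL Q fun Q' => frcL (Q'.map (Nat.xor o)) fun C =>
      ih fun r => k ((Q', C) :: r)) Qs

theorem prep_eq (o : ℕ) (Qs : List (List ℕ)) : ∀ k, prep o Qs k = k (Qs.map (cpl o)) := by
  induction Qs with
  | nil => intro k; rfl
  | cons Q Qs ih =>
    intro k
    change frcL Q _ = _
    rw [frcL_eq, frcL_eq]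
    exact ih _

theorem col_cpl {o i : ℕ} (h : o.testBit i = true) (Q : List ℕ) :
    col (Q.map (Nat.xor o)) i + col Q i + 1 = 2 ^ Q.length := by
  induction Q with
  | nil => rfl
  | cons a Q ih =>
    have : (Nat.xor o a).testBit i = !a.testBit i := by
      change (o ^^^ a).testBit i = _
      rw [Nat.testBit_xor, h]; simp
    simp only [List.map_cons, col, Nat.bit_val, this, List.length_cons, pow_succ]
    cases a.testBit i <;> simp <;> omega

/-- the digits of the vector number `i` -/
noncomputable def dv (Qs : List (List ℕ)) (i p : ℕ) : ℕ := col (nthD Qs [] p) i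

/-- the value of the functional `d` on the digits `e` -/
noncomputable def phi (d e : ℕ → ℕ) : ℕ := sumN 56 fun p =>
  Nat.add (Nat.mul (Nat.sub (d p) 16) (e p)) (Nat.mul (Nat.sub 16 (d p)) (Nat.sub 31 (e p)))

theorem phi_congr (d : ℕ → ℕ) {e e' : ℕ → ℕ} (h : ∀ p < 56, e p = e' p) : phi d e = phi d e' := by
  rw [phi, phi, sumN_eq, sumN_eq]
  exact sum_congr rfl fun p hp => by rw [h p (mem_range.1 hp)]

theorem phi_eq (d : ℕ → ℕ) {e : ℕ → ℕ} (he : ∀ p < 56, e p ≤ 31) :
    (phi d e : ℤ) = dot (vf d) (vf e) + phi d (fun _ => 16) := by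
  rw [phi, phi, sumN_eq, sumN_eq, dot]
  push_cast
  rw [← sum_add_distrib]
  refine sum_congr rfl fun p hp => ?_
  have hp := mem_range.1 hp
  have := he p hp
  rw [co_vf _ hp, co_vf _ hp]
  change (((d p - 16) * e p + (16 - d p) * (31 - e p) : ℕ) : ℤ) =
    _ + (((d p - 16) * 16 + (16 - d p) * (31 - 16) : ℕ) : ℤ)
  rcases le_total (d p) 16 with h | h
  · rw [Nat.sub_eq_zero_of_le h]; push_cast [h, this]; ring
  · rw [Nat.sub_eq_zero_of_le h]; push_cast [h, this]; ring

/-- well-formed planes -/
noncomputable def okQ (Qs : List (List ℕ)) : Bool :=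
  band (Nat.beq Qs.length 56) (allM (fun Q => Nat.beq Q.length 5) Qs)

theorem okQ_len {Qs : List (List ℕ)} (h : okQ Qs = true) {p : ℕ} (hp : p < 56) :
    (nthD Qs [] p).length = 5 := by
  obtain ⟨h1, h2⟩ := band_iff.1 h
  have h1 := Nat.eq_of_beq_eq_true h1
  rw [nthD_eq, List.getD_eq_getElem _ _ (by omega)]
  exact Nat.eq_of_beq_eq_true (of_allM h2 _ (List.getElem_mem _))

theorem dv_le {Qs : List (List ℕ)} (h : okQ Qs = true) (i : ℕ) : ∀ p < 56, dv Qs i p ≤ 31 :=
  fun p hp => by
    have := col_lt (nthD Qs [] p) i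
    rw [okQ_len h hp] at this
    unfold dv; omega

theorem lin_spec {Qs : List (List ℕ)} (hQ : okQ Qs = true) {o : ℕ} {d : ℕ → ℕ} {A : List ℕ}
    {k : List ℕ → Bool} (h : linL (Qs.map (cpl o)) d 0 A k = true) :
    ∃ R, k R = true ∧ ∀ i, o.testBit i = true → col R i = col A i + phi d (dv Qs i) := by
  obtain ⟨R, h1, h2⟩ := linL_spec d k _ 0 A h
  have hl := Nat.eq_of_beq_eq_true (band_iff.1 hQ).1
  refine ⟨R, h1, fun i hi => ?_⟩
  rw [h2, phi, sumN_eq, List.length_map, hl]
  refine congrArg (col A i + ·) (sum_congr rfl fun p hp => ?_)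
  have hp := mem_range.1 hp
  have e := col_cpl hi (nthD Qs [] p)
  rw [okQ_len hQ hp] at e
  rw [show (([], []) : List ℕ × List ℕ) = cpl o [] from rfl, List.getD_map, zero_add, ← nthD_eq]
  simp only [cpl]
  rw [show col ((nthD Qs [] p).map (Nat.xor o)) i = 31 - dv Qs i p by unfold dv; omega]
  rfl

/-- the positions of `m` where the number is `t` -/
noncomputable def eqM (R : List ℕ) : ℕ → ℕ → (ℕ → Bool) → Bool :=
  List.rec (motive := fun _ => ℕ → ℕ → (ℕ → Bool) → Bool)
    (fun t m k => Bool.rec (motive := fun _ => Bool) (k 0) (k m) (Nat.beq t 0))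
    (fun a _ ih t m k => frc (Nat.land m a) fun x => frc (Nat.shiftRight t 1) fun t' =>
      Bool.rec (motive := fun _ => Bool) (frc (Nat.xor m x) fun y => ih t' y k) (ih t' x k)
        (tb t 0)) R

theorem eqM_spec (k : ℕ → Bool) (R : List ℕ) : ∀ t m, ∃ m', eqM R t m k = k m' ∧
    ∀ i, (m'.testBit i = true ↔ m.testBit i = true ∧ col R i = t) := by
  induction R with
  | nil =>
    intro t m
    cases t with
    | zero => exact ⟨m, rfl, fun i => by simp [col]⟩
    | succ t => exact ⟨0, rfl, fun i => by simp [col]⟩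
  | cons a R ih =>
    intro t m
    have e : eqM (a :: R) t m k = Bool.rec (motive := fun _ => Bool)
      (eqM R (t >>> 1) (m ^^^ (m &&& a)) k) (eqM R (t >>> 1) (m &&& a) k) (tb t 0) := rfl
    rw [e, tb_eq, Nat.testBit_zero, Nat.shiftRight_one]
    rcases Nat.mod_two_eq_zero_or_one t with h | h
    · obtain ⟨m', h1, h2⟩ := ih (t / 2) (m ^^^ (m &&& a))
      refine ⟨m', by simpa [h] using h1, fun i => ?_⟩
      rw [h2, col, Nat.bit_val, Nat.testBit_xor, Nat.testBit_and]
      cases a.testBit i <;> cases m.testBit i <;> simp <;> omega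
    · obtain ⟨m', h1, h2⟩ := ih (t / 2) (m &&& a)
      refine ⟨m', by simpa [h] using h1, fun i => ?_⟩
      rw [h2, col, Nat.bit_val, Nat.testBit_and]
      cases a.testBit i <;> cases m.testBit i <;> simp <;> omega

end H79.Ru
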