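/- The lattice of the Rudvalis group: a basis, the dual basis, integrality. -/
import Cfsg.Agent.H79.RuBit
import Cfsg.Agent.H79.RuD

set_option autoImplicit false
set_option maxRecDepth 100000

namespace H79.Ru

open Cfsg Cfsg.Spor Finset H77 H72 H81

/-- all entries of the list (and the default `0`) are valid codes -/
theorem okc_nth {l : List ℕ} (h : allM okc l = true) (q : ℕ) : okc (nthD l 0 q) = true := by
  rw [nthD_eq]
  rcases Nat.lt_or_ge q l.length with c | c
  · rw [List.getD_eq_getElem _ _ c]; exact of_allM h _ (List.getElem_mem c)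
  · rw [List.getD_eq_default _ _ c]; decide +kernel

theorem okT : allM okc Tc = true := by decide +kernel
theorem okWr : allM okc Wr = true := by decide +kernel
theorem okWc : allM okc Wc = true := by decide +kernel
theorem okV : allM okc Vc = true := by decide +kernel
theorem okG : allM okc Gc = true := by decide +kernel

/-- digits of the basis vectors -/
noncomputable def wd (k : ℕ) : ℕ → ℕ := dk (nthD Wr 0 k)
/-- digits of the dual basis vectors -/
noncomputable def vd (k q : ℕ) : ℕ := dk (nthD Vc 0 q) k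

theorem wd_le (k : ℕ) : ∀ p < 56, wd k p ≤ 32 := okc_le' (okc_nth okWr k)
theorem vd_le {k : ℕ} (hk : k < 56) (q : ℕ) : vd k q ≤ 32 := okc_le' (okc_nth okV q) k hk

theorem table_eq : ruTable = Tc.map fun c => vf (dk c) := by decide +kernel

/-- a word in the five maps -/
def wF (w : List ℕ) (d : ℕ → ℕ) : ℕ → ℕ := w.foldr mF d

theorem wF_mem {K : AddSubgroup RuVec} (hK : K ∈ ruClosed) {d : ℕ → ℕ} (hd : ∀ p < 56, d p ≤ 32)
    (h : vf d ∈ K) (w : List ℕ) (hw : ∀ t ∈ w, t < 5) :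
    (∀ p < 56, wF w d p ≤ 32) ∧ vf (wF w d) ∈ K := by
  induction w with
  | nil => exact ⟨hd, h⟩
  | cons t w ih =>
    obtain ⟨h1, h2⟩ := ih fun s hs => hw s (List.mem_cons_of_mem _ hs)
    have ht := hw t List.mem_cons_self
    refine ⟨mF_le ht h1, ?_⟩
    change vf (mF t (wF w d)) ∈ K
    rw [← mp_vf ht h1]
    obtain ⟨a0, a1, a2, a3, a4⟩ := hK.2 _ h2
    interval_cases t
    exacts [a0, a1, a2, a3, a4]

theorem chkW : allN (fun k => (fun u : ℕ × List ℕ => band (Nat.blt u.1 20)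
    (band (allM (fun t => Nat.blt t 5) u.2)
      (allN (fun p => Nat.beq (wF u.2 (dk (nthD Tc 0 u.1)) p) (wd k p)) 56)))
    (nthD Ww (0, []) k)) 56 = true := by decide +kernel

theorem w_mem {k : ℕ} (hk : k < 56) : vf (wd k) ∈ ruLattice := by
  rw [ruLattice, AddSubgroup.mem_sInf]
  intro K hK
  obtain ⟨h1, h2⟩ := band_iff.1 (of_allN chkW k hk)
  obtain ⟨h2, h3⟩ := band_iff.1 h2
  rw [← vf_congr fun p hp => Nat.eq_of_beq_eq_true (of_allN h3 p hp)]
  refine (wF_mem hK (okc_le' (okc_nth okT _)) (hK.1 _ ?_) _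
    fun t ht => Nat.blt_eq.mp (of_allM h2 t ht)).2
  rw [table_eq, nthD_eq, List.getD_eq_getElem _ _ (Nat.blt_eq.mp h1)]
  exact List.mem_map_of_mem (List.getElem_mem _)

theorem chkFrame : chkOrth vd (nthD Wr 0) 4 = true := by decide +kernel

theorem frame (x : RuVec) :
    (4 : ℤ) • x = ∑ k ∈ range 56, dot x (vf (vd k)) • vf (wd k) :=
  ext_co fun q hq => by
    rw [co_zsmul, co_sum]
    simp only [co_zsmul, dot, sum_mul]
    rw [sum_comm, mul_comm, ← sum_ite_eq_of_mem' (range 56) q (fun p => co x p * 4) (mem_range.2 hq)]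
    refine sum_congr rfl fun p hp => ?_
    have hp := mem_range.1 hp
    have := of_chkOrth (by norm_num) (fun k hk p _ => vd_le hk p) (fun k _ => okc_nth okWr k)
      chkFrame hp hq
    simp only [mul_assoc, ← mul_sum, co_vf _ hp, co_vf _ hq, wd, dk_eq, this]
    split_ifs <;> simp

theorem smul_cancel {a : ℤ} (ha : a ≠ 0) {x y : RuVec} (h : a • x = a • y) : x = y :=
  ext_co fun p _ => mul_left_cancel₀ ha (by rw [← co_zsmul, h, co_zsmul])

/-- a vector whose products with the dual basis are divisible by `4 * a` -/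
theorem exists_span {K : AddSubgroup RuVec} (hK : ∀ k < 56, vf (wd k) ∈ K) {a : ℤ} {x : RuVec}
    (h : ∀ k < 56, 4 * a ∣ dot x (vf (vd k))) : ∃ y ∈ K, x = a • y := by
  choose! c hc using h
  refine ⟨∑ k ∈ range 56, c k • vf (wd k),
    K.sum_mem fun k hk => K.zsmul_mem (hK k (mem_range.1 hk)) _, smul_cancel (a := 4) (by norm_num) ?_⟩
  rw [frame, smul_smul, smul_sum]
  exact sum_congr rfl fun k hk => by rw [hc k (mem_range.1 hk), smul_smul]

/-- the lattice by its dual basis -/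
def dualL : AddSubgroup RuVec where
  carrier := {x | ∀ k < 56, 4 ∣ dot x (vf (vd k))}
  zero_mem' k _ := by rw [dot_zero]; exact dvd_zero _
  add_mem' hx hy k hk := by rw [dot_add]; exact dvd_add (hx k hk) (hy k hk)
  neg_mem' hx k hk := by rw [dot_neg]; exact (hx k hk).neg_right

theorem dualL_le {K : AddSubgroup RuVec} (hK : ∀ k < 56, vf (wd k) ∈ K) : dualL ≤ K := fun x hx => by
  obtain ⟨y, hy, e⟩ := exists_span hK (a := 1) (x := x) (by rw [mul_one]; exact hx)
  rwa [e, one_smul]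

theorem dot_vf (d e : ℕ → ℕ) :
    dot (vf d) (vf e) = ∑ q ∈ range 56, ((d q : ℤ) - 16) * ((e q : ℤ) - 16) :=
  sum_congr rfl fun q hq => by rw [co_vf _ (mem_range.1 hq), co_vf _ (mem_range.1 hq)]

theorem mem_dualL {d : ℕ → ℕ} (hd : ∀ q < 56, d q ≤ 32) (h : memb 2 (nthD Vc 0) d = true) :
    vf d ∈ dualL := fun k hk => by
  have := of_memb (by norm_num) hd (fun q _ => okc_nth okV q) h hk
  rw [dot_vf]
  simpa only [vd, dk_eq, show (2 : ℤ) ^ 2 = 4 by norm_num] using this

theorem chkT : allM (fun c => memb 2 (nthD Vc 0) (dk c)) Tc = true := by decide +kernel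

theorem chkCl : allN (fun t => allN (fun k => memb 2 (nthD Vc 0) (mF t (wd k))) 56) 5 = true := by
  decide +kernel

theorem dualL_closed : dualL ∈ ruClosed := by
  have h : ∀ t < 5, ∀ v ∈ dualL, mp t v ∈ dualL := fun t ht =>
    dualL_le (K := dualL.comap (AddMonoidHom.mk' (mp t) (mp_add ht))) fun k hk => by
      change mp t _ ∈ dualL
      rw [mp_vf ht (wd_le k)]
      exact mem_dualL (mF_le ht (wd_le k)) (of_allN (of_allN chkCl t ht) k hk)
  refine ⟨fun v hv => ?_, fun v hv => ⟨h 0 (by norm_num) v hv, h 1 (by norm_num) v hv,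
    h 2 (by norm_num) v hv, h 3 (by norm_num) v hv, h 4 (by norm_num) v hv⟩⟩
  rw [table_eq] at hv
  obtain ⟨c, hc, rfl⟩ := List.mem_map.1 hv
  exact mem_dualL (okc_le' (of_allM okT c hc)) (of_allM chkT c hc)

theorem lat_eq : ruLattice = dualL :=
  le_antisymm (sInf_le dualL_closed) (dualL_le fun _ => w_mem)

theorem lat_le {K : AddSubgroup RuVec} (hK : ∀ k < 56, vf (wd k) ∈ K) : ruLattice ≤ K :=
  lat_eq ▸ dualL_le hK

theorem mem_lat {d : ℕ → ℕ} (hd : ∀ q < 56, d q ≤ 32) (h : memb 2 (nthD Vc 0) d = true) :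
    vf d ∈ ruLattice := lat_eq ▸ mem_dualL hd h

theorem mp_mem {t : ℕ} (ht : t < 5) {x : RuVec} (hx : x ∈ ruLattice) : mp t x ∈ ruLattice := by
  rw [lat_eq] at hx ⊢
  obtain ⟨a0, a1, a2, a3, a4⟩ := dualL_closed.2 _ hx
  interval_cases t
  exacts [a0, a1, a2, a3, a4]

theorem chkWc : allN (fun k => allN (fun q => Nat.beq (dk (nthD Wc 0 q) k) (wd k q)) 56) 56 = true := by
  decide +kernel

theorem Wc_eq {k q : ℕ} (hk : k < 56) (hq : q < 56) : dg (nthD Wc 0 q) k = wd k q := by
  rw [← dk_eq]; exact Nat.eq_of_beq_eq_true (of_allN (of_allN chkWc k hk) q hq)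

theorem of_membW {t : ℕ} {d : ℕ → ℕ} (ht : t ≤ 4) (hd : ∀ q < 56, d q ≤ 32)
    (h : memb t (nthD Wc 0) d = true) {k : ℕ} (hk : k < 56) :
    (2 : ℤ) ^ t ∣ dot (vf d) (vf (wd k)) := by
  have := of_memb ht hd (fun q _ => okc_nth okWc q) h hk
  rw [dot_vf]
  rwa [sum_congr rfl fun q hq => by rw [Wc_eq hk (mem_range.1 hq)]] at this

/-- vectors whose product with `y` is divisible by `a` -/
def dvdS (a : ℤ) (y : RuVec) : AddSubgroup RuVec := (AddSubgroup.zmultiples a).comap (dotH y)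

theorem mem_dvdS {a : ℤ} {x y : RuVec} : x ∈ dvdS a y ↔ a ∣ dot x y := Int.mem_zmultiples_iff

theorem chkSO : allN (fun k => memb 2 (nthD Wc 0) (wd k)) 56 = true := by decide +kernel

theorem dvd_dot {x y : RuVec} (hx : x ∈ ruLattice) (hy : y ∈ ruLattice) : 4 ∣ dot x y :=
  mem_dvdS.1 (lat_le (fun k hk => mem_dvdS.2 (by
    rw [dot_comm]
    exact mem_dvdS.1 (lat_le (fun l hl => mem_dvdS.2
      (of_membW (t := 2) (by norm_num) (wd_le l) (of_allN chkSO l hl) hk)) hy))) hx)

/-- the product of two vectors given by digits -/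
theorem dot_of_phi {d e : ℕ → ℕ} (he : ∀ p < 56, e p ≤ 31) {n : ℕ}
    (h : Nat.beq (phi d e) (Nat.add n (phi d fun _ => 16)) = true) : dot (vf d) (vf e) = n := by
  have h1 := phi_eq d he
  rw [Nat.eq_of_beq_eq_true h] at h1
  change ((n + _ : ℕ) : ℤ) = _ at h1
  push_cast at h1
  omega

theorem chkWn : allN (fun k => Nat.beq (phi (wd k) (wd k)) (Nat.add 16 (phi (wd k) fun _ => 16))) 56
    = true := by decide +kernel

theorem norm_w {k : ℕ} (hk : k < 56) : dot (vf (wd k)) (vf (wd k)) = 16 :=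
  dot_of_phi (fun p hp => by
    rw [wd, dk_eq]; exact (okc_le (okc_nth okWr k) p hp).trans (by norm_num)) (of_allN chkWn k hk)

theorem dvd_norm {x : RuVec} (hx : x ∈ ruLattice) : 8 ∣ dot x x := by
  let K : AddSubgroup RuVec :=
    { carrier := {x | x ∈ ruLattice ∧ 8 ∣ dot x x}
      zero_mem' := ⟨zero_mem _, by rw [dot_zero]; exact dvd_zero _⟩
      add_mem' := fun {x y} hx hy => ⟨add_mem hx.1 hy.1, by
        have := dvd_dot hx.1 hy.1
        have := hx.2
        have := hy.2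
        rw [dot_add_self]; omega⟩
      neg_mem' := fun {x} hx => ⟨neg_mem hx.1, by
        rw [dot_neg, dot_comm, dot_neg, neg_neg]; exact hx.2⟩ }
  exact (lat_le (K := K) (fun k hk => ⟨w_mem hk, by rw [norm_w hk]; norm_num⟩) hx).2

end H79.Ru
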