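/- The short vectors of the lattice of the Rudvalis group. -/
import Cfsg.Agent.H79.RuLat

set_option autoImplicit false
set_option maxRecDepth 100000
set_option Elab.async false

namespace H79.Ru

open Cfsg Cfsg.Spor Finset H77 H72 H81 H71

/-- `c` is the set of odd coordinates of `x` -/
def Res (x : RuVec) (c : ℕ) : Prop := ∀ p < 56, co x p % 2 = (c.testBit p).toNat

/-- number of ones among the first `n` bits -/
def wtn (n c : ℕ) : ℕ := ∑ p ∈ range n, (c.testBit p).toNat

theorem wtn_succ (n c : ℕ) : wtn (n + 1) c = wtn n (c >>> 1) + (c.testBit 0).toNat := by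
  rw [wtn, sum_range_succ', wtn]
  simp only [Nat.testBit_shiftRight, add_comm 1]

theorem xorSel_cons (b : ℕ) (l : List ℕ) (m : ℕ) :
    xorSel (b :: l) m = (cond (m.testBit 0) b 0) ^^^ xorSel l (m >>> 1) := by
  rw [xorSel, tb_eq]; rfl

theorem testBit_xorSel (p : ℕ) (l : List ℕ) : ∀ m, ((xorSel l m).testBit p).toNat =
    (∑ i ∈ range l.length, (m.testBit i).toNat * ((nthD l 0 i).testBit p).toNat) % 2 := by
  induction l with
  | nil => intro m; simp [xorSel]
  | cons b l ih =>
    intro m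
    have h := ih (m >>> 1)
    simp only [Nat.testBit_shiftRight, add_comm 1] at h
    rw [xorSel_cons, List.length_cons, sum_range_succ', Nat.testBit_xor, Nat.add_mod]
    change _ = ((∑ i ∈ range l.length, (m.testBit (i + 1)).toNat *
      ((nthD l 0 i).testBit p).toNat) % 2 + (m.testBit 0).toNat * (b.testBit p).toNat % 2) % 2
    rw [← h]
    cases m.testBit 0 <;> cases hb : b.testBit p <;> cases (xorSel l (m >>> 1)).testBit p <;>
      simp [hb]

theorem chkG : allN (fun i => band (memb 2 (nthD Vc 0) (dk (nthD Gc 0 i)))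
    (allN (fun p => Nat.beq (Nat.land (dk (nthD Gc 0 i) p) 1)
      (Nat.land (Nat.shiftRight (nthD Rc 0 i) p) 1)) 56)) 56 = true := by decide +kernel

theorem land_one (a p : ℕ) : Nat.land (Nat.shiftRight a p) 1 = (a.testBit p).toNat := by
  change (a >>> p) &&& 1 = _
  rw [Nat.toNat_testBit, Nat.and_one_is_mod, Nat.shiftRight_eq_div_pow]

/-- the lift of a word of the residue code, as a code -/
noncomputable def lft (e : ℕ) : ℕ := lc (fun i => Nat.land (Nat.shiftRight e i) 1) (nthD Gc 0)

theorem exists_lift (e : ℕ) : ∃ g ∈ ruLattice, Res g (xorSel Rc e) ∧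
    ∀ p < 56, co g p % 4 = (dg (lft e) p : ℤ) % 4 := by
  have h4 : ∀ p < 56, co (∑ i ∈ range 56, ((e.testBit i).toNat : ℤ) • vf (dk (nthD Gc 0 i))) p % 4 =
      (dg (lft e) p : ℤ) % 4 := fun p hp => by
    rw [lft, dg_lc (fun q _ => by rw [land_one]; exact (Bool.toNat_le _).trans (by norm_num))
      (fun q _ => okc_nth okG q) hp, co_sum]
    simp only [co_zsmul, co_vf _ hp, land_one, dk_eq, mul_sub, sum_sub_distrib, ← sum_mul]
    push_cast
    omega
  refine ⟨_, ruLattice.sum_mem fun i hi => ruLattice.zsmul_mem (mem_lat (okc_le' (okc_nth okG i))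
    (band_iff.1 (of_allN chkG i (mem_range.1 hi))).1) _, fun p hp => ?_, h4⟩
  have h1 := h4 p hp
  rw [lft, dg_lc (fun q _ => by rw [land_one]; exact (Bool.toNat_le _).trans (by norm_num))
    (fun q _ => okc_nth okG q) hp] at h1
  have h2 : ((xorSel Rc e).testBit p).toNat = (∑ q ∈ range 56,
      Nat.land (Nat.shiftRight e q) 1 * dg (nthD Gc 0 q) p) % 2 := by
    rw [testBit_xorSel, sum_subset (range_mono (show Rc.length ≤ 56 by decide)) fun i _ hi => by
      rw [nthD_eq, List.getD_eq_default _ _ (by simpa using hi)]; simp, sum_nat_mod, eq_comm,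
      sum_nat_mod]
    refine congrArg (· % 2) (sum_congr rfl fun i hi => ?_)
    have h3 := Nat.eq_of_beq_eq_true
      (of_allN (band_iff.1 (of_allN chkG i (mem_range.1 hi))).2 p hp)
    rw [land_one, dk_eq] at h3
    rw [land_one, ← h3, Nat.mul_mod, Nat.mul_mod _ (Nat.land _ _)]
    change _ = (_ * ((_ &&& 1) % 2)) % 2
    rw [Nat.and_one_is_mod, Nat.mod_mod]
  omega

theorem chkWm : allN (fun k => band (Nat.blt (nthD Wm 0 k) 524288) (frc (xorSel Rc (nthD Wm 0 k))
    fun c => allN (fun p => Nat.beq (Nat.land (wd k p) 1) (Nat.land (Nat.shiftRight c p) 1)) 56)) 56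
      = true := by decide +kernel

theorem exists_res {x : RuVec} (hx : x ∈ ruLattice) : ∃ m < 2 ^ 19, Res x (xorSel Rc m) := by
  let K : AddSubgroup RuVec :=
    { carrier := {x | ∃ m < 2 ^ 19, Res x (xorSel Rc m)}
      zero_mem' := ⟨0, by norm_num, fun p _ => by rw [xorSel_zero, co_zero]; simp⟩
      add_mem' := by
        rintro x y ⟨m, h1, h2⟩ ⟨n, h3, h4⟩
        refine ⟨m ^^^ n, Nat.xor_lt_two_pow h1 h3, fun p hp => ?_⟩
        have a := h2 p hp
        have b := h4 p hp
        rw [co_add, show xorSel Rc (m ^^^ n) = xorSel Rc m ^^^ xorSel Rc n from xorSel_xor _ _ _,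
          Nat.testBit_xor]
        revert a b
        cases (xorSel Rc m).testBit p <;> cases (xorSel Rc n).testBit p <;> simp <;> omega
      neg_mem' := by
        rintro x ⟨m, h1, h2⟩
        exact ⟨m, h1, fun p hp => by have := h2 p hp; rw [co_neg]; omega⟩ }
  refine lat_le (K := K) (fun k hk => ?_) hx
  obtain ⟨h1, h2⟩ := band_iff.1 (of_allN chkWm k hk)
  rw [frc_eq] at h2
  refine ⟨_, Nat.blt_eq.mp h1, fun p hp => ?_⟩
  have h3 := Nat.eq_of_beq_eq_true (of_allN h2 p hp)
  rw [land_one, show Nat.land (wd k p) 1 = wd k p % 2 from Nat.and_one_is_mod _] at h3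
  rw [co_vf _ hp]
  omega

theorem parity {x g : RuVec} (hx : x ∈ ruLattice) (hg : g ∈ ruLattice) {c r : ℕ} (hc : Res x c)
    (hr : Res g r) (h : c &&& r = 0) :
    4 ∣ ∑ p ∈ range 56, (if c.testBit p then co g p else 0) +
      2 * (#{p ∈ range 56 | r.testBit p = true ∧ co x p % 4 = 2} : ℕ) := by
  rw [card_filter, Nat.cast_sum, mul_sum, ← sum_add_distrib]
  refine (Int.ModEq.dvd_iff (Int.ModEq.sum (s := range 56) fun p hp => ?_)).1 (dvd_dot hx hg)
  have a := hc p (mem_range.1 hp)
  have b := hr p (mem_range.1 hp)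
  have e := congrArg (·.testBit p) h
  simp only [Nat.testBit_and, Nat.zero_testBit] at e
  rw [Int.ModEq, Int.mul_emod]
  have a4 : co x p % 4 = 0 ∨ co x p % 4 = 1 ∨ co x p % 4 = 2 ∨ co x p % 4 = 3 := by omega
  have b4 : co g p % 4 = 0 ∨ co g p % 4 = 1 ∨ co g p % 4 = 2 ∨ co g p % 4 = 3 := by omega
  revert a b e
  cases c.testBit p <;> cases r.testBit p <;> rcases a4 with a4 | a4 | a4 | a4 <;>
    rcases b4 with b4 | b4 | b4 | b4 <;> simp [a4, b4] <;> omega

theorem sq_ge {x : RuVec} {c : ℕ} (hc : Res x c) {p : ℕ} (hp : p < 56) :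
    ((c.testBit p).toNat : ℤ) + 4 * (if co x p % 4 = 2 then 1 else 0 : ℕ) ≤ co x p * co x p := by
  have a := hc p hp
  revert a
  have h1 : co x p ≠ 0 → 1 ≤ co x p * co x p := fun h => mul_self_pos.2 h
  have h2 : co x p % 4 = 2 → 4 ≤ co x p * co x p := fun h => by
    rcases (show 2 ≤ co x p ∨ co x p ≤ -2 by omega) with h | h <;> nlinarith
  have h3 := mul_self_nonneg (co x p)
  cases c.testBit p <;> split_ifs <;> simp <;> omega

theorem norm_ge {x : RuVec} {c : ℕ} (hc : Res x c) :
    (wtn 56 c : ℤ) + 4 * (#{p ∈ range 56 | co x p % 4 = 2} : ℕ) ≤ dot x x := by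
  rw [card_filter, wtn, Nat.cast_sum, Nat.cast_sum, mul_sum, ← sum_add_distrib]
  exact sum_le_sum fun p hp => sq_ge hc (mem_range.1 hp)

theorem sq_eq {x : RuVec} {c : ℕ} (hc : Res x c) (h : dot x x ≤ wtn 56 c) {p : ℕ} (hp : p < 56) :
    co x p * co x p = (c.testBit p).toNat := by
  have h1 : ∀ q ∈ range 56, ((c.testBit q).toNat : ℤ) ≤ co x q * co x q := fun q hq => by
    have := sq_ge hc (mem_range.1 hq); omega
  rw [wtn, Nat.cast_sum] at h
  exact ((sum_eq_sum_iff_of_le h1).1 (le_antisymm (sum_le_sum h1) h) p (mem_range.2 hp)).symm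

/-- kernel version of the weight -/
noncomputable def wk (c : ℕ) : ℕ := sumN 56 fun p => Nat.land (Nat.shiftRight c p) 1

theorem wk_eq (c : ℕ) : wk c = wtn 56 c := by
  rw [wk, sumN_eq, wtn]; simp only [land_one]

/-- disjoint words of the residue code, each of which forces a coordinate that is 2 modulo 4 -/
noncomputable def bad (c : ℕ) (es : List ℕ) : ℕ → Bool :=
  List.rec (motive := fun _ => ℕ → Bool) (fun _ => true) (fun e _ ih u =>
    frc (xorSel Rc e) fun r => band (Nat.beq (Nat.land (Nat.lor c u) r) 0) <|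
      band (frc (lft e) fun s => Nat.beq (Nat.land (sumN 56 fun p =>
        Nat.mul (Nat.land (Nat.shiftRight c p) 1) (dk s p)) 3) 2) (ih (Nat.lor u r))) es

theorem bad_cons (c e u : ℕ) (es : List ℕ) : bad c (e :: es) u =
    frc (xorSel Rc e) fun r => band (Nat.beq (Nat.land (Nat.lor c u) r) 0) <|
      band (frc (lft e) fun s => Nat.beq (Nat.land (sumN 56 fun p =>
        Nat.mul (Nat.land (Nat.shiftRight c p) 1) (dk s p)) 3) 2) (bad c es (Nat.lor u r)) := rfl

theorem bad_spec {x : RuVec} (hx : x ∈ ruLattice) {c : ℕ} (hc : Res x c) (es : List ℕ) :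
    ∀ u, bad c es u = true →
      es.length ≤ #{p ∈ range 56 | co x p % 4 = 2 ∧ u.testBit p = false} := by
  induction es with
  | nil => intro u _; exact Nat.zero_le _
  | cons e es ih =>
    intro u h
    rw [bad_cons, frc_eq, band_iff, band_iff, frc_eq] at h
    obtain ⟨h1, h2, h3⟩ := h
    have h1 : (c ||| u) &&& xorSel Rc e = 0 := Nat.eq_of_beq_eq_true h1
    rw [Nat.and_or_distrib_right, Nat.or_eq_zero_iff] at h1
    have h2 := Nat.eq_of_beq_eq_true h2
    rw [sumN_eq, show ∀ a, Nat.land a 3 = a % 4 from fun a =>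
      Nat.and_two_pow_sub_one_eq_mod a 2] at h2
    obtain ⟨g, g1, g2, g3⟩ := exists_lift e
    have h4 := parity hx g1 hc g2 h1.1
    have h5 : (∑ p ∈ range 56, if c.testBit p then co g p else 0) % 4 = 2 := by
      rw [← Int.natCast_inj] at h2
      push_cast at h2
      rw [← h2]
      refine Int.ModEq.sum fun p hp => ?_
      have := g3 p (mem_range.1 hp)
      change _ % 4 = ((Nat.land (Nat.shiftRight c p) 1 * dk (lft e) p : ℕ) : ℤ) % 4
      rw [land_one, dk_eq]
      cases c.testBit p <;> simp [this]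
    obtain ⟨p, hp⟩ := card_pos.1 (show 0 < #{p ∈ range 56 | (xorSel Rc e).testBit p = true ∧
      co x p % 4 = 2} by omega)
    obtain ⟨p1, p2, p3⟩ := mem_filter.1 hp
    have p4 := congrArg (·.testBit p) h1.2
    simp only [Nat.testBit_and, p2, Bool.and_true, Nat.zero_testBit] at p4
    refine (Nat.succ_le_succ (ih _ h3)).trans (card_lt_card ⟨fun q hq => ?_, fun hs => ?_⟩)
    · simp only [mem_filter, show Nat.lor u (xorSel Rc e) = u ||| xorSel Rc e from rfl,
        Nat.testBit_or, Bool.or_eq_false_iff] at hq ⊢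
      exact ⟨hq.1, hq.2.1, hq.2.2.1⟩
    · have := (mem_filter.1 (hs (mem_filter.2 ⟨p1, p3, p4⟩))).2.2
      rw [show Nat.lor u (xorSel Rc e) = u ||| xorSel Rc e from rfl] at this
      simp [p2] at this

/-- the set of values of `f` below `n` -/
noncomputable def orN (f : ℕ → ℕ) (n : ℕ) : ℕ :=
  Nat.rec (motive := fun _ => ℕ) 0 (fun j acc => Nat.lor acc (Nat.shiftLeft 1 (f j))) n

theorem testBit_orN (f : ℕ → ℕ) (i n : ℕ) : (orN f n).testBit i = true ↔ ∃ j < n, f j = i := by
  induction n with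
  | zero => simp [orN]
  | succ n ih =>
    rw [show orN f (n + 1) = Nat.lor (orN f n) (Nat.shiftLeft 1 (f n)) from rfl, testBit_lor_shift,
      ih, Nat.exists_lt_succ_right]

/-- lane `t` of record `j` -/
def ln (D w j t : ℕ) : ℕ :=
  Nat.land (Nat.shiftRight D (Nat.add (Nat.mul w j) (Nat.mul 32 t))) 4294967295

/-- the certificates of an impossible residue -/
noncomputable def badL (j : ℕ) : List ℕ :=
  cond (Nat.beq (ln BAD 128 j 2) 0) [ln BAD 128 j 1] [ln BAD 128 j 1, ln BAD 128 j 2, ln BAD 128 j 3]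

theorem chkBad : allN (fun j => frc (xorSel Rc (ln BAD 128 j 0)) fun c =>
    band (Nat.blt 16 (Nat.add (wk c) (Nat.mul 4 (badL j).length))) (bad c (badL j) 0)) 756 = true := by
  decide +kernel

theorem not_bad {x : RuVec} (hx : x ∈ ruLattice) {j : ℕ} (hj : j < 756)
    (hc : Res x (xorSel Rc (ln BAD 128 j 0))) : 16 < dot x x := by
  have h := of_allN chkBad j hj
  rw [frc_eq] at h
  obtain ⟨h1, h2⟩ := band_iff.1 h
  have h1 : 16 < wk _ + 4 * _ := Nat.blt_eq.mp h1
  have h3 := bad_spec hx hc _ _ h2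
  have h4 := norm_ge hc
  simp only [Nat.zero_testBit, and_true] at h3
  rw [wk_eq] at h1
  omega

/-- no selection of at most `k + 1` entries of the list has sum `s` -/
noncomputable def nd (B : ℕ) (l : List ℕ) : ℕ → ℕ → Bool :=
  List.rec (motive := fun _ => ℕ → ℕ → Bool) (fun _ s => Bool.not (Nat.beq s 0))
    (fun c _ ih k s => Nat.rec (motive := fun _ => Bool) (Bool.not (tb B s))
      (fun k' _ => band (ih (Nat.succ k') s) (frc (Nat.xor s c) (ih k'))) k) l

theorem xorSel_of_wt (l : List ℕ) : ∀ m, (wtn l.length m = 0 → xorSel l m = 0) ∧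
    (wtn l.length m ≤ 1 → xorSel l m = 0 ∨ xorSel l m ∈ l) := by
  induction l with
  | nil => intro m; exact ⟨fun _ => rfl, fun _ => Or.inl rfl⟩
  | cons c l ih =>
    intro m
    obtain ⟨h1, h2⟩ := ih (m >>> 1)
    rw [List.length_cons, wtn_succ, xorSel_cons]
    cases m.testBit 0
    · simp only [Bool.toNat_false, add_zero, cond_false, Nat.zero_xor, List.mem_cons]
      exact ⟨h1, fun h => (h2 h).imp_right Or.inr⟩
    · simp only [Bool.toNat_true, cond_true, List.mem_cons]
      exact ⟨fun h => absurd h (by omega), fun h => by rw [h1 (by omega)]; simp⟩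

theorem nd_spec {B : ℕ} (h0 : B.testBit 0 = true) (l : List ℕ) (hB : ∀ c ∈ l, B.testBit c = true) :
    ∀ k s, nd B l k s = true → ∀ m, wtn l.length m ≤ k + 1 → xorSel l m ≠ s := by
  induction l with
  | nil =>
    rintro k _ h m - rfl
    exact absurd h Bool.false_ne_true
  | cons c l ih =>
    rintro k _ h m hm rfl
    cases k with
    | zero =>
      have h' : (!tb B (xorSel (c :: l) m)) = true := h
      rw [tb_eq] at h'
      rcases (xorSel_of_wt _ m).2 hm with e | e
      · simp [e, h0] at h'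
      · simp [hB _ e] at h'
    | succ k =>
      obtain ⟨h1, h2⟩ := band_iff.1 h
      have ih := ih fun d hd => hB d (List.mem_cons_of_mem _ hd)
      rw [List.length_cons, wtn_succ] at hm
      rw [xorSel_cons] at h1 h2
      revert hm h1 h2
      cases m.testBit 0
      · intro hm h1 _
        exact ih _ _ h1 (m >>> 1) hm (Nat.zero_xor _).symm
      · intro hm _ h2
        refine ih _ _ h2 (m >>> 1) (by simpa using hm) ?_
        change _ = (c ^^^ _) ^^^ c
        rw [Nat.xor_comm c, Nat.xor_xor_cancel_right]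

/-- any four entries of the list are independent -/
noncomputable def ndT (B : ℕ) (l : List ℕ) : Bool :=
  List.rec (motive := fun _ => Bool) true (fun c l ih => band (nd B l 2 c) ih) l

theorem ndT_spec {B : ℕ} (h0 : B.testBit 0 = true) (l : List ℕ) (hB : ∀ c ∈ l, B.testBit c = true)
    (h : ndT B l = true) : ∀ m, wtn l.length m ≤ 4 → xorSel l m = 0 → wtn l.length m = 0 := by
  induction l with
  | nil => intro m _ _; rfl
  | cons c l ih =>
    intro m
    obtain ⟨h1, h2⟩ := band_iff.1 h
    have hB' : ∀ d ∈ l, B.testBit d = true := fun d hd => hB d (List.mem_cons_of_mem _ hd)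
    rw [List.length_cons, wtn_succ, xorSel_cons]
    cases m.testBit 0
    · exact fun hm e => ih hB' h2 _ hm ((Nat.zero_xor _).symm.trans e)
    · exact fun hm e => absurd (Nat.xor_eq_zero_iff.1 e).symm
        (nd_spec h0 l hB' 2 c h1 _ (by simp only [Bool.toNat_true] at hm; omega))

theorem chkNd : frcL ((List.range 56).map (col Rc)) (fun l => frc (orN (nthD l 0) 57) fun B =>
    ndT B l) = true := by decide +kernel

theorem even_count {x g : RuVec} (hx : x ∈ ruLattice) (hg : g ∈ ruLattice) {r : ℕ} (hc : Res x 0)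
    (hr : Res g r) : #{p ∈ range 56 | r.testBit p = true ∧ co x p % 4 = 2} % 2 = 0 := by
  have := parity hx hg hc hr (Nat.zero_and _)
  simp only [Nat.zero_testBit, Bool.false_eq_true, if_false, sum_const_zero] at this
  omega

theorem chkRc : allN (fun i => Nat.beq (xorSel Rc (Nat.shiftLeft 1 i)) (nthD Rc 0 i)) 19 = true := by
  decide +kernel

theorem four_dvd {x : RuVec} (hx : x ∈ ruLattice) (hc : Res x 0) (hn : dot x x ≤ 16) :
    ∀ p < 56, co x p % 4 = 0 := by
  have h := chkNd
  rw [frcL_eq, frc_eq] at h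
  set l := (List.range 56).map (col Rc) with hl
  have hn' : ∀ p < 56, nthD l 0 p = col Rc p := fun p hp => by
    rw [nthD_eq, List.getD_eq_getElem _ _ (by simpa [hl] using hp)]; simp [hl]
  have hlen : l.length = 56 := by simp [hl]
  let m := Nat.ofBits fun p : Fin 56 => decide (co x p % 4 = 2)
  have hm : ∀ p < 56, m.testBit p = decide (co x p % 4 = 2) := fun p hp =>
    Nat.testBit_ofBits_lt _ p hp
  have hw : wtn 56 m = #{p ∈ range 56 | co x p % 4 = 2} := by
    rw [wtn, card_filter]
    exact sum_congr rfl fun p hp => by rw [hm p (mem_range.1 hp)]; split_ifs with h <;> simp [h]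
  have h1 := ndT_spec ((testBit_orN _ _ _).2 ⟨56, by norm_num, by
    rw [nthD_eq, List.getD_eq_default _ _ hlen.le]⟩) l (fun c hc => (testBit_orN _ _ _).2 (by
      obtain ⟨p, hp, rfl⟩ := List.mem_map.1 hc
      have hp := List.mem_range.1 hp
      exact ⟨p, by omega, hn' p hp⟩)) h m (by have := norm_ge hc; rw [hlen]; omega)
    (Nat.eq_of_testBit_eq fun i => by
      have e := testBit_xorSel i l m
      rw [hlen, sum_congr rfl fun p hp => by
        rw [hn' p (mem_range.1 hp), testBit_col, hm p (mem_range.1 hp)]] at e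
      have e2 : #{p ∈ range 56 | (nthD Rc 0 i).testBit p = true ∧ co x p % 4 = 2} % 2 = 0 := by
        rcases Nat.lt_or_ge i 19 with c | c
        · obtain ⟨g, g1, g2, -⟩ := exists_lift (Nat.shiftLeft 1 i)
          rw [Nat.eq_of_beq_eq_true (of_allN chkRc i c)] at g2
          exact even_count hx g1 hc g2
        · rw [nthD_eq, List.getD_eq_default _ _ c]; simp
      rw [card_filter] at e2
      rw [sum_congr rfl (g := fun p => if (nthD Rc 0 i).testBit p = true ∧ co x p % 4 = 2
        then 1 else 0) fun p _ => by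
          by_cases a : co x p % 4 = 2 <;> cases (nthD Rc 0 i).testBit p <;> simp [a], e2] at e
      simpa using e)
  rw [hlen, hw, card_eq_zero, filter_eq_empty_iff] at h1
  intro p hp
  have := h1 (mem_range.2 hp)
  have := hc p hp
  simp only [Nat.zero_testBit, Bool.toNat_false] at this
  omega

/-- the vectors of the standard frame -/
def fr (p : ℕ) (s : ℤ) : RuVec := mkV fun q => if q = p then s else 0

theorem eq_fr {x : RuVec} (hx : x ∈ ruLattice) (hc : Res x 0) (hn : dot x x ≤ 16) (h0 : x ≠ 0) :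
    dot x x = 16 ∧ ∃ p < 56, x = fr p 4 ∨ x = fr p (-4) := by
  obtain ⟨p, hp, h⟩ : ∃ p < 56, co x p ≠ 0 := by
    by_contra! h
    exact h0 (ext_co fun p hp => by rw [h p hp, co_zero])
  have h4 := four_dvd hx hc hn p hp
  have e : dot x x = co x p * co x p + ∑ q ∈ (range 56).erase p, co x q * co x q :=
    (add_sum_erase _ _ (mem_range.2 hp)).symm
  have h1 : 0 ≤ ∑ q ∈ (range 56).erase p, co x q * co x q := sum_nonneg fun q _ => mul_self_nonneg _
  have h2 : 16 ≤ co x p * co x p := by
    rcases (show 4 ≤ co x p ∨ co x p ≤ -4 by omega) with h | h <;> nlinarith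
  have h3 := (sum_eq_zero_iff_of_nonneg fun q _ => mul_self_nonneg (co x q)).1
    (show ∑ q ∈ (range 56).erase p, co x q * co x q = 0 by omega)
  have h5 : x = fr p (co x p) := ext_co fun q hq => by
    rw [fr, co_mkV _ hq]
    split_ifs with c
    · rw [c]
    · exact mul_self_eq_zero.1 (h3 q (mem_erase.2 ⟨c, mem_range.2 hq⟩))
  refine ⟨by omega, p, hp, ?_⟩
  rcases mul_self_eq_mul_self_iff.1 (show co x p * co x p = 4 * 4 by omega) with a | a
  · exact Or.inl (a ▸ h5)
  · exact Or.inr (a ▸ h5)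

/-- the free positions of a possible residue -/
def fF (j : ℕ) : ℕ := Nat.land (Nat.shiftRight FEA (Nat.add (Nat.mul 512 j) 416)) 72057594037927935

theorem chkFea : allN (fun j => frc (xorSel Rc (ln FEA 512 j 0)) fun c =>
    band (Nat.beq (wk c) 16) <| frc (Nat.xor c (Nat.land c (fF j))) fun d =>
    band (subB d (orN (fun t => Nat.land (ln FEA 512 j (Nat.succ t)) 63) 12)) <|
    allN (fun t => frc (ln FEA 512 j (Nat.succ t)) fun u =>
      Nat.beq (Nat.land (xorSel Rc (Nat.shiftRight u 6)) d) (Nat.shiftLeft 1 (Nat.land u 63))) 12)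
    952 = true := by decide +kernel

/-- short vectors with a given residue -/
def Mj (j : ℕ) : Set RuVec :=
  {x | x ∈ ruLattice ∧ dot x x ≤ 16 ∧ Res x (xorSel Rc (ln FEA 512 j 0))}

theorem Mj_spec {j : ℕ} (hj : j < 952) : (∀ x ∈ Mj j, dot x x = 16) ∧ (Mj j).Finite ∧
    (Mj j).ncard ≤ 2 ^ wk (fF j) := by
  have h := of_allN chkFea j hj
  rw [frc_eq, band_iff, frc_eq, band_iff] at h
  obtain ⟨h1, h2, h3⟩ := h
  have h1 := Nat.eq_of_beq_eq_true h1
  rw [wk_eq] at h1
  set c := xorSel Rc (ln FEA 512 j 0)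
  have h1' : wtn 56 (xorSel Rc (ln FEA 512 j 0)) = 16 := h1
  let f : RuVec → Finset ℕ := fun x => {p ∈ range 56 | (fF j).testBit p = true ∧ co x p = 1}
  have hf : Set.InjOn f (Mj j) := by
    rintro x ⟨x1, x2, x3⟩ y ⟨y1, y2, y3⟩ e
    have hx : ∀ p < 56, co x p * co x p = (c.testBit p).toNat := fun p => sq_eq x3 (by omega)
    have hy : ∀ p < 56, co y p * co y p = (c.testBit p).toNat := fun p => sq_eq y3 (by omega)
    have hv : ∀ p < 56, co x p = co y p ∨ ((Nat.xor c (Nat.land c (fF j))).testBit p = true ∧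
        co (x - y) p % 4 = 2) := fun p hp => by
      have a := hx p hp
      have b := hy p hp
      have d : p ∈ f x ↔ p ∈ f y := by rw [e]
      simp only [f, mem_filter, mem_range, hp, true_and] at d
      change _ ∨ ((c ^^^ (c &&& fF j)).testBit p = true ∧ _)
      rw [Nat.testBit_xor, Nat.testBit_and, co_sub]
      revert a b d
      cases c.testBit p
      · simp only [Bool.toNat_false, Nat.cast_zero, mul_self_eq_zero]
        exact fun a b _ => Or.inl (a.trans b.symm)
      · simp only [Bool.toNat_true, Nat.cast_one, mul_self_eq_one_iff]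
        cases (fF j).testBit p <;> simp <;> omega
    refine ext_co fun q hq => (hv q hq).resolve_right fun ⟨a, b⟩ => ?_
    obtain ⟨t, ht, e⟩ := (testBit_orN _ _ _).1 (of_subB h2 a)
    have h4 := of_allN h3 t ht
    rw [frc_eq, e] at h4
    obtain ⟨g, g1, g2, -⟩ := exists_lift (Nat.shiftRight (ln FEA 512 j (Nat.succ t)) 6)
    have h5 := even_count (sub_mem x1 y1) g1 (fun p hp => by
      have := x3 p hp
      have := y3 p hp
      rw [co_sub, Nat.zero_testBit]
      simp only [Bool.toNat_false]; omega) g2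
    have h6 : ∀ p, (_ &&& _ : ℕ).testBit p = (1 <<< q).testBit p := fun p =>
      congrArg (·.testBit p) (Nat.eq_of_beq_eq_true h4)
    simp only [Nat.testBit_and, Nat.one_shiftLeft, Nat.testBit_two_pow] at h6
    rw [show {p ∈ range 56 | _} = {q} from eq_singleton_iff_unique_mem.2 ⟨mem_filter.2
      ⟨mem_range.2 hq, by have := h6 q; rw [a] at this; simpa using this, b⟩, fun p hp => ?_⟩] at h5
    · simp at h5
    · obtain ⟨p1, p2, p3⟩ := mem_filter.1 hp
      rcases hv p (mem_range.1 p1) with a | ⟨a, -⟩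
      · rw [co_sub, a] at p3; omega
      · have := h6 p
        rw [p2, a] at this
        exact (of_decide_eq_true this.symm).symm
  have hm : Set.MapsTo f (Mj j) (powerset {p ∈ range 56 | (fF j).testBit p = true} : Finset _) :=
    fun x _ => mem_coe.2 (mem_powerset.2 fun p hp => by
      simp only [f, mem_filter] at hp ⊢; exact ⟨hp.1, hp.2.1⟩)
  refine ⟨fun x hx => ?_, Set.Finite.of_injOn hm hf (finite_toSet _),
    (Set.ncard_le_ncard_of_injOn f hm hf (finite_toSet _)).trans (le_of_eq ?_)⟩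
  · have := norm_ge hx.2.2
    have := hx.2.1
    omega
  · rw [Set.ncard_coe_finset, card_powerset, wk_eq, wtn, card_filter]
    exact congrArg _ (sum_congr rfl fun p _ => by cases (fF j).testBit p <;> rfl)

theorem testBit_ones {n i : ℕ} (h : i < n) : (Nat.sub (Nat.shiftLeft 1 n) 1).testBit i = true := by
  change ((1 <<< n) - 1).testBit i = true
  rw [Nat.one_shiftLeft, Nat.testBit_two_pow_sub_one]
  simpa using h

/-- add the planes `f p` for `p < n` -/
noncomputable def wtA (f : ℕ → ℕ) (n : ℕ) : List ℕ → (List ℕ → Bool) → Bool :=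
  Nat.rec (motive := fun _ => List ℕ → (List ℕ → Bool) → Bool) (fun A k => k A)
    (fun p ih A k => frc (f p) fun P => addA A [] P fun R => ih R k) n

theorem wtA_spec (f : ℕ → ℕ) (k : List ℕ → Bool) (n : ℕ) : ∀ A, wtA f n A k = true →
    ∃ R, k R = true ∧ ∀ i, col R i = col A i + ∑ p ∈ range n, ((f p).testBit i).toNat := by
  induction n with
  | zero => intro A h; exact ⟨A, h, fun i => by simp⟩
  | succ n ih =>
    intro A h
    obtain ⟨R, h1, h2⟩ := addA_spec A [] (f n) _ h
    obtain ⟨R', h3, h4⟩ := ih R h1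
    exact ⟨R', h3, fun i => by rw [h4, h2, sum_range_succ, col]; ring⟩

theorem chkLow : frcL ((List.range 19).map (planeN 19 524288)) (fun Ps =>
    frc (Nat.sub (Nat.shiftLeft 1 524288) 1) fun o =>
    wtA (fun p => linP p Rc Ps) 56 [o, o, o, o, 0, 0, 0] fun R =>
    subB o (Nat.lor (Nat.lor (nthD R 0 5) (nthD R 0 6)) (Nat.lor 1
      (Nat.lor (orN (fun j => ln BAD 128 j 0) 756) (orN (fun j => ln FEA 512 j 0) 952))))) = true := by
  decide +kernel

theorem low_cases {m : ℕ} (hm : m < 2 ^ 19) (h : wtn 56 (xorSel Rc m) ≤ 16) :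
    m = 0 ∨ (∃ j < 756, ln BAD 128 j 0 = m) ∨ ∃ j < 952, ln FEA 512 j 0 = m := by
  have h0 := chkLow
  rw [frcL_eq, frc_eq] at h0
  obtain ⟨R, h1, h2⟩ := wtA_spec _ _ _ _ h0
  have ho : (Nat.sub (Nat.shiftLeft 1 524288) 1).testBit m = true := by
    exact testBit_ones (hm.trans_eq (by norm_num))
  have hc : col ((List.range 19).map (planeN 19 524288)) m = m := Nat.eq_of_testBit_eq fun k => by
    rw [testBit_col, nthD_eq]
    rcases Nat.lt_or_ge k 19 with c | c
    · rw [List.getD_eq_getElem _ _ (by simpa using c), List.getElem_map, List.getElem_range,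
        testBit_planeN (by norm_num) c (by simpa using hm)]
    · rw [List.getD_eq_default _ _ (by simpa using c), Nat.zero_testBit,
        Nat.testBit_lt_two_pow (hm.trans_le (Nat.pow_le_pow_right (by norm_num) c))]
  have h3 := h2 m
  simp only [testBit_linP, hc, col, ho, Nat.zero_testBit, Nat.bit_val] at h3
  have h4 : col R m < 2 ^ 5 := by
    rw [wtn] at h
    simp only [Bool.toNat_true, Bool.toNat_false] at h3
    omega
  have h5 : ((_ ||| _) ||| (1 ||| (_ ||| _)) : ℕ).testBit m = true := of_subB h1 ho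
  simp only [Nat.testBit_or, Bool.or_eq_true, ← testBit_col, testBit_orN,
    Nat.testBit_lt_two_pow h4, Nat.testBit_lt_two_pow (h4.trans (show 2 ^ 5 < 2 ^ 6 by norm_num)),
    Bool.false_eq_true, false_or, Nat.testBit_one_eq_true_iff_self_eq_zero] at h5
  exact h5

theorem short_cases {x : RuVec} (hx : x ∈ ruLattice) (h0 : x ≠ 0) (hn : dot x x ≤ 16) :
    dot x x = 16 ∧ ((∃ p < 56, x = fr p 4 ∨ x = fr p (-4)) ∨ ∃ j < 952, x ∈ Mj j) := by
  obtain ⟨m, hm, hc⟩ := exists_res hx
  rcases low_cases hm (by have := norm_ge hc; omega) with rfl | ⟨j, hj, rfl⟩ | ⟨j, hj, rfl⟩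
  · rw [xorSel_zero] at hc
    exact (eq_fr hx hc hn h0).imp_right Or.inl
  · exact absurd (not_bad hx hj hc) (by omega)
  · exact ⟨(Mj_spec hj).1 x ⟨hx, hn, hc⟩, Or.inr ⟨j, hj, hx, hn, hc⟩⟩

theorem min_norm {x : RuVec} (hx : x ∈ ruLattice) (h0 : x ≠ 0) : 16 ≤ dot x x := by
  by_contra h
  have := (short_cases hx h0 (by omega)).1
  omega

/-- the minimal vectors -/
def Mv : Set RuVec := {x | x ∈ ruLattice ∧ dot x x = 16}

theorem chkTot : Nat.beq (sumN 952 fun j => Nat.pow 2 (wk (fF j))) 16128 = true := by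
  decide +kernel

theorem Mv_card : Mv.Finite ∧ Mv.ncard ≤ 16240 := by
  classical
  have h1 : ∀ n ≤ 952, {x | ∃ j < n, x ∈ Mj j}.Finite ∧
      {x | ∃ j < n, x ∈ Mj j}.ncard ≤ ∑ j ∈ range n, 2 ^ wk (fF j) := fun n hn => by
    induction n with
    | zero => simp
    | succ n ih =>
      obtain ⟨a, b⟩ := ih (by omega)
      obtain ⟨-, c, d⟩ := Mj_spec (show n < 952 by omega)
      simp only [Nat.exists_lt_succ_right, Set.ofPred_or, Set.ofPred_mem_eq, sum_range_succ]
      exact ⟨a.union c, (Set.ncard_union_le _ _).trans (Nat.add_le_add b d)⟩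
  obtain ⟨a, b⟩ := h1 952 le_rfl
  have e := Nat.eq_of_beq_eq_true chkTot
  rw [sumN_eq] at e
  let F : Finset RuVec := (range 56).image (fr · 4) ∪ (range 56).image (fr · (-4))
  have hF : #F ≤ 112 := (card_union_le _ _).trans (by
    simpa using Nat.add_le_add (card_image_le (s := range 56)) (card_image_le (s := range 56)))
  have hs : Mv ⊆ (F : Set RuVec) ∪ {x | ∃ j < 952, x ∈ Mj j} := fun x hx => by
    rcases (short_cases hx.1 (by rintro rfl; simpa [dot_zero] using hx.2) hx.2.le).2 with
      ⟨p, hp, h | h⟩ | h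
    · exact Or.inl (mem_union_left _ (mem_image.2 ⟨p, mem_range.2 hp, h.symm⟩))
    · exact Or.inl (mem_union_right _ (mem_image.2 ⟨p, mem_range.2 hp, h.symm⟩))
    · exact Or.inr h
  refine ⟨((finite_toSet F).union a).subset hs,
    (Set.ncard_le_ncard hs ((finite_toSet F).union a)).trans ((Set.ncard_union_le _ _).trans ?_)⟩
  rw [Set.ncard_coe_finset]
  exact Nat.add_le_add hF (b.trans (le_of_eq e))

end H79.Ru
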