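import Cfsg.Agent.H85.S3Spec
import Cfsg.Agent.H73.D8W0
import Cfsg.Agent.H95.CoreL0A
import Cfsg.Agent.H14.LBal
import Cfsg.Agent.H55.Basic
import Cfsg.Agent.H57.SLGen
import Cfsg.Agent.H84.Inv

/-! S3: the wrap of S3139. -/

set_option autoImplicit false
set_option linter.unusedSectionVars false

namespace H79.S3W

open Subgroup Cfsg H98 H1.Gold H85.S3

universe u

section
variable {H Q : Type u} [Group H] [Finite H] [Group Q] [Finite Q] {t : H}

theorem mk_ct (o : orderOf t = 2) (ψ : cen1 t →* Q) (od : Odd (Nat.card ψ.ker)) {L : Subgroup Q}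
    [L.Normal] (hL : Ty L) (ic : L ⊓ cen L = ⊥) (r : L ≤ ψ.range)
    (hc : ∀ P : Subgroup (cen1 t), IsPGroup 2 P → P.map ψ ≤ cen L → IsCyclic P) :
    ∃ A K, Ct t A K := by
  have inj := subtype_injective (cen1 t)
  have mem : ∀ (M : Subgroup Q) (x : cen1 t),
      (x : H) ∈ (M.comap ψ).map (cen1 t).subtype ↔ ψ x ∈ M := fun M x => mem_map_iff_mem inj
  have nr : ∀ (M : Subgroup Q) [M.Normal], cen1 t ≤ nor ((M.comap ψ).map (cen1 t).subtype) :=
    fun M _ => (normal_subgroupOf_iff_le_normalizer (map_subtype_le _)).1 (by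
      rw [subgroupOf, comap_map_eq_self_of_injective inj]; infer_instance)
  let A := (L.comap ψ).map (cen1 t).subtype
  let f : A →* L := (ψ.comp (inclusion (map_subtype_le _))).codRestrict L fun a =>
    (mem L ⟨a, map_subtype_le _ a.2⟩).1 a.2
  have fs : Function.Surjective f := fun l => by
    obtain ⟨x, hx⟩ := r l.2
    exact ⟨⟨x, (mem L x).2 (hx ▸ l.2)⟩, Subtype.ext hx⟩
  have fk : ∀ a : A, f a = 1 ↔ (a : H) ∈ ((cen L).comap ψ).map (cen1 t).subtype := fun a => by
    rw [mem (cen L) ⟨a, map_subtype_le _ a.2⟩, Subtype.ext_iff]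
    exact ⟨fun e => (show ψ _ = 1 from e) ▸ one_mem _, fun e => ic.le ⟨(f a).2, e⟩⟩
  obtain ⟨e⟩ := hL
  refine ⟨A, ((cen L).comap ψ).map (cen1 t).subtype, ⟨map_subtype_le _, map_subtype_le _, nr L,
    nr _, ?_, fun x hx k => (mem _ ⟨x, hx⟩).2 fun l hl => ?_,
    _, _, e.toMonoidHom.comp f, ⟨MulEquiv.refl _⟩, e.surjective.comp fs,
      fun a => e.map_eq_one_iff.trans (fk a)⟩,
    o, (mem _ ⟨t, mem_centralizer_singleton_iff.2 rfl⟩).2 fun l hl => ?_, fun P hP h2 => ?_⟩
  · rwa [← map_inf _ _ _ inj, ← comap_inf, ic, card_map_of_injective inj]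
  · obtain ⟨y, rfl⟩ := r hl
    have h1 := (mem _ (⟨x, hx⟩ * y * ⟨x, hx⟩⁻¹ * y⁻¹)).1 (k y ((mem L y).2 hl))
    rw [map_mul, map_mul, map_mul, map_inv, map_inv] at h1
    have h2 := ic.le (mem_inf.2 ⟨mul_mem (Normal.conj_mem ‹_› _ hl _) (inv_mem hl), h1⟩)
    rw [mem_bot, mul_inv_eq_one, mul_inv_eq_iff_eq_mul] at h2
    exact h2.symm
  · obtain ⟨y, rfl⟩ := r hl
    rw [← map_mul, ← map_mul]
    exact congrArg ψ (Subtype.ext (mem_centralizer_singleton_iff.1 y.2))
  · have le := hP.trans (map_subtype_le _)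
    have := hc (P.subgroupOf (cen1 t)) (isPGroup_subgroupOf h2 _) (by
      rintro _ ⟨x, hx, rfl⟩
      exact (mem _ x).1 (hP hx))
    exact isCyclic_of_surjective _ (subgroupOfEquivOfLe le).surjective

theorem solv (o : orderOf t = 2) (hc : ∀ P : Subgroup (cen1 t), IsPGroup 2 P → IsCyclic P) :
    Group.IsSolvable (⊤ : Subgroup H) := by
  have m : t ∈ cen1 t := mem_centralizer_singleton_iff.2 rfl
  obtain ⟨T, hT, le⟩ := exists_isSyl_le (isPGroup_zpowers (p := 2) (k := 1) (by rw [← o]; simp))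
    (zpowers_le.2 m)
  have cy : IsCyclic T :=
    have := hc (T.subgroupOf (cen1 t)) (isPGroup_subgroupOf hT.isPGroup _)
    isCyclic_of_surjective _ (subgroupOfEquivOfLe hT.le).surjective
  refine H95.L0.solvable_of_syl (isSyl_of_isSyl_normalizer ⟨le_inf le_top le_normalizer, hT.isPGroup,
    fun P hP a b => hT.eq_of_le hP a fun x hx => ?_⟩) cy
  have mt := le (mem_zpowers t)
  exact mem_centralizer_singleton_iff.2 (mul_inv_eq_iff_eq_mul.1
    (H84.eq_of_mem_isCyclic_of_orderOf_two cy ((mem_normalizer_iff.1 (b hx).2 t).1 mt) mt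
      (((MulAut.conj x).orderOf_eq t).trans o) o))

end

theorem red (hC : Core.{u}) {G : Type u} [Group G] [Finite G] {X : Subgroup G} {t : G} [X.Normal]
    (h1 : IsSimpleGroup X) (h2 : ¬ IsMulCommutative X) (h3 : cen X = ⊥) (o : orderOf t = 2)
    {Q : Type u} [Group Q] [Finite Q] (π : cen1 t →* Q) (sj : Function.Surjective π)
    (od : Odd (Nat.card π.ker)) {L : Subgroup Q} [L.Normal] (hL : Ty L) (ic : L ⊓ cen L = ⊥)
    (hc : ∀ P : Subgroup (cen1 t), IsPGroup 2 P → P.map π ≤ cen L → IsCyclic P) : Bd X := by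
  have hX := H73.D8W.as_sub h1 h2 h3 t
  set t1 : ↥(X ⊔ zpowers t) := ⟨t, mem_sup_right (mem_zpowers t)⟩
  have o1 : orderOf t1 = 2 := by rw [← o]; exact (orderOf_coe _).symm
  have e := (subgroupOfEquivOfLe (le_sup_left : X ≤ X ⊔ zpowers t)).symm
  let ι : cen1 t1 →* cen1 t := ((X ⊔ zpowers t).subtype.comp (cen1 t1).subtype).codRestrict _
    fun x => mem_centralizer_singleton_iff.2
      (congrArg Subtype.val (mem_centralizer_singleton_iff.1 x.2))
  have inj : Function.Injective ι := fun a b k =>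
    Subtype.ext (Subtype.ext (congrArg (fun z : cen1 t => (z : G)) k))
  have od1 : Odd (Nat.card (π.comp ι).ker) :=
    od.of_dvd_nat (card_comap_dvd_of_injective π.ker ι inj)
  have rg : ι.range = (X ⊔ zpowers t).subgroupOf (cen1 t) := by
    ext x
    exact ⟨fun ⟨y, k⟩ => k ▸ y.1.2, fun k => ⟨⟨⟨x, k⟩, mem_centralizer_singleton_iff.2
      (Subtype.ext (mem_centralizer_singleton_iff.1 x.2))⟩, rfl⟩⟩
  have nm : (π.comp ι).range.Normal := by
    rw [MonoidHom.range_comp, rg]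
    refine Normal.map ⟨fun x hx g => ?_⟩ π sj
    obtain ⟨y, hy, w, ⟨n, rfl⟩, k⟩ := mem_sup_of_normal_left.1 (mem_subgroupOf.1 hx)
    have cm : Commute (g : G) (t ^ n) :=
      (show Commute (g : G) t from mem_centralizer_singleton_iff.1 g.2).zpow_right _
    refine mem_subgroupOf.2 ?_
    change (g : G) * x * (g : G)⁻¹ ∈ _
    rw [← k, show (g : G) * (y * t ^ n) * (g : G)⁻¹ = g * y * (g : G)⁻¹ * (g * t ^ n * (g : G)⁻¹) by
      group, cm.eq, mul_inv_cancel_right]
    exact mul_mem (mem_sup_left (Normal.conj_mem ‹_› _ hy _)) (mem_sup_right ⟨n, rfl⟩)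
  have hc1 : ∀ P : Subgroup (cen1 t1), IsPGroup 2 P → P.map (π.comp ι) ≤ cen L → IsCyclic P :=
    fun P hP k =>
      have := hc (P.map ι) (hP.map ι) (by rwa [Subgroup.map_map])
      isCyclic_of_surjective _ (P.equivMapOfInjective ι inj).symm.surjective
  have r : L ≤ (π.comp ι).range := by
    have := H57.psl_isSimpleGroup_of_three_le (ι := Fin 3) (F := ZMod 3) (by simp)
    have := hL.some.isSimpleGroup
    rcases (inferInstance : ((π.comp ι).range.subgroupOf L).Normal).eq_bot_or_eq_top with k | k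
    · have := solv o1 fun P hP => hc1 P hP ((map_le_range _ _).trans
        (commutator_eq_bot_iff_le_centralizer.1 (le_bot_iff.1
          ((commutator_le_inf _ _).trans (subgroupOf_eq_bot.1 k).le_bot))))
      have := Group.isSolvable_of_surjective (f := (topEquiv (G := ↥(X ⊔ zpowers t))).toMonoidHom)
        topEquiv.surjective
      have := hX.simple
      exact absurd ⟨⟨IsSimpleGroup.comm_iff_isSolvable.2 inferInstance⟩⟩ hX.nab
    · exact subgroupOf_eq_top.1 k
  obtain ⟨A, K, c⟩ := mk_ct o1 (π.comp ι) od1 hL ic r hc1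
  exact fun k => hC _ _ _ A K hX c (Nat.card_congr e.toEquiv ▸ k)

theorem wrap (h : Core.{u}) {G : Type u} [Group G] [Finite G]
    (hF : IsSimpleGroup ↥(Cfsg.generalizedFittingSubgroup G)) (hF' : ¬ IsMulCommutative ↥(Cfsg.generalizedFittingSubgroup G))
    (t : G) (ht : orderOf t = 2) (L : Subgroup ↥(Subgroup.centralizer ({t} : Set G))) (hL : Cfsg.IsPComponent 2 L)
    {F : Type*} [Field F] [Fintype F] (hF3 : Fintype.card F = 3)
    (hLX : Nonempty ((↥L ⧸ Cfsg.oddCore ↥L) ≃* Matrix.ProjectiveSpecialLinearGroup (Fin 3) F))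
    (hc : ∀ P : Subgroup ↥(Subgroup.centralizer ({t} : Set G)), IsPGroup 2 ↥P →
      (∀ g ∈ P, ∀ l ∈ L, ∃ o ∈ Cfsg.oddCore ↥L, g * (l : ↥(Subgroup.centralizer ({t} : Set G))) * g⁻¹ = l * o) → IsCyclic ↥P) :
    ¬ 2 ^ 11 ∣ Nat.card ↥(Cfsg.generalizedFittingSubgroup G) := by
  have h3 := H99.Wr.AS.cen_eq (G := G) ⟨hF, hF'⟩
  have hc' : ∀ P : Subgroup (cen1 t), IsPGroup 2 P → ⁅L, P⁆ ≤ oddCore (cen1 t) → IsCyclic P :=
    fun P hP k => hc P hP fun g hg l hl => by
      have m : l⁻¹ * (g * l * g⁻¹) ∈ H14.opp 2 L := (H14.pcomp_opp_eq hL).ge ⟨k (by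
        simpa [commutatorElement_def, mul_assoc] using commutator_mem_commutator (inv_mem hl) hg),
        L.mul_mem (L.inv_mem hl) ((mem_normalizer_iff.1
          (H14.le_normalizer_pcomp_of_commutator_le hL k hg) l).1 hl)⟩
      obtain ⟨o, ho, e⟩ := m
      exact ⟨o, ho, by rw [show (o : cen1 t) = _ from e, mul_inv_cancel_left]⟩
  have nL : L.Normal := ⟨fun l hl g => by
    have hL' := H14.pcomp_map_mulEquiv hL (MulAut.conj g)
    rcases H14.pcomp_eq_or_commutator_le hL hL' with e | k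
    · exact e.ge (mem_map_of_mem _ hl)
    · obtain ⟨P, hP⟩ := exists_isSyl 2 (L.map (MulAut.conj g : cen1 t →* cen1 t))
      exact absurd le_rfl (H14.pcomp_not_le_solvable hL' (H95.L0.solvable_of_syl hP
        (hc' P hP.isPGroup ((commutator_mono le_rfl hP.le).trans k))))⟩
  have sj := QuotientGroup.mk'_surjective (oddCore (cen1 t))
  have := nL.map _ sj
  have ty : Ty (L.map (H14.pq 2 (cen1 t))) := ⟨(H14.pcompEquiv hL).symm.trans (hLX.some.trans
    (H55.pslCongr (FiniteField.ringEquivOfCardEq (by rw [hF3, ZMod.card]))))⟩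
  refine red h hF hF' h3 ht _ sj (by rw [QuotientGroup.ker_mk']; exact H2.odd_card_oddCore _) ty ?_
    fun P hP k => hc' P hP ?_
  · have := H57.psl_isSimpleGroup_of_three_le (ι := Fin 3) (F := ZMod 3) (by simp)
    have := ty.some.isSimpleGroup
    rw [cen, ← H14.map_center_subtype, H73.D8W.center_eq_bot fun k =>
      H14.quasi_sub_commutator_ne_bot (H14.pcomp_comp_map hL).2 ?_, Subgroup.map_bot]
    exact commutator_eq_bot_iff_le_centralizer.2 fun a ha b hb =>
      congrArg Subtype.val (k.1.1 ⟨b, hb⟩ ⟨a, ha⟩)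
  · rw [← QuotientGroup.ker_mk' (oddCore (cen1 t)), ← Subgroup.map_eq_bot_iff, map_commutator,
      commutator_comm]
    exact commutator_eq_bot_iff_le_centralizer.2 k

end H79.S3W
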