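import Cfsg.Agent.H5.SqFree
import Cfsg.Agent.H18.Elt

/-! Solvable groups in which every primary element has square-free class size. -/

set_option autoImplicit false
set_option linter.dupNamespace false

open Cfsg Subgroup
open scoped commutatorElement

universe u

namespace H79.SF

/-- Every element of prime-power order has a class of square-free size. -/
def SF (G : Type*) [Group G] : Prop :=
  ∀ x : G, (∃ (r : ℕ) (k : ℕ), r.Prime ∧ orderOf x = r ^ k) →
    Squarefree (centralizer ({x} : Set G)).index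

variable {G : Type*} [Group G] [Finite G]

theorem SF.surj {H : Type*} [Group H] (h : SF G) (f : G →* H) (hf : Function.Surjective f) :
    SF H := by
  rintro y ⟨r, k, hr, hk⟩
  obtain ⟨x, rfl, j, hj⟩ := H18.exists_lift_primePow f hf hr ⟨k, hk⟩
  exact (h x ⟨r, j, hr, hj⟩).squarefree_of_dvd (H18.index_centralizer_map_dvd f hf x)

theorem SF.quot (h : SF G) (N : Subgroup G) [N.Normal] : SF (G ⧸ N) :=
  h.surj _ (QuotientGroup.mk'_surjective N)

theorem SF.normal (h : SF G) (N : Subgroup G) [N.Normal] : SF N := by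
  rintro y ⟨r, k, hr, hk⟩
  exact (h y ⟨r, k, hr, by rw [← hk, Subgroup.orderOf_coe]⟩).squarefree_of_dvd
    (H18.index_centralizer_normal_dvd N y)

omit [Finite G] in
theorem SF.not_sq (h : SF G) {x : G} {r k : ℕ} (hr : r.Prime) (hk : orderOf x = r ^ k) {p : ℕ}
    (hp : p.Prime) : ¬ p ^ 2 ∣ H4.ind x := fun hd =>
  hp.one_lt.ne' (Nat.isUnit_iff.mp (h x ⟨r, k, hr, hk⟩ p (by rwa [← pow_two])))

/-- Minimal normal subgroups have prime order. -/
theorem card_min_normal [Group.IsSolvable G] (h : SF G) {N : Subgroup G} [N.Normal] {p : ℕ}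
    (hp : p.Prime) (hc : IsMulCommutative N) (he : ∀ x ∈ N, x ^ p = 1)
    (hm : ∀ K : Subgroup G, K.Normal → K ≤ N → K = ⊥ ∨ K = N) : Nat.card N ∣ p := by
  have := Fact.mk hp
  have hNC : N ≤ centralizer (N : Set G) := fun a ha => mem_centralizer_iff.mpr fun b hb =>
    congrArg Subtype.val (hc.is_comm.comm ⟨b, hb⟩ ⟨a, ha⟩)
  have hP : IsPGroup p N := fun x => ⟨1, Subtype.ext (by simpa using he x x.2)⟩
  by_cases hC : centralizer (N : Set G) = ⊤
  · by_cases hN : N = ⊥
    · simp [hN]
    obtain ⟨x, hx, hx1⟩ := (N.bot_or_exists_ne_one).resolve_left hN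
    have hn : (zpowers x).Normal := ⟨fun y hy g => by
      have h1 : g ∈ centralizer (N : Set G) := hC ▸ mem_top g
      rw [← mem_centralizer_iff.mp h1 y (zpowers_le.mpr hx hy), mul_inv_cancel_right]
      exact hy⟩
    rcases hm _ hn (zpowers_le.mpr hx) with h1 | h1
    · exact absurd (zpowers_eq_bot.mp h1) hx1
    · rw [← h1, Nat.card_zpowers]
      exact orderOf_dvd_of_pow_eq_one (he x hx)
  set C := centralizer (N : Set G) with hCdef
  have hnt : (⊤ : Subgroup (G ⧸ C)) ≠ ⊥ := fun e => hC (by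
    rw [eq_top_iff]
    intro g _
    have : (QuotientGroup.mk g : G ⧸ C) ∈ (⊥ : Subgroup (G ⧸ C)) := e ▸ mem_top _
    exact (QuotientGroup.eq_one_iff g).mp (mem_bot.mp this))
  obtain ⟨M, q, hMn, hM0, -, hq, -, hMe, -⟩ := H4.exists_minimal_normal_elemab (⊤ : Subgroup (G ⧸ C)) hnt
  set Γ := M.comap (QuotientGroup.mk' C) with hΓ
  have hΓC : ¬ Γ ≤ C := fun hle => hM0 (by
    rw [eq_bot_iff]
    intro y hy
    obtain ⟨g, rfl⟩ := QuotientGroup.mk'_surjective C y
    exact mem_bot.mpr ((QuotientGroup.eq_one_iff g).mpr (hle hy)))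
  have hi : ∀ g ∈ Γ, (centralizer ({g} : Set G)).relIndex N ∣ p := fun g hg => by
    obtain ⟨x, hx, j, hj⟩ := H18.exists_lift_primePow (QuotientGroup.mk' C)
      (QuotientGroup.mk'_surjective C) hq (y := QuotientGroup.mk' C g)
      ((H18.exists_orderOf_eq_pow_iff hq).mpr ⟨1, by simpa using hMe _ hg⟩)
    have h1 : x⁻¹ * g ∈ C := QuotientGroup.eq.mp hx
    have h2 := H5.relIndex_cent_dvd hP (h.not_sq hq hj hp)
    refine dvd_trans ?_ h2
    rw [← inf_relIndex_right (centralizer ({x} : Set G))]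
    refine relIndex_dvd_of_le_left N fun y hy => H4.mem_cent_iff.mpr ?_
    have h3 : y * x = x * y := H4.mem_cent_iff.mp hy.1
    have h4 : y * (x⁻¹ * g) = x⁻¹ * g * y := mem_centralizer_iff.mp h1 y hy.2
    calc y * g = y * x * (x⁻¹ * g) := by group
      _ = x * (y * (x⁻¹ * g)) := by rw [h3]; group
      _ = _ := by rw [h4]; group
  rcases H5.rank_one_dich hp N Γ (fun g _ y hy => by
    have : ⁅y, g⁆ ∈ N := commutator_le_left N ⊤ (commutator_mem_commutator hy (mem_top g))
    exact ⟨this, hNC this⟩) hi with ⟨L, h1, h2⟩ | ⟨H, h1, h2⟩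
  · rcases hm ⁅N, Γ⁆ inferInstance (commutator_le_left N Γ) with h3 | h3
    · exact absurd (le_centralizer_iff.mp (commutator_eq_bot_iff_le_centralizer.mp h3)) hΓC
    · exact (card_dvd_of_le (h3 ▸ h2)).trans h1
  · rcases hm (N ⊓ centralizer (Γ : Set G)) inferInstance inf_le_left with h3 | h3
    · rw [h3, le_bot_iff] at h2
      rwa [h2, relIndex_bot_left] at h1
    · exact absurd (le_centralizer_iff.mp (h3 ▸ inf_le_right)) hΓC

/-- The verbal subgroup `G' G^m`. -/
def Kv (G : Type*) [Group G] (m : ℕ) : Subgroup G :=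
  commutator G ⊔ normalClosure (Set.range fun x : G => x ^ m)

instance (m : ℕ) : (Kv G m).Normal := by unfold Kv; infer_instance

theorem main (n : ℕ) : ∀ (G : Type u) [Group G] [Finite G] [Group.IsSolvable G], Nat.card G = n →
    SF G → ∀ m : ℕ, (∀ d : ℕ, Squarefree d → d ∣ Nat.card G → d ∣ m) →
    IsSupersolvable G ∧ Group.IsNilpotent (Kv G m) := by
  induction n using Nat.strong_induction_on with
  | _ n ih =>
  intro G _ _ _ hn h m hm
  by_cases h0 : (⊤ : Subgroup G) = ⊥
  · have : Subsingleton G := ⟨fun a b => by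
      rw [mem_bot.mp (h0 ▸ mem_top a : a ∈ (⊥ : Subgroup G)),
        mem_bot.mp (h0 ▸ mem_top b : b ∈ (⊥ : Subgroup G))]⟩
    exact ⟨H5.isSupersolvable_of_isNilpotent, inferInstance⟩
  obtain ⟨N, p, hNn, hN0, -, hp, hc, he, hmin⟩ := H4.exists_minimal_normal_elemab (⊤ : Subgroup G) h0
  have := Fact.mk hp
  have hN := card_min_normal h hp hc he hmin
  have hcyc : IsCyclic N := isCyclic_of_card_dvd_prime hN
  have hlt : Nat.card (G ⧸ N) < n := by
    rw [← hn, card_eq_card_quotient_mul_card_subgroup N]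
    exact lt_mul_of_one_lt_right Nat.card_pos ((one_lt_card_iff_ne_bot N).mpr hN0)
  obtain ⟨i1, i2⟩ := ih _ hlt (G ⧸ N) rfl (h.quot N) m fun d h1 h2 =>
    hm d h1 (h2.trans (card_quotient_dvd_card N))
  refine ⟨H5.isSupersolvable_of_cyclic_normal N i1, ?_⟩
  have hK : Kv G m ≤ centralizer (N : Set G) := by
    refine sup_le (H5.commutator_le_centralizer_of_isCyclic N) (normalClosure_le_normal ?_)
    rintro _ ⟨x, rfl⟩
    obtain ⟨v, hv⟩ := (Subgroup.isCyclic_iff_exists_zpowers_eq_top _).1 hcyc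
    have hvN : v ∈ N := hv ▸ mem_zpowers v
    have e : centralizer (N : Set G) = centralizer ({v} : Set G) := by
      refine le_antisymm (centralizer_le (by simpa using hvN)) fun g hg => ?_
      refine mem_centralizer_iff.mpr fun y hy => ?_
      rw [← hv] at hy
      obtain ⟨k, rfl⟩ := mem_zpowers_iff.mp hy
      exact (Commute.zpow_right (H4.mem_cent_iff.mp hg) k).symm
    obtain ⟨k, hk⟩ := (H18.exists_orderOf_eq_pow_iff hp).mpr ⟨1, by simpa using he v hvN⟩
    obtain ⟨c, hc⟩ := hm _ (h v ⟨p, k, hp, hk⟩) (index_dvd_card _)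
    rw [← e] at hc
    show x ^ m ∈ centralizer (N : Set G)
    rw [hc, pow_mul]
    exact pow_mem (pow_index_mem _ x) c
  have hmap : ∀ x ∈ Kv G m, QuotientGroup.mk' N x ∈ Kv (G ⧸ N) m := by
    have : Kv G m ≤ (Kv (G ⧸ N) m).comap (QuotientGroup.mk' N) := by
      refine sup_le ?_ (normalClosure_le_normal ?_)
      · rw [← map_le_iff_le_comap, map_commutator_eq]
        exact le_sup_of_le_left (commutator_mono le_top le_top)
      · rintro _ ⟨x, rfl⟩
        exact mem_sup_right (subset_normalClosure ⟨QuotientGroup.mk' N x, (map_pow _ _ _).symm⟩)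
    exact fun x hx => this hx
  refine Subgroup.isNilpotent_of_ker_le_center (((QuotientGroup.mk' N).comp (Kv G m).subtype).codRestrict _
    fun x => hmap x x.2) (fun x hx => mem_center_iff.mpr fun g => Subtype.ext ?_)
  have h1 : (x : G) ∈ N := (QuotientGroup.eq_one_iff _).mp (congrArg Subtype.val hx)
  exact (mem_centralizer_iff.mp (hK g.2) x h1).symm

theorem comm_sqfree [Group.IsNilpotent G] (h : SF G) : Squarefree (Nat.card (commutator G)) := by
  refine Nat.squarefree_iff_prime_squarefree.mpr fun p hp hd => ?_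
  have := Fact.mk hp
  have hO := H2.pPrimeCore_quotient_pPrimeCore p G
  have hP : pCore p (G ⧸ pPrimeCore p G) = ⊤ := by
    rw [← H2.fitting_eq_pCore_of_pPrimeCore_eq_bot hO]
    exact H2.fitting_eq_top_of_isNilpotent _
  have key : Nat.card ((commutator G).map (QuotientGroup.mk' (pPrimeCore p G))) ∣ p := by
    rw [map_commutator_eq, MonoidHom.range_eq_top.mpr (QuotientGroup.mk'_surjective _)]
    refine H5.card_commutator_dvd (fun y => ?_) hO
    obtain ⟨k, hk⟩ := H2.pCore_isPGroup p (G ⧸ pPrimeCore p G) ⟨y, hP ▸ mem_top y⟩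
    obtain ⟨j, hj⟩ := (H18.exists_orderOf_eq_pow_iff hp).mpr ⟨k, congrArg Subtype.val hk⟩
    exact (h.quot _).not_sq hp hj hp
  rw [H4.card_eq_card_map_mul_card_inf _ (pPrimeCore p G), mul_comm (Nat.card _), ← pow_two] at hd
  have h3 : ¬ p ∣ Nat.card (pPrimeCore p G ⊓ commutator G : Subgroup G) := fun h4 =>
    H2.not_dvd_card_pPrimeCore p G (h4.trans (card_dvd_of_le inf_le_left))
  have h4 := (Nat.Coprime.pow_left 2 ((Nat.Prime.coprime_iff_not_dvd hp).mpr h3)).dvd_of_dvd_mul_left hd
  have h5 := Nat.le_of_dvd hp.pos (h4.trans key)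
  have := hp.one_lt
  nlinarith

/-- The structure theorem for solvable groups. -/
theorem partB [Group.IsSolvable G] (h : SF G) :
    IsSupersolvable G ∧ derivedSeries G 3 = ⊥ ∧
    (∀ _h : (fittingSubgroup G).Normal, IsMulCommutative (G ⧸ fittingSubgroup G) ∧
      Squarefree (Monoid.exponent (G ⧸ fittingSubgroup G))) ∧
    Squarefree (Nat.card (commutator ↥(fittingSubgroup G))) := by
  obtain ⟨h1, h2⟩ := main _ G rfl h (UniqueFactorizationMonoid.radical (Nat.card G)) fun d hd hd' =>
    (UniqueFactorizationMonoid.dvd_radical_iff hd.isRadical Nat.card_pos.ne').mpr hd'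
  have hK := H2.le_fitting (Kv G (UniqueFactorizationMonoid.radical (Nat.card G)))
  have hF := H2.fitting_normal G
  have hN := H2.fitting_isNilpotent G
  have h3 := comm_sqfree (h.normal (fittingSubgroup G))
  have h4 : commutator G ≤ fittingSubgroup G := le_sup_left.trans hK
  refine ⟨h1, ?_, fun _ => ⟨Normal.quotient_commutative_iff_commutator_le.mpr h4, ?_⟩, h3⟩
  · have hz := IsZGroup.of_squarefree h3
    have hc : IsCyclic (commutator ↥(fittingSubgroup G)) := inferInstance
    have e1 : derivedSeries G 2 ≤ (commutator ↥(fittingSubgroup G)).map (fittingSubgroup G).subtype := by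
      rw [map_commutator_eq, range_subtype]
      exact commutator_mono h4 h4
    rw [eq_bot_iff]
    refine (commutator_mono e1 e1).trans (commutator_le.mpr ?_)
    rintro _ ⟨a, ha, rfl⟩ _ ⟨b, hb, rfl⟩
    refine mem_bot.mpr (commutatorElement_eq_one_iff_mul_comm.mpr ?_)
    exact congrArg (fun z : commutator ↥(fittingSubgroup G) => ((z : fittingSubgroup G) : G))
      (hc.isMulCommutative.is_comm.comm ⟨a, ha⟩ ⟨b, hb⟩)
  · refine UniqueFactorizationMonoid.squarefree_radical.squarefree_of_dvd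
      (Monoid.exponent_dvd_of_forall_pow_eq_one (n := UniqueFactorizationMonoid.radical (Nat.card G))
        fun y => ?_)
    obtain ⟨x, rfl⟩ := QuotientGroup.mk_surjective y
    rw [← QuotientGroup.mk_pow, QuotientGroup.eq_one_iff]
    exact hK (mem_sup_right (subset_normalClosure ⟨x, rfl⟩))

end H79.SF
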