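import Cfsg.Agent.H79.STSzA

/-! STD-S (row S3095), slot SuzH: the structure of `K = C(z) = 2^(1+6).U₄(2)`. -/

set_option autoImplicit false
set_option maxRecDepth 100000
set_option synthInstance.maxSize 4000
set_option synthInstance.maxHeartbeats 400000

namespace H79.STSz

open H71 H81 H88 H80.KFSuz H25.ST H64.SG Subgroup
open H67.SA (cm)

noncomputable abbrev z : K := ec [29]
noncomputable abbrev f : K := ec [30]
noncomputable abbrev e : K := ec [37, 37]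
noncomputable abbrev x : K := ec [46]
noncomputable abbrev f' : K := ec [30, 31, 32, 33]
noncomputable abbrev h1 : K := ec [35, 34, 31, 33]
noncomputable abbrev h2 : K := ec [32, 33]
noncomputable abbrev i1 : K := ec [35, 32]
noncomputable abbrev i2 : K := ec [34, 30, 33]

theorem zc (g : K) : z * g = g * z := Subtype.ext (by
  simp only [coe_mul, ec_val]; exact mem_Cz.1 g.2)

theorem zz : z * z = 1 := by decide +kernel

/-- the extraspecial group -/
noncomputable abbrev Q : Subgroup K := gen u SQa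

theorem Q_nor : (⊤ : Subgroup K) ≤ Ns Q := gen_top ▸ gen_le_norm (R := Rna)
  (by decide +kernel : ∀ e ∈ Rna, ec e.1 = ec e.2) (by decide +kernel)

theorem Q_conj {y : K} (h : y ∈ Q) (g : K) : g * y * g⁻¹ ∈ Q :=
  H98.conj_mem_of_mem_normalizer (Q_nor (mem_top g)) h

theorem ec_Q {w : List ℕ} (h : ∀ l ∈ w, l ∈ SQa) : ec w ∈ Q := evw_mem fun l hl => mem_gen u (h l hl)

theorem e_Q : e ∈ Q := by
  rw [show e = ec [35, 34, 30, 31, 32, 33] by decide +kernel]; exact ec_Q (by decide)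

def AQ : Sl := ⟨SQa, [[], [35], [34], [35, 34]], [[(1, []), (0, []), (3, []), (2, [])],
  [(2, []), (3, []), (0, []), (1, [])], [(0, [33]), (1, [33, 29]), (2, [33, 29]), (3, [33])],
  [(0, [32]), (1, [32]), (2, [32, 29]), (3, [32, 29])], [(0, [31]), (1, [31]), (2, [31]), (3, [31])],
  [(0, [30]), (1, [30]), (2, [30, 29]), (3, [30, 29])], [(0, [29]), (1, [29]), (2, [29]), (3, [29])]]⟩

noncomputable def QW : List (List ℕ) := prods [AQ, AT2, AT3]

theorem Q_all {P : K → Prop} (h : ∀ w ∈ QW, P (ec w)) {y : K} (hy : y ∈ Q) : P y := by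
  obtain ⟨w, hw, rfl⟩ := elems_prods (val := u) [AQ, AT2, AT3]
    (by decide +kernel : ∀ e ∈ [AQ, AT2, AT3].flatMap schR, ec e.1 = ec e.2) (by decide +kernel) y hy
  exact h w hw

theorem Q_two : IsPGroup 2 Q := fun ⟨y, hy⟩ => ⟨2, Subtype.ext
  (Q_all (P := fun y => y ^ 2 ^ 2 = 1) (by decide +kernel) hy)⟩

def CL : List (List ℕ) := [[], [33], [40], [42], [43], [47], [48], [49], [50], [52], [53], [57], [58],
  [45, 47], [43, 42], [50, 49], [58, 42], [49, 42], [43, 40], [36, 43], [38, 43], [42, 33], [53, 43],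
  [36, 42], [47, 40], [43, 43], [47, 42], [46, 49], [47, 48], [53, 42], [42, 47], [49, 40], [45, 43],
  [51, 40], [42, 40], [50, 53], [50, 33], [47, 33], [43, 33], [50, 40], [46, 42], [49, 33], [50, 47],
  [46, 40], [48, 33], [44, 47], [40, 47], [39, 43], [48, 40], [40, 33], [50, 43], [38, 42], [43, 47],
  [45, 40]]

/-- the non-central involutions of `Q` are conjugate -/
theorem Q_inv {y : K} (hy : y ∈ Q) (h : y * y = 1) (h1 : y ≠ 1) (h2 : y ≠ z) : ∃ c, y = c * f * c⁻¹ := by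
  obtain ⟨c, -, k⟩ := Q_all (P := fun y => y * y = 1 → y ≠ 1 → y ≠ z → ∃ c ∈ CL, y * ec c = ec c * f)
    (by decide +kernel) hy h h1 h2
  exact ⟨_, eq_mul_inv_of_mul_eq k⟩

/-- commuting modulo `z` -/
def M (a b : K) : Prop := a * b * a⁻¹ = b ∨ a * b * a⁻¹ = z * b

theorem M.of {a b : K} (h : a * b = b * a ∨ a * b = z * b * a) : M a b :=
  h.imp mul_inv_eq_iff_eq_mul.2 mul_inv_eq_iff_eq_mul.2

theorem cz' (a b : K) : a * (z * b) * a⁻¹ = z * (a * b * a⁻¹) := by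
  rw [← mul_assoc, ← zc]; simp only [mul_assoc]

theorem S_e {s : K} (hs : s ∈ gen u ST) : M s e := by
  induction hs using closure_induction with
  | mem s hs =>
    obtain ⟨l, hl, rfl⟩ := hs
    simpa [ec] using M.of ((by decide +kernel : ∀ l ∈ H80.KFSuz.ST, ec [l] * e = e * ec [l] ∨
      ec [l] * e = z * e * ec [l]) l hl)
  | one => exact .inl (by simp)
  | mul a b _ _ ha hb =>
    rw [M, show a * b * e * (a * b)⁻¹ = a * (b * e * b⁻¹) * a⁻¹ by group]
    rcases hb with k | k <;> rw [k]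
    · exact ha
    · rw [cz']; exact ha.symm.imp (fun k => by rw [k, ← mul_assoc, zz, one_mul]) fun k => by rw [k]
  | inv a _ ha =>
    refine ha.imp (fun k => ?_) fun k => ?_
    · nth_rw 1 [← k]; group
    · have := congrArg (fun y => z * (a⁻¹ * y * a⁻¹⁻¹)) k
      simp only [cz', ← mul_assoc z, zz, one_mul] at this
      rw [← this]; group

theorem syl : H98.IsSyl 2 (gen u ST) ⊤ := by
  have : Fact (Nat.Prime 2) := ⟨Nat.prime_two⟩
  have c : Nat.card (gen u ST) = 2 ^ 13 := by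
    rw [← cardT, ← map_gen_u (by decide), card_map_of_injective σ_inj]
  refine H98.isSyl_of_not_dvd_relIndex le_top (IsPGroup.of_card c) ?_
  have := (gen u ST).card_mul_index
  rw [c, card_K] at this
  rw [relIndex_top_right, show (gen u ST).index = 405 by omega]; decide

theorem core : Cfsg.pCoreOf 2 (⊤ : Subgroup K) = Q := by
  have le := H98.le_pCoreOf Q_two le_top Q_nor
  refine le_antisymm (fun g hg => ?_) le
  have m : ∀ t ∈ Cfsg.pCoreOf 2 (⊤ : Subgroup K), ∀ c y : K, c * e = y * c → M t y := fun t ht c y k => by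
    have := S_e (syl.pCoreOf_le (H98.conj_mem_of_mem_normalizer
      (H98.self_le_normalizer_pCoreOf _ (mem_top c⁻¹)) ht))
    rw [← mul_inv_eq_iff_eq_mul.2 k]
    refine this.imp (fun k => ?_) fun k => ?_
    · nth_rw 2 [← k]; group
    · rw [← cz', ← k]; group
  obtain ⟨a, ha, r, hr, rfl⟩ := sch_step (val := u) (s := AT0) (C := [AT1, AT2, AT3])
    (by decide +kernel : ∀ e ∈ schR AT0, ec e.1 = ec e.2) oCT g (syl.pCoreOf_le hg)
  obtain ⟨b, hb, r', hr', rfl⟩ := sch_step (val := u) (s := AT1) (C := [AT2, AT3])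
    (by decide +kernel : ∀ e ∈ schR AT1, ec e.1 = ec e.2) (by decide +kernel) r hr
  have hr : r' ∈ Q := gen_mono u (S := AT2.S) (by decide) hr'
  rw [← mul_assoc] at hg ⊢
  refine mul_mem ?_ hr
  have ht := (mul_mem_cancel_right (le hr)).1 hg
  have k1 := m _ ht (ec [49]) (ec [35, 29]) (by decide +kernel)
  have k2 := m _ ht (ec [48]) (ec [31, 33, 29]) (by decide +kernel)
  simp only [M, mul_inv_eq_iff_eq_mul] at k1 k2
  obtain ⟨w, hw, k⟩ := (by decide +kernel : ∀ a ∈ AT0.T, ∀ b ∈ AT1.T,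
    (ec a * ec b * ec [35, 29] = ec [35, 29] * (ec a * ec b) ∨
      ec a * ec b * ec [35, 29] = z * ec [35, 29] * (ec a * ec b)) →
    (ec a * ec b * ec [31, 33, 29] = ec [31, 33, 29] * (ec a * ec b) ∨
      ec a * ec b * ec [31, 33, 29] = z * ec [31, 33, 29] * (ec a * ec b)) →
    ∃ w ∈ [[], [35], [34], [35, 34, 30, 31, 32, 33]], ec a * ec b = ec w) a ha b hb k1 k2
  exact (show evw u a * evw u b = ec w from k) ▸ ec_Q ((by decide : ∀ w ∈ [[], [35], [34],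
    [35, 34, 30, 31, 32, 33]], ∀ l ∈ w, l ∈ SQa) w hw)

theorem cenQ {g : K} (h : g ∈ Cs Q) : g = 1 ∨ g = z := by
  have c : H98.CharP 2 (⊤ : Subgroup K) := H98.CharP.of_map_injective σ_inj (map_top ▸ chpa)
  rw [H98.CharP, core] at c
  exact Q_all (P := fun y => (∀ l ∈ SQa, ec [l] * y = y * ec [l]) → y = 1 ∨ y = z) (by decide +kernel)
    (c ⟨mem_top g, h⟩) fun l hl => h _ (ec_Q (by simpa using hl))

theorem aut_Q (γ : MulAut K) {y : K} (h : y ∈ Q) : γ y ∈ Q := by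
  rw [← core] at h ⊢
  rwa [← mp_top γ, ← mp_pCoreOf, map_mem_mp]

theorem K_perf : (⊤ : Subgroup K) ≤ ⁅(⊤ : Subgroup K), (⊤ : Subgroup K)⁆ := by
  have : Subgroup.closure {x, ec [40, 60]} = ⊤ := eq_top_iff.2 (gen_top ▸ gen_le_sub
    (L := [[46], [40, 60]]) (Ws := [[1, 1, 1, 1, 0, 0, 0, 0, 1, 0, 1, 1, 1, 1, 1, 0, 1, 1, 1, 0, 1],
      [0, 1, 1, 0, 0, 1, 0, 1, 1, 0, 0, 1, 1, 1, 1, 0, 1, 0, 0, 0],
      [0, 1, 0, 0, 0, 1, 1, 1, 1, 1, 1, 0, 0, 1, 1, 1, 0, 0, 0, 1, 1, 0],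
      [1, 1, 0, 1, 0, 1, 0, 1, 1, 1, 0, 0, 1, 1, 0, 1, 0, 1, 1, 1, 0], [0],
      [1, 0, 0, 1, 0, 0, 1, 0, 0, 1, 0, 0],
      [1, 0, 0, 1, 1, 1, 1, 0, 0, 0, 1, 1, 0, 1, 1, 1, 1, 0, 0, 0, 0, 1],
      [1, 1, 0, 1, 1, 1, 1, 0, 0, 1, 1, 1, 1, 0, 0, 1, 1], [0, 1, 1, 1, 1, 0, 0, 0, 0, 1, 1, 1, 1],
      [0, 0, 1, 0, 0, 1, 0, 0, 1, 0, 1, 1, 1, 1, 0, 1], [1, 0, 0, 1, 1, 1, 1, 1, 0, 0, 1, 0, 0, 1, 0, 0],
      [1, 1, 0, 1, 1, 1, 1, 0, 0, 0, 0, 1, 1, 1, 1, 1, 1]])
    (by simp only [List.forall_mem_cons]; exact ⟨subset_closure (by simp), subset_closure (by simp),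
      by simp⟩) (by decide +kernel))
  rw [← this]
  exact perf2 (m := 5) (n := 8) (k := 9) (by decide +kernel) (by decide +kernel) (by decide +kernel)
    (by decide) (by decide)

theorem fix_of {G : Type*} [Group G] {γ : MulAut G} {c y : G} (e : c * y = γ y * c) :
    ((MulAut.conj c)⁻¹ * γ) y = y := by
  rw [MulAut.mul_apply, MulAut.conj_inv_apply, mul_assoc, ← e, inv_mul_cancel_left]

theorem inn_of {G : Type*} [Group G] {γ : MulAut G} {c : G} (h : Inn ((MulAut.conj c)⁻¹ * γ)) :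
    Inn γ := by simpa using (inn_conj c).mul h

theorem inn4 (γ : MulAut K) (a1 : γ f = f) (a2 : γ f' = f') (a3 : γ e = e) (a4 : γ x = x) : Inn γ := by
  have hQ : Q ≤ fx γ := gen_le_sub (L := [[30], [30, 31, 32, 33], [37, 37], [46]])
    (Ws := [[2, 3, 3, 2, 3, 3, 3, 2, 0], [3, 3, 2, 3, 3, 3, 2, 1, 0], [3, 3, 3, 2, 3, 3, 2, 1, 0],
      [3, 2, 3, 3, 3, 3, 2], [3, 2, 3, 3, 2, 3, 3, 1, 0, 1, 0], [0], [1, 0, 1, 0]])
    (by simp only [List.forall_mem_cons]; exact ⟨a1, a2, a3, a4, by simp⟩) (by decide +kernel)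
  have c : ∀ g ∈ Cs Q, ∀ y, y * g = g * y := fun g hg y => by
    rcases cenQ hg with rfl | rfl
    exacts [by simp, (zc y).symm]
  have := le_fx_of_perf hQ Q_nor K_perf (fun g hg y _ => c g hg y) fun g hg y _ => c g hg y
  rw [show γ = 1 from MulEquiv.ext fun y => this (mem_top y)]
  exact inn_one

theorem inn3 (γ : MulAut K) (a1 : γ f = f) (a2 : γ f' = f') (a4 : γ x = x) : Inn γ := by
  obtain ⟨i, -, k⟩ := Q_all (P := fun y => y * y = 1 → y * f = f * y → y * f' = f' * y →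
    y * x ≠ x * y → (y * x) ^ 5 = 1 → ∃ i ∈ List.range 5, x ^ i * e = y * x ^ i) (by decide +kernel)
    (aut_Q γ e_Q) (by rw [← map_mul, show e * e = 1 by decide +kernel, map_one])
    (by rw [← a1, ← map_mul, ← map_mul]; exact congrArg γ (by decide +kernel))
    (by rw [← a2, ← map_mul, ← map_mul]; exact congrArg γ (by decide +kernel))
    (by rw [← a4, ← map_mul, ← map_mul]; exact γ.injective.ne (by decide +kernel))
    (by rw [← a4, ← map_mul, ← map_pow, show (e * x) ^ 5 = 1 by decide +kernel, map_one])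
  have c : ∀ y, x * y = y * x → γ y = y → ((MulAut.conj (x ^ i))⁻¹ * γ) y = y := fun y h1 h2 =>
    fix_of (h2.symm ▸ (Commute.pow_left h1 i).eq)
  exact inn_of (inn4 _ (c _ (by decide +kernel) a1) (c _ (by decide +kernel) a2) (fix_of k) (c _ rfl a4))

theorem inn2 (γ : MulAut K) (a1 : γ f = f) (a4 : γ x = x) : Inn γ := by
  obtain ⟨w, -, k1, k2, k3⟩ := Q_all (P := fun y => y * y = 1 → y * x = x * y → y * f ≠ f * y →
    ∃ w ∈ [[], [30]], ec w * f' = y * ec w ∧ ec w * f = f * ec w ∧ ec w * x = x * ec w)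
    (by decide +kernel) (aut_Q γ (y := f') (ec_Q (by decide)))
    (by rw [← map_mul, show f' * f' = 1 by decide +kernel, map_one])
    (by rw [← a4, ← map_mul, ← map_mul]; exact congrArg γ (by decide +kernel))
    (by rw [← a1, ← map_mul, ← map_mul]; exact γ.injective.ne (by decide +kernel))
  exact inn_of (inn3 _ (fix_of (a1.symm ▸ k2)) (fix_of k1) (fix_of (a4.symm ▸ k3)))

/-- the elements of `E` modulo `z` -/
def EL : List (List ℕ) := [[], [30], [37, 37], [37, 37, 30], [36], [36, 30], [36, 37, 37], [36, 37, 37, 30]]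

theorem inE {g : K} (hg : ∀ w ∈ [[30], [37, 37], [35, 32], [34, 30, 33]], g * ec w = ec w * g) :
    ∃ w ∈ EL, g = ec w ∨ g = ec w * z := by
  let γ := MulAut.conj g
  simp only [List.forall_mem_cons, ← mul_inv_eq_iff_eq_mul] at hg
  obtain ⟨a1 : γ f = f, a2 : γ e = e, a3 : γ i1 = i1, a4 : γ i2 = i2, -⟩ := hg
  have p : ∀ {a b : K}, γ b = b → (γ a * b = b * γ a ↔ a * b = b * a) := fun {a b} h => by
    nth_rw 1 [← h]; nth_rw 2 [← h]; rw [← map_mul, ← map_mul, γ.injective.eq_iff]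
  have q : ∀ {a : K}, a * a = 1 → γ a * γ a = 1 := fun h => by rw [← map_mul, h, map_one]
  obtain ⟨w, hw, k1, k2⟩ := Q_all (P := fun y₂ => y₂ * y₂ = 1 → y₂ * i1 = i1 * y₂ → y₂ * i2 = i2 * y₂ →
      y₂ * e = e * y₂ → y₂ * f ≠ f * y₂ → γ h1 * y₂ = y₂ * γ h1 →
      ∃ w ∈ EL, ec w * h1 = γ h1 * ec w ∧ ec w * h2 = y₂ * ec w)
    (Q_all (P := fun y₁ => y₁ * y₁ = 1 → y₁ * i1 = i1 * y₁ → y₁ * i2 = i2 * y₁ → y₁ * f = f * y₁ →
      y₁ * e ≠ e * y₁ → ∀ w₂ ∈ QW, ec w₂ * ec w₂ = 1 → ec w₂ * i1 = i1 * ec w₂ →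
      ec w₂ * i2 = i2 * ec w₂ → ec w₂ * e = e * ec w₂ → ec w₂ * f ≠ f * ec w₂ →
      y₁ * ec w₂ = ec w₂ * y₁ → ∃ w ∈ EL, ec w * h1 = y₁ * ec w ∧ ec w * h2 = ec w₂ * ec w)
      (by decide +kernel) (aut_Q γ (y := h1) (ec_Q (by decide))) (q (by decide +kernel))
      ((p a3).2 (by decide +kernel)) ((p a4).2 (by decide +kernel)) ((p a1).2 (by decide +kernel))
      ((p a2).not.2 (by decide +kernel)))
    (aut_Q γ (y := h2) (ec_Q (by decide))) (q (by decide +kernel)) ((p a3).2 (by decide +kernel))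
    ((p a4).2 (by decide +kernel)) ((p a2).2 (by decide +kernel)) ((p a1).not.2 (by decide +kernel))
    (by rw [← map_mul, ← map_mul]; exact congrArg γ (by decide +kernel))
  obtain ⟨c1, c2, c3, c4⟩ := (by decide +kernel : ∀ w ∈ EL, ec w * f = f * ec w ∧ ec w * e = e * ec w ∧
    ec w * i1 = i1 * ec w ∧ ec w * i2 = i2 * ec w) w hw
  have hQ : Q ≤ fx ((MulAut.conj (ec w))⁻¹ * γ) := gen_le_sub (L := [[30], [37, 37], [35, 32],
    [34, 30, 33], [35, 34, 31, 33], [32, 33]])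
    (Ws := [[1, 4, 2, 0], [5, 4, 3, 1], [5, 4, 1, 0], [4, 1, 0], [2, 3, 1], [0], [2, 2]])
    (by simp only [List.forall_mem_cons]; exact ⟨fix_of (a1.symm ▸ c1), fix_of (a2.symm ▸ c2),
      fix_of (a3.symm ▸ c3), fix_of (a4.symm ▸ c4), fix_of k1, fix_of k2, by simp⟩) (by decide +kernel)
  rw [← map_inv, ← map_mul, fx_conj] at hQ
  exact ⟨w, hw, (cenQ fun y hy => (mem_Cz.1 (hQ hy)).symm).imp (fun k => (inv_mul_eq_one.1 k).symm)
    fun k => inv_mul_eq_iff_eq_mul.1 k⟩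

end H79.STSz
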