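/- Tower U42E (row S3138), job A1: the splitting of the module of order `2 ^ 8`. -/
import Cfsg.Agent.H83.SVSpec

set_option autoImplicit false
set_option linter.unusedSectionVars false
set_option linter.unusedSimpArgs false
set_option linter.unusedVariables false

open H83.SV

universe u

namespace H79.SVA

variable {F K : Type} [Field F] [Finite F] [CharP F 2] [Field K] [Algebra F K] [StarRing K] [CharP K 2]
  [Qe F K] [Finite K]

variable (F K) in
include F in
theorem exists_y : ∃ y : Kˣ, (y : K) * y = y + 1 ∧ ∀ a : K, a = 0 ∨ a = 1 ∨ a = y ∨ a = y + 1 := by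
  have := Fintype.ofFinite K
  have c : Fintype.card K = 4 := by rw [← Nat.card_eq_fintype_card, Qe.card (F := F), Qe.two K]; norm_num
  have p : ∀ a : K, a ^ 4 = a := fun a => c ▸ FiniteField.pow_card a
  have h2 := two0 K
  obtain ⟨y, hy, -⟩ := exists_nm_one F K
  have n : (y : K) - 1 ≠ 0 := fun e => hy (Units.ext (sub_eq_zero.1 e))
  have e : (y : K) * y = y + 1 :=
    mul_left_cancel₀ (mul_ne_zero y.ne_zero n) (by linear_combination p y - ((y : K) ^ 3 - y) * h2)
  refine ⟨y, e, fun a => ?_⟩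
  have : a * (a - 1) * (a - y) * (a - (y + 1)) = 0 := by
    linear_combination p a + a * (a - 1) * e + (a * (a - 1) * (y + 1) - (a * a * (a - 1)) * (y + 1) + (a - a ^ 2)) * h2
  simpa [sub_eq_zero, or_assoc] using this

variable {M : Type u} [AddCommGroup M] {ι : VA F K →+ M} {θ : M →+ VA F K} {h : Kˣ → Fˣ → M →+ M}
  {s : K → M →+ M} {w : M →+ M}

theorem exists_z (H : A1 ι θ h s w) : ∃ z, θ z = (1, 0, 0) ∧ (∀ a, s a z = z) ∧ ∀ y r, h y r z = z := by
  obtain ⟨y, e, hK⟩ := exists_y F K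
  have h2 := two0 K
  have f2 := two0 F
  have y1 : (y : K) + 1 ≠ 0 := e ▸ mul_ne_zero y.ne_zero y.ne_zero
  obtain ⟨m, hm⟩ := H.surj (0, 0, 1)
  obtain ⟨n, hn⟩ : ∃ n, n = s 0 m + s 1 m + s y m + s (y + 1) m := ⟨_, rfl⟩
  have n1 : θ n = (1, 0, 0) := by
    simp only [hn, map_add, H.sθ, hm, aS, Prod.mk_add_mk, star_zero, mul_zero, tr_zero, nm_zero, nm_one,
      nm_eq_one y.ne_zero, nm_eq_one y1, map_one, Prod.mk.injEq]
    exact ⟨by linear_combination f2, by linear_combination (y + 1) * h2, by linear_combination 2 * f2⟩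
  have a1 : s 1 n = n := by
    simp only [hn, map_add, ← H.s_add, add_zero, k2, add_comm (1 : K) y,
      show (1 : K) + (y + 1) = y by linear_combination h2]
    abel
  have a2 : s y n = n := by
    simp only [hn, map_add, ← H.s_add, add_zero, k2, show (y : K) + (y + 1) = 1 by linear_combination y * h2]
    abel
  have n2 : ∀ a, s a n = n := fun a => by
    rcases hK a with rfl | rfl | rfl | rfl
    exacts [H.s_zero n, a1, a2, by rw [H.s_add, a1, a2]]
  have n3 : ∀ a y' x, (∀ b, s b x = x) → s a (h y' 1 x) = h y' 1 x := fun a y' x k => by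
    conv_rhs => rw [← k ((y'⁻¹ : Kˣ) * a), H.hs, Units.mul_inv_cancel_left]
  have y3 : y * y * y = 1 := Units.ext (by push_cast; linear_combination (y + 1) * e + (y : K) * h2)
  have hh : ∀ a b x, h a 1 (h b 1 x) = h (a * b) 1 x := fun a b x => by rw [← H.h_mul, mul_one]
  have t : ∀ y', θ (h y' 1 n) = (1, 0, 0) := fun y' => by simp [H.hθ, n1, aH, nm_eq_one y'.ne_zero]
  have b1 : h y 1 (n + h y 1 n + h (y * y) 1 n) = n + h y 1 n + h (y * y) 1 n := by
    rw [map_add, map_add, hh, hh, ← mul_assoc, y3, H.h_one]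
    abel
  refine ⟨n + h y 1 n + h (y * y) 1 n, ?_, fun a => ?_, fun y' r => ?_⟩
  · rw [map_add, map_add, t, t, n1, add_assoc, va2, add_zero]
  · rw [map_add, map_add, n2, n3 _ _ _ n2, n3 _ _ _ n2]
  · rw [unit_eq K r]
    rcases hK y' with k | k | k | k
    · exact absurd k y'.ne_zero
    · rw [show y' = 1 from Units.ext k, H.h_one]
    · rw [show y' = y from Units.ext k, b1]
    · rw [show y' = y * y from Units.ext (k.trans e.symm), ← hh, b1, b1]

theorem rel (H : A1 ι θ h s w) {z : M} (z1 : θ z = (1, 0, 0)) (z2 : ∀ a, s a z = z) (z3 : ∀ y r, h y r z = z)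
    {y : Kˣ} (e : (y : K) * y = y + 1) (hK : ∀ a : K, a = 0 ∨ a = 1 ∨ a = y ∨ a = y + 1) :
    z + (w z + s 1 (w z) + s y (w z) + s (y + 1) (w z)) = 0 := by
  have h2 := two0 K
  have f2 := two0 F
  have y1 : (y : K) + 1 ≠ 0 := e ▸ mul_ne_zero y.ne_zero y.ne_zero
  have hl : ∀ y' r, h y' r (w z) = w z := fun y' r => by
    have := H.wh y'⁻¹ 1 z
    rw [z3, inv_inv, unit_eq K (1 * _)] at this
    rw [unit_eq K r, ← this]
  have w1 : w (s 1 (w z)) = s 1 (w z) := by rw [H.br, z2]
  have wp : ∀ y' : Kˣ, w (s y' (w z)) = s (y'⁻¹ : Kˣ) (w z) := fun y' => by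
    have k := H.hs y' 1 1 (w z)
    rw [hl, mul_one] at k
    rw [← k, H.wh, w1, H.hs, hl, mul_one]
  have i1 : ((y⁻¹ : Kˣ) : K) = y + 1 :=
    Units.inv_eq_of_mul_eq_one_right (by linear_combination e + y * h2)
  have w2 : w (s y (w z)) = s (y + 1) (w z) := by rw [wp, i1]
  have w3 : w (s (y + 1) (w z)) = s y (w z) := by rw [← w2, H.ww]
  obtain ⟨v, hv⟩ := (H.ker (z + (w z + s 1 (w z) + s y (w z) + s (y + 1) (w z)))).1 (by
    simp only [map_add, H.sθ, H.wθ, z1, aS, aW, Prod.mk_add_mk, star_zero, mul_zero, tr_zero, nm_zero, nm_one,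
      nm_eq_one y.ne_zero, nm_eq_one y1, map_one, Prod.mk_eq_zero]
    exact ⟨by linear_combination 2 * f2, by linear_combination (y + 1) * h2, by linear_combination 2 * f2⟩)
  have a1 : aS 1 v = v := H.inj (by
    rw [← H.sι, ← hv]
    simp only [map_add, z2, ← H.s_add, k2, H.s_zero, add_comm (1 : K) y,
      show (1 : K) + (y + 1) = y by linear_combination h2]
    abel)
  have a2 : aS (y : K) v = v := H.inj (by
    rw [← H.sι, ← hv]
    simp only [map_add, z2, ← H.s_add, k2, H.s_zero,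
      show (y : K) + (y + 1) = 1 by linear_combination y * h2]
    abel)
  have a3 : aW v = v := H.inj (by
    rw [← H.wι, ← hv]
    simp only [map_add, H.ww, w1, w2, w3]
    abel)
  obtain ⟨c, b, d⟩ := v
  simp only [aS, aW, Prod.mk.injEq, one_mul, add_eq_left, map_eq_zero, and_true] at a1 a2 a3
  obtain ⟨a1, rfl⟩ := a1
  obtain ⟨rfl, a4, -⟩ := a3
  have a5 : tr F (y * b) = 0 := by simpa [a4] using a2
  obtain ⟨c, rfl⟩ := (Qe.fix (F := F) b).1 a4
  obtain ⟨c', k⟩ := tr_eq_zero.1 a5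
  rcases F_cases K c with rfl | rfl
  · rw [hv, map_zero]
    exact map_zero ι
  · exfalso
    rw [map_one, mul_one] at k
    rcases F_cases K c' with rfl | rfl
    · exact y.ne_zero (by simpa using k.symm)
    · rw [map_one] at k
      exact y1 (by rw [← k, k2])

theorem jobA1 : JobA1.{u} := fun F K _ _ _ _ _ _ _ _ _ M _ ι θ h s w H => by
  classical
  obtain ⟨z, z1, z2, z3⟩ := exists_z H
  obtain ⟨y, e, hK⟩ := exists_y F K
  have R := rel H z1 z2 z3 e hK
  have h2 := two0 K
  have y1 : (y : K) + 1 ≠ 0 := e ▸ mul_ne_zero y.ne_zero y.ne_zero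
  have hl : ∀ y' r, h y' r (w z) = w z := fun y' r => by
    have := H.wh y'⁻¹ 1 z
    rw [z3, inv_inv, unit_eq K (1 * _)] at this
    rw [unit_eq K r, ← this]
  have tw : ∀ {a b : M} (c : M), a = b + (c + c) → a = b := fun c k => by rwa [H.two, add_zero] at k
  have tR : ∀ {a b : M} (c : M), a + (z + (w z + s 1 (w z) + s y (w z) + s (y + 1) (w z))) = b + (c + c) →
      a = b := fun c k => by rwa [R, H.two, add_zero, add_zero] at k
  let ζ : F →+ M := AddMonoidHom.mk' (fun c => if c = 0 then 0 else z) fun c d => by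
    rcases F_cases K c with rfl | rfl <;> rcases F_cases K d with rfl | rfl <;> simp [k2, H.two]
  have ζ0 : ∀ c, ζ c = if c = 0 then 0 else z := fun _ => rfl
  obtain ⟨B, hB⟩ : ∃ B : K → M, ∀ b, B b = s b (w z) + w z + ζ (nm F b) := ⟨_, fun _ => rfl⟩
  have B0 : B 0 = 0 := by simp [hB, H.s_zero, H.two]
  have B1 : ∀ b, b ≠ 0 → B b = s b (w z) + w z + z := fun b hb => by simp [hB, ζ0, nm_eq_one hb]
  have c1 : B (y + 1) = B y + B 1 := by
    rw [B1 _ y1, B1 _ y.ne_zero, B1 _ one_ne_zero]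
    exact tR (s (y + 1) (w z)) (by abel)
  have c2 : B y = B (y + 1) + B 1 := by rw [c1, add_assoc, H.two, add_zero]
  have c3 : B 1 = B (y + 1) + B y := by rw [c1, add_right_comm, H.two, zero_add]
  have d2 : (y : K) + 1 + 1 = y := by linear_combination h2
  have d3 : (y : K) + 1 + y = 1 := by linear_combination y * h2
  let β : K →+ M := AddMonoidHom.mk' B fun a b => by
    rcases hK a with rfl | rfl | rfl | rfl <;> rcases hK b with rfl | rfl | rfl | rfl <;>
      first
      | rw [zero_add, B0, zero_add]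
      | rw [add_zero, B0, add_zero]
      | rw [k2, B0, H.two]
      | exact c1
      | rw [add_comm (1 : K), add_comm (B 1)]; exact c1
      | rw [d2]; exact c2
      | rw [add_comm (1 : K), add_comm (B 1), d2]; exact c2
      | rw [d3]; exact c3
      | rw [add_comm (y : K) (y + 1), add_comm (B y), d3]; exact c3
  have β0 : ∀ b, β b = B b := fun _ => rfl
  have θι : ∀ v, θ (ι v) = 0 := fun v => (H.ker _).2 ⟨v, rfl⟩
  have θζ : ∀ c, θ (ζ c) = (c, 0, 0) := fun c => by
    rcases F_cases K c with rfl | rfl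
    · rw [map_zero, map_zero]; rfl
    · simp [ζ0, z1]
  have θβ : ∀ b, θ (β b) = (0, b, 0) := fun b => by
    simp [β0, hB, H.sθ, H.wθ, θζ, z1, aS, aW, k2]
  let az : F × F →+ M := (ι.comp (AddMonoidHom.inl F (K × F))).coprod ζ
  let bm : K × K →+ M := (ι.comp ((AddMonoidHom.inr F (K × F)).comp (AddMonoidHom.inl K F))).coprod β
  have az0 : ∀ p, az p = ι (p.1, 0, 0) + ζ p.2 := fun _ => rfl
  have bm0 : ∀ p, bm p = ι (0, p.1, 0) + β p.2 := fun _ => rfl
  refine ⟨az, bm, H.two, fun m => ?_, fun c => by simp [az0], fun a => by simp [bm0],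
    fun p => by simp [az0, θι, θζ], fun p => by simp [bm0, θι, θβ], fun y' r p => ?_, fun y' r p => ?_,
    fun a p => ?_⟩
  · obtain ⟨⟨c, b, d⟩, hv⟩ := (H.ker (m - (ζ (θ m).1 + β (θ m).2.1 + w (ζ (θ m).2.2)))).1 (by
      simp [θζ, θβ, H.wθ, aW])
    refine ⟨(c, (θ m).1), (b, (θ m).2.1), (d, (θ m).2.2), ?_⟩
    have : ι (c, b, d) = ι (c, 0, 0) + ι (0, b, 0) + ι (0, 0, d) := by simp [← map_add]
    generalize θ m = x at hv ⊢
    rw [az0, az0, bm0, map_add, H.wι, sub_eq_iff_eq_add.1 hv, this]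
    simp only [aW, star_zero]
    abel
  · rw [unit_eq K r, nm_eq_one y'.ne_zero, az0, az0, map_add, H.hι]
    congr 1
    · simp [aH, nm_eq_one y'.ne_zero]
    · by_cases k : p.2 = 0 <;> simp [ζ0, k, z3]
  · rw [unit_eq K r, bm0, bm0, map_add, H.hι]
    congr 1
    · simp [aH]
    · by_cases k : p.2 = 0
      · simp [k]
      · simp only [β0, Units.val_one, map_one, one_mul, Prod.smul_snd, smul_eq_mul]
        rw [B1 _ k, B1 _ (mul_ne_zero y'.ne_zero k), map_add, map_add, H.hs, hl, z3]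
  · rw [az0, map_add, H.sι]
    congr 1
    · simp [aS]
    · by_cases k : p.2 = 0 <;> simp [ζ0, k, z2]

end H79.SVA
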