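import Cfsg.Agent.H82.TPSpec
import Cfsg.Agent.H98.Coprime

/-! Tools for the TP jobs EB1 and EO2. -/

set_option autoImplicit false

namespace H79.TP

open MulAction Cfsg Subgroup H89.K H98 H82.TP

universe u v

variable {G : Type u} {Ω : Type v} [Group G] [MulAction G Ω]

instance : Fact (Nat.Prime 2) := ⟨Nat.prime_two⟩

/-- `X` fixes `c`. -/
def Fx (X : Subgroup G) (c : Ω) : Prop := ∀ g ∈ X, g • c = c

theorem le_St {X : Subgroup G} {c d : Ω} : X ≤ St G c d ↔ Fx X c ∧ Fx X d :=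
  ⟨fun h => ⟨fun _ a => (mem_St.1 (h a)).1, fun _ a => (mem_St.1 (h a)).2⟩,
    fun h g a => mem_St.2 ⟨h.1 g a, h.2 g a⟩⟩

theorem Fx.smul {X : Subgroup G} {c : Ω} (h : Fx X c) {g : G} (hg : g ∈ normalizer (X : Set G)) :
    Fx X (g • c) := fun x hx => by
  have := h _ (conj_mem_of_mem_normalizer' hg hx)
  rw [mul_smul, mul_smul, inv_smul_eq_iff] at this
  exact this

theorem fix_mod [Finite Ω] {S : Subgroup G} (hS : IsPGroup 2 S) (F : Set Ω)
    (h : ∀ g ∈ S, ∀ x ∈ F, g • x ∈ F) : F.ncard ≡ {x | x ∈ F ∧ Fx S x}.ncard [MOD 2] := by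
  let M : SubMulAction S Ω := ⟨F, fun g x hx => h g g.2 x hx⟩
  have := hS.card_modEq_card_fixedPoints M
  have e : Nat.card (fixedPoints S M) = {x | x ∈ F ∧ Fx S x}.ncard :=
    Nat.card_congr ⟨fun x => ⟨x.1.1, x.1.2, fun g hg => congrArg Subtype.val (x.2 ⟨g, hg⟩)⟩,
      fun x => ⟨⟨x.1, x.2.1⟩, fun g => Subtype.ext (x.2.2 g g.2)⟩, fun _ => rfl, fun _ => rfl⟩
  rwa [e] at this

theorem exists_fx [Finite Ω] {S : Subgroup G} (hS : IsPGroup 2 S) {F : Set Ω} (hF : Odd F.ncard)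
    (h : ∀ g ∈ S, ∀ x ∈ F, g • x ∈ F) : ∃ x ∈ F, Fx S x := by
  by_contra a
  have := fix_mod hS F h
  rw [show {x | x ∈ F ∧ Fx S x} = ∅ from Set.eq_empty_of_forall_notMem fun x hx => a ⟨x, hx⟩,
    Set.ncard_empty] at this
  exact (Nat.not_even_iff_odd.2 hF) (even_iff_two_dvd.2 ((Nat.modEq_zero_iff_dvd).1 this))

theorem odd_fx [Finite Ω] (ho : Odd (Nat.card Ω)) {S : Subgroup G} (hS : IsPGroup 2 S) :
    Odd {x : Ω | Fx S x}.ncard := by
  have := fix_mod hS (Set.univ : Set Ω) fun _ _ _ _ => trivial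
  rw [Set.ncard_univ] at this
  simp only [Set.mem_univ, true_and] at this
  exact Nat.odd_iff.2 (Eq.trans this.symm (Nat.odd_iff.1 ho))

/-- An element acting on an odd set as an involution modulo a `2`-group fixes a point. -/
theorem exists_fix1 [Finite Ω] {g : G} {k : ℕ} (hg : g ^ 2 ^ k = 1) {F : Set Ω} (hF : Odd F.ncard)
    (h : ∀ x ∈ F, g • x ∈ F) : ∃ x ∈ F, g • x = x := by
  have fo : IsOfFinOrder g := isOfFinOrder_iff_pow_eq_one.2 ⟨_, by positivity, hg⟩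
  obtain ⟨x, a, b⟩ := exists_fx (isPGroup_zpowers hg) hF fun y hy x hx => by
    obtain ⟨n, rfl⟩ := (fo.mem_powers_iff_mem_zpowers).2 hy
    induction n with
    | zero => simpa using hx
    | succ n ih =>
      simp only [pow_succ', mul_smul]
      exact h _ (ih (npow_mem_zpowers g n))
  exact ⟨x, a, b g (mem_zpowers g)⟩

theorem uniq_fix [Finite Ω] {N : Subgroup G} {F : Set Ω} {J : Set G}
    (hF : ∀ g ∈ N, ∀ x ∈ F, g • x ∈ F) (ht : ∀ c ∈ F, ∀ d ∈ F, ∃ g ∈ N, g • c = d) (hJ : ∀ x ∈ J, x ∈ N)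
    (hc : ∀ x ∈ J, ∀ g ∈ N, g * x * g⁻¹ ∈ J)
    (h1 : ∀ x ∈ J, ∀ c ∈ F, ∀ d ∈ F, x • c = c → x • d = d → c = d)
    (h2 : ∀ x ∈ J, ∀ y ∈ J, ∀ c ∈ F, x • c ≠ c → x • c = y • c → ∀ e ∈ F, x • e = y • e)
    {x y : G} (hx : x ∈ J) (hy : y ∈ J) {c : Ω} (hcF : c ∈ F) (xc : x • c = c) (yc : y • c = c) :
    ∀ e ∈ F, x • e = y • e := by
  choose! g gN gc using ht c hcF
  have fx : ∀ w : G, w • c = c → ∀ d ∈ F, (g d * w * (g d)⁻¹) • d = d := fun w a d hd => by
    have := (conj_smul_eq (g := g d)).2 a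
    rwa [gc d hd] at this
  have mv : ∀ w ∈ J, w • c = c → ∀ d ∈ F, d ≠ c → (g d * w * (g d)⁻¹) • c ≠ c := fun w hw a d hd n e =>
    n (h1 _ (hc w hw _ (gN d hd)) d hd c hcF (fx w a d hd) e)
  have inF : ∀ w ∈ J, ∀ d ∈ F, (g d * w * (g d)⁻¹) • c ∈ F := fun w hw d hd =>
    hF _ (hJ _ (hc w hw _ (gN d hd))) c hcF
  have same : ∀ w ∈ J, w • c = c → ∀ d ∈ F, ∀ d' ∈ F, d ≠ c →
      (g d * x * (g d)⁻¹) • c = (g d' * w * (g d')⁻¹) • c → d = d' := fun w hw a d hd d' hd' n e =>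
    h1 _ (hc x hx _ (gN d hd)) d hd d' hd' (fx x xc d hd)
      ((h2 _ (hc x hx _ (gN d hd)) _ (hc w hw _ (gN d' hd')) c hcF (mv x hx xc d hd n) e d' hd').trans
        (fx w a d' hd'))
  let φ : {d // d ∈ F ∧ d ≠ c} → {d // d ∈ F ∧ d ≠ c} := fun d =>
    ⟨(g d * x * (g d)⁻¹) • c, inF x hx d d.2.1, mv x hx xc d d.2.1 d.2.2⟩
  have inj : Function.Injective φ := fun d d' e =>
    Subtype.ext (same x hx xc d d.2.1 d' d'.2.1 d.2.2 (congrArg Subtype.val e))
  intro e he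
  by_cases n : e = c
  · rw [n, xc, yc]
  obtain ⟨d, hd⟩ := Finite.injective_iff_surjective.1 inj ⟨_, inF y hy e he, mv y hy yc e he n⟩
  have hd : (g d * x * (g d)⁻¹) • c = (g e * y * (g e)⁻¹) • c := congrArg Subtype.val hd
  have de := same y hy yc d d.2.1 e he d.2.2 hd
  rw [de] at hd
  have := h2 _ (hc x hx _ (gN e he)) _ (hc y hy _ (gN e he)) c hcF (mv x hx xc e he n) hd (g e • e)
    (hF _ (gN e he) e he)
  simpa [mul_smul] using this

/-- A cyclic group acting semiregularly on a finite set. -/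
theorem dvd_of_free {A X : Type*} [Group A] [MulAction A X] (σ : A) (F : Set X)
    (h : ∀ g ∈ zpowers σ, ∀ x ∈ F, g • x ∈ F) (hf : ∀ g ∈ zpowers σ, ∀ x ∈ F, g • x = x → g = 1) :
    orderOf σ ∣ F.ncard := by
  let M : SubMulAction (zpowers σ) X := ⟨F, fun g x hx => h g g.2 x hx⟩
  have e := selfEquivOrbitsQuotientProd (G := zpowers σ) (X := M) fun x => (eq_bot_iff_forall _).2
    fun g hg => Subtype.ext (hf g g.2 x.1 x.2 (congrArg Subtype.val (mem_stabilizer_iff.1 hg) :))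
  have := Nat.card_congr e
  rw [Nat.card_prod, Nat.card_zpowers] at this
  exact Dvd.intro_left _ this.symm

theorem sq_mul {x y : G} (hx : x * x = 1) (hy : y * y = 1) (h : x * y * (x * y) = 1) : x * y = y * x := by
  rw [← inv_eq_of_mul_eq_one_right h, mul_inv_rev, inv_eq_of_mul_eq_one_right hx,
    inv_eq_of_mul_eq_one_right hy]

theorem isP_of_sq {X : Subgroup G} (h : ∀ x ∈ X, x * x = 1) : IsPGroup 2 X :=
  isPGroup_iff_forall.2 fun x hx => ⟨1, by rw [pow_one, sq, h x hx]⟩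

theorem ord2 {x : G} (h : x * x = 1) (n : x ≠ 1) : orderOf x = 2 :=
  orderOf_eq_prime (by rw [sq, h]) n

theorem sq_of_ord {x : G} (h : orderOf x = 2) : x * x = 1 := by rw [← sq, ← h, pow_orderOf_eq_one]

theorem ne_of_ord {x : G} (h : orderOf x = 2) : x ≠ 1 := fun e => by simp [e] at h

/-- The facts on a Sylow `2`-subgroup `T` of a subgroup `H` of type E. -/
structure SE (H T : Subgroup G) (q : ℕ) : Prop where
  syl : IsSyl 2 T H
  sq : ∀ u ∈ T, u * u = 1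
  cen : ∀ u ∈ T, u ≠ 1 → ∀ g ∈ H, g * u = u * g → g ∈ T
  card : Nat.card T = q
  pow : ∃ r : ℕ, 3 ≤ r ∧ q = 2 ^ r
  cyc : ∃ σ ∈ H, σ ∈ normalizer (T : Set G) ∧ orderOf σ = q - 1

theorem se [Finite G] {H T : Subgroup G} {q : ℕ} (h : TE H q) (hT : IsSyl 2 T H) : SE H T q := by
  have sq : ∀ u ∈ T, u * u = 1 := fun u hu => by
    obtain ⟨k, hk⟩ := isPGroup_iff_forall.1 hT.isPGroup u hu
    have : ∀ k : ℕ, u ^ 2 ^ (k + 1) = 1 → u ^ 2 = 1 := fun k => by
      induction k with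
      | zero => simp
      | succ k ih =>
        refine fun a => ih ?_
        have := h.el ⟨u ^ 2 ^ k, pow_mem (hT.le hu) _⟩ (Subtype.ext (by
          rw [pow_succ, pow_succ, mul_assoc, pow_mul] at a; exact a))
        rw [pow_succ, pow_mul]
        exact congrArg Subtype.val this
    rw [← pow_two]
    exact this k (by rw [pow_succ, pow_mul, hk, one_pow])
  have cen : ∀ u ∈ T, u ≠ 1 → H ⊓ centralizer {u} = T := fun u hu n =>
    hT.eq_of_le (isP_of_sq fun g hg => congrArg Subtype.val (h.cen ⟨u, hT.le hu⟩ ⟨g, hg.1⟩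
      (ord2 (Subtype.ext (sq u hu)) fun e => n (congrArg Subtype.val e))
        (Subtype.ext (mem_centralizer_singleton_iff.1 hg.2))))
      (le_inf hT.le fun g hg => mem_centralizer_singleton_iff.2 (sq_mul (sq g hg) (sq u hu)
        (sq _ (mul_mem hg hu)))) inf_le_left
  refine ⟨hT, sq, fun u hu n g hg e => cen u hu n ▸ ⟨hg, mem_centralizer_singleton_iff.2 e⟩, ?_, h.pow, ?_⟩
  · obtain ⟨t, -, ht, -⟩ := h.four
    obtain ⟨g, hg, a⟩ := hT.exists_cj_le (isPGroup_zpowers (x := t.1) (k := 1)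
      (by simpa [pow_two] using congrArg Subtype.val (sq_of_ord ht))) (zpowers_le.2 t.2)
    have hu := a (conj_mem_cj (mem_zpowers t.1))
    have n : g * t.1 * g⁻¹ ≠ 1 := fun e => ne_of_ord ht (Subtype.ext (by simpa using e))
    rw [← cen _ hu n, ← h.cardc ⟨_, hT.le hu⟩ (ord2 (Subtype.ext (sq _ hu)) fun e => n (congrArg Subtype.val e)),
      ← card_map_of_injective H.subtype_injective]
    congr 2
    ext x
    simp only [mem_inf, mem_map, mem_centralizer_singleton_iff]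
    exact ⟨fun ⟨a, b⟩ => ⟨⟨x, a⟩, Subtype.ext b, rfl⟩, fun ⟨y, b, e⟩ => e ▸ ⟨y.2, congrArg Subtype.val b⟩⟩
  · obtain ⟨σ, a, b⟩ := h.cyc _ hT.subgroupOf_top
    refine ⟨σ, σ.2, mem_normalizer_of_cj_le fun x hx => ?_, by rw [← b, orderOf_coe]⟩
    obtain ⟨y, hy, rfl⟩ := hx
    exact conj_mem_of_mem_normalizer a (x := ⟨y, hT.le hy⟩) hy

namespace SE

variable [Finite G] {H T : Subgroup G} {q : ℕ} (h : SE H T q)
include h

omit [Finite G] in
theorem comm {u w : G} (hu : u ∈ T) (hw : w ∈ T) : u * w = w * u :=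
  sq_mul (h.sq u hu) (h.sq w hw) (h.sq _ (mul_mem hu hw))

omit [Finite G] in
theorem ge : 8 ≤ q := by
  obtain ⟨r, a, rfl⟩ := h.pow
  exact Nat.pow_le_pow_right (n := 2) (by decide) a

omit [Finite G] in
theorem odd : Odd (q - 1) := by
  obtain ⟨r, a, rfl⟩ := h.pow
  exact Nat.Even.sub_odd Nat.one_le_two_pow ((Nat.even_pow' (by omega)).2 even_two) odd_one

omit [Finite G] in
/-- Elements of odd order in `H` act semiregularly on `T`. -/
theorem free {σ g u : G} (hσ : σ ∈ H) (ho : Odd (orderOf σ)) (hg : g ∈ zpowers σ) (hu : u ∈ T) (n : u ≠ 1)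
    (e : g * u = u * g) : g = 1 := by
  have a := h.sq g (h.cen u hu n g (zpowers_le.2 hσ hg) e)
  by_contra b
  have := orderOf_dvd_of_mem_zpowers hg
  rw [ord2 a b] at this
  exact (Nat.not_even_iff_odd.2 ho) (even_iff_two_dvd.2 this)

theorem trans {σ t u : G} (hσ : σ ∈ H) (hn : σ ∈ normalizer (T : Set G)) (ho : orderOf σ = q - 1)
    (ht : t ∈ T) (nt : t ≠ 1) (hu : u ∈ T) (nu : u ≠ 1) : ∃ g ∈ zpowers σ, g * t * g⁻¹ = u := by
  let φ : zpowers σ → {x : T // x ≠ 1} := fun g =>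
    ⟨⟨g * t * g⁻¹, conj_mem_of_mem_normalizer (zpowers_le.2 hn g.2) ht⟩,
      fun e => nt (by simpa using congrArg Subtype.val e)⟩
  have inj : Function.Injective φ := fun g k e => by
    have e : (g : G) * t * (g : G)⁻¹ = k * t * (k : G)⁻¹ := congrArg (fun x => x.1.1) e
    have := h.free hσ (ho ▸ h.odd) (mul_mem (inv_mem k.2) g.2) ht nt (by
      rw [mul_assoc, mul_inv_eq_iff_eq_mul.1 e]; group)
    exact Subtype.ext (inv_mul_eq_one.1 this).symm
  have := (Function.Injective.bijective_of_nat_card_le inj (by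
    rw [Nat.card_zpowers, ho, ← h.card]
    have := Fintype.ofFinite T
    classical simp [Nat.card_eq_fintype_card])).2 ⟨⟨u, hu⟩, fun e => nu (congrArg Subtype.val e)⟩
  obtain ⟨g, e⟩ := this
  exact ⟨g, g.2, congrArg (fun x => x.1.1) e⟩

omit [Finite G] in
theorem exists_ne : ∃ t ∈ T, t ≠ 1 := by
  by_contra! a
  have := h.card
  rw [(eq_bot_iff_forall T).2 a, card_bot] at this
  have := h.ge
  omega

end SE

section
variable [Finite G] (h : T2 G Ω) {a b c d : Ω} (hab : a ≠ b) (hcd : c ≠ d) {T : Subgroup G}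
  (hT : IsSyl 2 T (St G a b))
include h hab hcd hT

theorem syl_at {U : Subgroup G} (hU : IsPGroup 2 U) (hc : U ≤ St G c d) (e : Nat.card T ≤ Nat.card U) :
    ∃ g : G, g • a = c ∧ g • b = d ∧ cj g T = U := by
  obtain ⟨g, rfl, rfl⟩ := h.two hab hcd
  have s : IsSyl 2 (cj g T) (St G (g • a) (g • b)) := St_smul g a b ▸ hT.cj g
  obtain ⟨k, hk, e⟩ := s.exists_cj_eq (s.of_card_ge hU hc (by rwa [card_cj]))
  exact ⟨k * g, by rw [mul_smul, (mem_St.1 hk).1], by rw [mul_smul, (mem_St.1 hk).2], by rw [← cj_cj, e]⟩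

theorem syl_of_le (hc : T ≤ St G c d) : IsSyl 2 T (St G c d) := by
  obtain ⟨g, rfl, rfl, e⟩ := syl_at h hab hcd hT hT.isPGroup hc le_rfl
  have := hT.cj g
  rw [e] at this
  exact St_smul g a b ▸ this

theorem card_le_syl {U : Subgroup G} (hU : IsPGroup 2 U) (hc : U ≤ St G c d) : Nat.card U ≤ Nat.card T := by
  obtain ⟨g, rfl, rfl⟩ := h.two hab hcd
  have s : IsSyl 2 (cj g T) (St G (g • a) (g • b)) := St_smul g a b ▸ hT.cj g
  exact (s.card_le hU hc).trans_eq (card_cj _ _)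

end

theorem mem_of_sq {T H : Subgroup G} (hT : IsSyl 2 T H) {g : G} (hg : g ∈ H) (hn : g ∈ normalizer (T : Set G))
    (h2 : g * g ∈ T) : g ∈ T := by
  obtain ⟨k, hk⟩ := isPGroup_iff_forall.1 hT.isPGroup _ h2
  exact hT.le_of_le_normalizer' (isPGroup_zpowers (k := k + 1) (by rw [pow_succ', pow_mul, pow_two, hk]))
    (zpowers_le.2 hg) (zpowers_le.2 hn) (mem_zpowers g)

end H79.TP
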