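import Cfsg.Agent.H79.TP1
import Cfsg.Agent.H18.Misc2

/-! TP job EB1. -/

set_option autoImplicit false

namespace H79.TP

open MulAction Cfsg Subgroup H89.K H98 H82.TP

universe u v

variable {G : Type u} {Ω : Type v} [Group G] [MulAction G Ω]

theorem arith {p r d : ℕ} (e : 2 ^ r = p ^ 2) (h1 : 1 ≤ d) (h2 : d ≤ r) (h : p + 1 ∣ 2 ^ d - 1) : d = r := by
  obtain ⟨k, -, rfl⟩ := (Nat.dvd_prime_pow Nat.prime_two).1 (e ▸ dvd_pow_self p two_ne_zero : p ∣ 2 ^ r)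
  rw [← pow_mul] at e
  obtain rfl := Nat.pow_right_injective le_rfl e
  by_contra n
  have a : 1 < 2 ^ d := Nat.one_lt_two_pow (by omega)
  rcases le_or_gt d k with b | b
  · have := Nat.le_of_dvd (by omega) h
    have := Nat.pow_le_pow_right (n := 2) (by decide) b
    omega
  · obtain ⟨f, rfl⟩ := Nat.exists_eq_add_of_le b.le
    have c : 2 ^ f * (2 ^ k + 1) = 2 ^ (k + f) - 1 + (2 ^ f + 1) := by
      rw [mul_add, ← pow_add, add_comm f k]; omega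
    have := Nat.le_of_dvd (by positivity) ((Nat.dvd_add_right h).1 (c ▸ dvd_mul_left _ _))
    have := Nat.pow_lt_pow_right (a := 2) (by decide) (show f < k by omega)
    omega

theorem pow_of_sq {T : Subgroup G} (hT : IsPGroup 2 T) {g : G} (h2 : g * g ∈ T) : ∃ k, g ^ 2 ^ k = 1 :=
  let ⟨k, hk⟩ := isPGroup_iff_forall.1 hT _ h2
  ⟨k + 1, by rw [pow_succ', pow_mul, pow_two, hk]⟩

/-- `g ∈ N(T) \ T` with `g ^ 2 ∈ T`. -/
structure J (T : Subgroup G) (g : G) : Prop where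
  n : g ∈ normalizer (T : Set G)
  nm : g ∉ T
  sq : g * g ∈ T

theorem J.conj {T : Subgroup G} {g x : G} (h : J T g) (hx : x ∈ normalizer (T : Set G)) :
    J T (x * g * x⁻¹) :=
  ⟨mul_mem (mul_mem hx h.n) (inv_mem hx), fun a => h.nm (by simpa [mul_assoc] using conj_mem_of_mem_normalizer' hx a),
    by simpa [mul_assoc] using conj_mem_of_mem_normalizer hx h.sq⟩

theorem J.back {T : Subgroup G} {g : G} (h : J T g) {c : Ω} (hc : Fx T c) : g • g • c = c := by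
  rw [← mul_smul, hc _ h.sq]

section
variable [Finite G] {q p : ℕ} {a b : Ω} {T : Subgroup G}

theorem J.thin (h : T2 G Ω) (hab : a ≠ b) (hT : IsSyl 2 T (St G a b)) {g : G} (hg : J T g) {c d : Ω}
    (hc : Fx T c) (hd : Fx T d) (gc : g • c = c) (gd : g • d = d) : c = d := by
  by_contra n
  exact hg.nm (mem_of_sq (syl_of_le h hab n hT (le_St.2 ⟨hc, hd⟩)) (mem_St.2 ⟨gc, gd⟩) hg.n hg.sq)

theorem J.swap (h : T2 G Ω) (hab : a ≠ b) (hT : IsSyl 2 T (St G a b)) {g : G} (hg : J T g) :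
    ∃ c d : Ω, c ≠ d ∧ Fx T c ∧ Fx T d ∧ g • c = d ∧ g • d = c := by
  obtain ⟨ha, hb⟩ := le_St.1 hT.le
  by_cases e : g • a = a
  · exact ⟨b, _, fun n => hab (hg.thin h hab hT ha hb e n.symm), hb, hb.smul hg.n, rfl, hg.back hb⟩
  · exact ⟨a, _, Ne.symm e, ha, ha.smul hg.n, rfl, hg.back ha⟩

variable (h : EB G Ω q p) (hab : a ≠ b) (hT : IsSyl 2 T (St G a b))
include h hab hT

theorem se_at {c d : Ω} (hcd : c ≠ d) (hc : Fx T c) (hd : Fx T d) : SE (St G c d) T q :=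
  se (h.te c d hcd) (syl_of_le h.t2 hab hcd hT (le_St.2 ⟨hc, hd⟩))

theorem eb_card {g : G} (hg : J T g) : Nat.card ↥(T ⊓ centralizer ({g} : Set G)) = p := by
  obtain ⟨c, d, n, hc, hd, e1, e2⟩ := hg.swap h.t2 hab hT
  exact (h.act c d T g n (se_at h hab hT n hc hd).syl e1 e2 hg.n hg.sq).1

theorem wittZ {t : G} (ht : t ∈ T) (nt : t ≠ 1) {c d : Ω} (hcd : c ≠ d) (hc : Fx T c) (hd : Fx T d) :
    ∃ g ∈ normalizer (T : Set G), g * t = t * g ∧ g • a = c ∧ g • b = d := by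
  obtain ⟨g, e1, e2, e⟩ := syl_at h.t2 hab hcd hT hT.isPGroup (le_St.2 ⟨hc, hd⟩) le_rfl
  have hg := cj_eq_self_iff.1 e
  have E := se_at h hab hT hcd hc hd
  obtain ⟨σ, s1, s2, s3⟩ := E.cyc
  obtain ⟨k, hk, e⟩ := E.trans s1 s2 s3 (conj_mem_of_mem_normalizer hg ht) (by simpa using nt) ht nt
  have := mem_St.1 (zpowers_le.2 s1 hk)
  exact ⟨k * g, mul_mem (zpowers_le.2 s2 hk) hg, mul_inv_eq_iff_eq_mul.1 (by
    simpa [mul_assoc] using e),
    by rw [mul_smul, e1, this.1], by rw [mul_smul, e2, this.2]⟩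

variable (ho : Odd (Nat.card Ω))
include ho

theorem uniq0 {S : Subgroup G} (hS : IsPGroup 2 S) (hn : S ≤ normalizer (T : Set G)) {g g' : G}
    (hg : g ∈ S) (hg' : g' ∈ S) (j : J T g) (j' : J T g') : g * g' ∈ T := by
  have := h.t2.finite
  have E := se (h.te a b hab) hT
  obtain ⟨ha, hb⟩ := le_St.1 hT.le
  obtain ⟨⟨t, ht, ct⟩, nt⟩ := ne_bot_iff_exists_ne_one.1 (inf_centralizer_ne_bot hT.isPGroup hS hn
    fun e => let ⟨t, a, b⟩ := E.exists_ne; b (mem_bot.1 (e ▸ a)))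
  have nt : t ≠ 1 := fun e => nt (Subtype.ext e)
  obtain ⟨c, hc, fc⟩ := exists_fx hS (odd_fx ho hT.isPGroup) fun g hg x hx => Fx.smul hx (hn hg)
  have W : ∀ c, Fx T c → ∃ g ∈ normalizer (T : Set G) ⊓ centralizer {t}, g • a = c := fun c hc => by
    by_cases e : c = a
    · exact ⟨1, one_mem _, by rw [one_smul, e]⟩
    · obtain ⟨g, x, y, z, -⟩ := wittZ h hab hT ht nt e hc ha
      exact ⟨g, ⟨x, mem_centralizer_singleton_iff.2 y⟩, z⟩
  have := uniq_fix (N := normalizer (T : Set G) ⊓ centralizer {t}) (F := {x | Fx T x})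
    (J := {x | J T x ∧ x ∈ centralizer {t}}) (fun g hg x hx => Fx.smul hx hg.1)
    (fun c hc d hd => by
      obtain ⟨x, hx, rfl⟩ := W c hc
      obtain ⟨y, hy, rfl⟩ := W d hd
      exact ⟨y * x⁻¹, mul_mem hy (inv_mem hx), by simp [mul_smul]⟩)
    (fun x hx => ⟨hx.1.n, hx.2⟩)
    (fun x hx g hg => ⟨hx.1.conj hg.1, mul_mem (mul_mem hg.2 hx.2) (inv_mem hg.2)⟩)
    (fun x hx c hc d hd => hx.1.thin h.t2 hab hT hc hd)
    (fun x hx y hy c hc n e f hf => by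
      have := (se_at h hab hT n.symm hc (Fx.smul hc hx.1.n)).cen t ht nt (x⁻¹ * y) (mem_St.2
        ⟨by rw [mul_smul, ← e, inv_smul_smul], by
          rw [mul_smul, inv_smul_eq_iff, hx.1.back hc, e, hy.1.back hc]⟩)
        (mem_centralizer_singleton_iff.1 (mul_mem (inv_mem hx.2) hy.2))
      have := hf _ this
      rw [mul_smul, inv_smul_eq_iff] at this
      exact this.symm)
    ⟨j, mem_centralizer_singleton_iff.2 (ct g hg)⟩ ⟨j', mem_centralizer_singleton_iff.2 (ct g' hg')⟩ hc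
    (fc g hg) (fc g' hg')
  exact E.cen t ht nt _ (mem_St.2 ⟨by rw [mul_smul, ← this a ha, j.back ha], by
    rw [mul_smul, ← this b hb, j.back hb]⟩) (by rw [mul_assoc, ct g' hg', ← mul_assoc, ct g hg, mul_assoc])

theorem eb_norm {S : Subgroup G} (hS : IsPGroup 2 S) (hTS : T ≤ S) : S ≤ normalizer (T : Set G) := by
  by_contra n
  have E := se (h.te a b hab) hT
  obtain ⟨s, ⟨s1, s2⟩, s3⟩ := SetLike.exists_of_lt (lt_inf_normalizer hS
    (lt_of_le_of_ne (inf_le_left (b := normalizer (T : Set G))) fun e => n (inf_eq_left.1 e)))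
  have le : cj s T ≤ S ⊓ normalizer (T : Set G) := cj_le_of_le (le_inf hTS le_normalizer) s2
  have sq : ∀ u ∈ cj s T, u * u = 1 := by
    rintro _ ⟨u, hu, rfl⟩
    rw [← map_mul, E.sq u hu, map_one]
  obtain ⟨g, g1, g2⟩ := SetLike.not_le_iff_exists.1 fun a : cj s T ≤ T => s3 ⟨s1, mem_normalizer_of_cj_le a⟩
  have jj : ∀ u ∈ cj s T, u ∉ T → J T u := fun u a b => ⟨(le a).2, b, sq u a ▸ one_mem _⟩
  have cm : ∀ u ∈ cj s T, u * g = g * u := fun u a => sq_mul (sq u a) (sq g g1) (sq _ (mul_mem a g1))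
  classical
  let φ : cj s T → ↥(T ⊓ centralizer ({g} : Set G)) × Bool := fun u =>
    if a : u.1 ∈ T then (⟨u, a, mem_centralizer_singleton_iff.2 (cm u u.2)⟩, true)
    else (⟨g * u, uniq0 h hab hT ho (hS.to_inf_left) inf_le_right (le g1) (le u.2) (jj g g1 g2) (jj u u.2 a),
      mem_centralizer_singleton_iff.2 (cm _ (mul_mem g1 u.2))⟩, false)
  have := Nat.card_le_card_of_injective φ fun x y e => by
    by_cases a : x.1 ∈ T <;> by_cases b : y.1 ∈ T <;> simp only [φ, a, b, dite_true, dite_false, Prod.mk.injEq,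
      and_true, Bool.true_eq_false, Bool.false_eq_true, and_false] at e <;>
      simpa using congrArg Subtype.val e
  rw [card_cj, E.card, Nat.card_prod, eb_card h hab hT (jj g g1 g2), h.sq] at this
  have := h.sq ▸ E.ge
  simp at *
  nlinarith

theorem sig {g : G} (j : J T g) : ∃ σ ∈ St G a b, σ ∈ normalizer (T : Set G) ∧ orderOf σ = p + 1 ∧
    g * σ * g⁻¹ * σ ∈ T := by
  have := h.t2.finite
  have E := se (h.te a b hab) hT
  obtain ⟨ha, hb⟩ := le_St.1 hT.le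
  obtain ⟨t, ht, nt⟩ := E.exists_ne
  have oF := odd_fx ho hT.isPGroup
  obtain ⟨Y, _, _, _, π, r⟩ := exists_res (normalizer (T : Set G)) {x : Ω | Fx T x} fun g hg x hx => Fx.smul hx hg
  have t2 : T2 Y {x : Ω | Fx T x} := r.t2 (a := a) (b := b) (fun c hc d hd n =>
    let ⟨g, x, _, y⟩ := wittZ h hab hT ht nt n hc hd; ⟨g, x, y⟩) (by
      have : 1 < {x : Ω | Fx T x}.ncard := (Set.one_lt_ncard (Set.toFinite _)).2 ⟨a, ha, b, hb, hab⟩
      obtain ⟨k, e⟩ := oF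
      rw [Nat.card_coe_set_eq]
      omega)
  have k1 : ∀ x : normalizer (T : Set G), x.1 ∈ T → π x = 1 := fun x a => r.eq_one_iff.2 fun c hc => hc _ a
  have k2 : ∀ x : normalizer (T : Set G), J T x.1 → π x * π x = 1 := fun x a => by
    rw [← map_mul]; exact k1 _ a.sq
  have k3 : ∀ x : normalizer (T : Set G), J T x.1 → π x ≠ 1 := fun x j e =>
    hab (j.thin h.t2 hab hT ha hb (r.eq_one_iff.1 e a ha) (r.eq_one_iff.1 e b hb))
  obtain ⟨R, _, tr, rg⟩ := t2.aff_of_isolated (z := π ⟨g, j.n⟩) ⟨ord2 (k2 _ j) (k3 _ j), fun y cm => by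
    obtain ⟨x, rfl⟩ := r.surj y
    have j1 := j.conj x.2
    have e : π x * π ⟨g, j.n⟩ * (π x)⁻¹ = π ⟨_, j1.n⟩ := by rw [← map_inv, ← map_mul, ← map_mul]; rfl
    rw [e] at cm ⊢
    have pz : ∀ x : normalizer (T : Set G), J T x.1 → IsPGroup 2 (zpowers (π x)) := fun x a =>
      isPGroup_zpowers (k := 1) (by rw [pow_one, sq, k2 x a])
    have hK : IsPGroup 2 (zpowers (π ⟨g, j.n⟩) ⊔ zpowers (π ⟨_, j1.n⟩) : Subgroup Y) :=
      (pz _ j).to_sup_of_normal_left' (pz _ j1) (le_normalizer_of_le_centralizer (zpowers_le.2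
        fun w ⟨n, e⟩ => e ▸ (cm.zpow_left n).eq))
    obtain ⟨k, hk⟩ := pow_of_sq hT.isPGroup j.sq
    obtain ⟨S, s1, s2⟩ := exists_isSyl_le (H := (zpowers (π ⟨g, j.n⟩) ⊔ zpowers (π ⟨_, j1.n⟩)).comap π)
      ((isPGroup_subgroupOf hT.isPGroup (normalizer (T : Set G))).to_sup_of_normal_left
        (isPGroup_zpowers (x := ⟨g, j.n⟩) (k := k) (Subtype.ext hk)))
      (sup_le (fun x a => mem_comap.2 (k1 x a ▸ one_mem _))
        (zpowers_le.2 (mem_comap.2 (mem_sup_left (mem_zpowers _)))))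
    have s3 := s1.map π
    rw [map_comap_eq_self_of_surjective r.surj] at s3
    obtain ⟨w, hw, e⟩ := (s3.eq_of_isPGroup hK).ge (mem_sup_right (mem_zpowers _))
    have jw : J T w.1 := ⟨w.2, fun a => k3 _ j1 (e ▸ k1 w a), by
      have : π (w * w) = 1 := by rw [map_mul, e, k2 _ j1]
      obtain ⟨k, hk⟩ := isPGroup_iff_forall.1 s1.isPGroup _ (mul_mem hw hw)
      exact hT.le_of_le_normalizer' (isPGroup_zpowers (k := k) (congrArg Subtype.val hk))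
        (zpowers_le.2 (mem_St.2 ⟨r.eq_one_iff.1 this a ha, r.eq_one_iff.1 this b hb⟩))
        (zpowers_le.2 (w * w).2) (mem_zpowers _)⟩
    have := k1 (⟨g, j.n⟩ * w) (uniq0 h hab hT ho (s1.isPGroup.map (normalizer (T : Set G)).subtype)
      (map_subtype_le _) ⟨_, s2 (mem_sup_right (mem_zpowers _)), rfl⟩ ⟨w, hw, rfl⟩ j jw)
    rw [map_mul, e] at this
    rw [← inv_eq_of_mul_eq_one_right this, inv_eq_of_mul_eq_one_right (k2 _ j)]⟩
  have cm := (t2.elem_of_regular tr rg).1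
  have inv : ∀ x : normalizer (T : Set G), J T x.1 → ∀ y ∈ R, π x * y * (π x)⁻¹ = y⁻¹ := fun x j y hy => by
    obtain ⟨k, hk⟩ := pow_of_sq hT.isPGroup j.sq
    obtain ⟨f, hf, e⟩ := exists_fix1 hk oF fun c hc => Fx.smul hc j.n
    have m : π x * y * (π x)⁻¹ ∈ R := Normal.conj_mem inferInstance y hy _
    have c : π x * (y * (π x * y * (π x)⁻¹)) = y * (π x * y * (π x)⁻¹) * π x := by
      conv_rhs => rw [cm y hy _ m]
      rw [inv_eq_of_mul_eq_one_right (k2 x j)]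
      calc _ = π x * y * π x * y * π x := by group
        _ = _ := rfl
    have := fix_of_comm c.symm (r.smul_eq_iff.2 e : π x • (⟨f, hf⟩ : {x : Ω | Fx T x}) = ⟨f, hf⟩)
    exact (inv_eq_of_mul_eq_one_right (rg ⟨f, hf⟩ _ (mul_mem hy m) (Subtype.ext
      (j.thin h.t2 hab hT (Subtype.prop _) hf (r.smul_eq_iff.1 this) e)))).symm
  obtain ⟨c, d, n, hc, hd, e1, e2⟩ := j.swap h.t2 hab hT
  obtain ⟨-, σ, s1, s2, s3, s4⟩ := h.act c d T g n (se_at h hab hT n hc hd).syl e1 e2 j.n j.sq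
  have j2 : J T (g * σ) := ⟨mul_mem j.n s2, fun a => n (by
      rw [← hc _ a, mul_smul, (mem_St.1 s1).1, e1]), by
    simpa [mul_assoc] using mul_mem s4 (conj_mem_of_mem_normalizer' s2 j.sq)⟩
  have fx : ∀ x : {x : Ω | Fx T x}, π ⟨σ, s2⟩ • x = x := fun x => by
    obtain ⟨y, hy, rfl⟩ := tr ⟨c, hc⟩ x
    refine fix_of_comm ?_ (r.smul_eq_iff.2 (mem_St.1 s1).1)
    have := (inv ⟨_, j2.n⟩ j2 y hy).trans (inv ⟨g, j.n⟩ j y hy).symm
    rw [show π ⟨_, j2.n⟩ = π ⟨g, j.n⟩ * π ⟨σ, s2⟩ from map_mul π ⟨g, j.n⟩ ⟨σ, s2⟩] at this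
    exact (mul_inv_eq_iff_eq_mul.1 ((MulAut.conj (π ⟨g, j.n⟩)).injective (by
      simpa [mul_assoc] using this))).symm
  exact ⟨σ, mem_St.2 ⟨r.smul_eq_iff.1 (fx ⟨a, ha⟩), r.smul_eq_iff.1 (fx ⟨b, hb⟩)⟩, s2, s3, s4⟩

theorem eb_same {t g g' : G} (ht : t ∈ T) (nt : t ≠ 1) (j : J T g) (j' : J T g') (c : g * t = t * g)
    (c' : g' * t = t * g') : ∀ u ∈ T, g * u * g⁻¹ = g' * u * g'⁻¹ := by
  have E := se (h.te a b hab) hT
  obtain ⟨ρ, r1, r2, r3⟩ := E.cyc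
  obtain ⟨r, hr, hq⟩ := E.pow
  have op : Odd (p + 1) := Even.add_one (Nat.even_pow.1 (h.sq ▸ hq ▸ (Nat.even_pow' (by omega)).2 even_two)).1
  let φ := T.normalizerMonoidHom
  have ap : ∀ (x : normalizer (T : Set G)) (u : T), φ x u = u ↔ x.1 * u = u * x := fun x u =>
    Subtype.ext_iff.trans mul_inv_eq_iff_eq_mul
  have k1 : ∀ x : normalizer (T : Set G), x.1 ∈ T → φ x = 1 := fun x a =>
    MulEquiv.ext fun u => (ap x u).2 (E.comm a u.2)
  have fr : ∀ x : normalizer (T : Set G), x.1 ∈ St G a b → orderOf x.1 = p + 1 → ∀ k ∈ zpowers (φ x), ∀ u : T,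
      u ≠ 1 → k u = u → k = 1 := by
    rintro x a o _ ⟨n, rfl⟩ u nu e
    simp only [← map_zpow] at e ⊢
    rw [show x ^ n = 1 from Subtype.ext (E.free a (o ▸ op) (zpow_mem_zpowers _ n) u.2
      (fun e => nu (Subtype.ext e)) ((ap _ _).1 e)), map_one]
  have key : ∀ g : normalizer (T : Set G), J T g.1 → ∃ s ∈ zpowers (φ ⟨ρ, r2⟩), orderOf s = p + 1 ∧
      φ g * s * (φ g)⁻¹ = s⁻¹ ∧ ∀ k ∈ zpowers s, ∀ u : T, u ≠ 1 → k u = u → k = 1 := fun g j => by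
    obtain ⟨σ, s1, s2, s3, s4⟩ := sig h hab hT ho j
    refine ⟨φ ⟨σ, s2⟩, ?_, ?_, ?_, fr ⟨σ, s2⟩ s1 s3⟩
    · obtain ⟨_, ⟨n, rfl⟩, e⟩ := E.trans r1 r2 r3 ht nt (conj_mem_of_mem_normalizer s2 ht) (by simpa using nt)
      have := k1 ((⟨ρ, r2⟩ ^ n)⁻¹ * ⟨σ, s2⟩) (E.cen t ht nt _ (mul_mem (inv_mem (zpow_mem r1 n)) s1) (by
        show (ρ ^ n)⁻¹ * σ * t = t * ((ρ ^ n)⁻¹ * σ)
        rw [mul_assoc, mul_inv_eq_iff_eq_mul.1 e.symm]; group))
      rw [map_mul, map_inv, inv_mul_eq_one, map_zpow] at this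
      exact ⟨n, this⟩
    · rw [← s3]
      refine orderOf_eq_orderOf_iff.2 fun n => ⟨fun e => ?_, fun e => ?_⟩
      · rw [← map_pow] at e
        exact E.free s1 (s3 ▸ op) (npow_mem_zpowers σ n) ht nt ((ap _ ⟨t, ht⟩).1 (by rw [e]; rfl))
      · rw [← map_pow, show (⟨σ, s2⟩ : normalizer (T : Set G)) ^ n = 1 from Subtype.ext e, map_one]
    · rw [← mul_eq_one_iff_eq_inv, ← map_inv, ← map_mul, ← map_mul, ← map_mul]
      exact k1 _ s4
  obtain ⟨s, s1, s2, s3, s4⟩ := key ⟨g, j.n⟩ j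
  obtain ⟨s', s1', s2', s3', -⟩ := key ⟨g', j'.n⟩ j'
  obtain ⟨n, rfl⟩ := H18.mem_zpowers_of_orderOf_dvd inferInstance s1 s1' (by rw [s2, s2'])
  have cm : Commute (φ ⟨g, j.n⟩ * φ ⟨g', j'.n⟩) (s' ^ n) := by
    have a : φ ⟨g', j'.n⟩ * s' ^ n * (φ ⟨g', j'.n⟩)⁻¹ = (s' ^ n)⁻¹ := by rw [← conj_zpow, s3', inv_zpow]
    have b : φ ⟨g, j.n⟩ * (s' ^ n)⁻¹ * (φ ⟨g, j.n⟩)⁻¹ = s' ^ n := by rw [← conj_inv, s3, inv_inv]
    rw [Commute, SemiconjBy, mul_assoc, mul_inv_eq_iff_eq_mul.1 a, ← mul_assoc, mul_inv_eq_iff_eq_mul.1 b,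
      mul_assoc]
  let B : Subgroup T := (φ ⟨g, j.n⟩ * φ ⟨g', j'.n⟩).toMonoidHom.eqLocus (MonoidHom.id T)
  have dv := dvd_of_free (s' ^ n) {u : T | u ∈ B ∧ u ≠ 1}
    (fun k ⟨m, e⟩ u hu => ⟨by
      have := congrArg (fun f : MulAut T => f u) (cm.zpow_right m).eq
      simp only [MulAut.mul_apply _ _ (_ ^ m), MulAut.mul_apply _ (_ ^ m)] at this
      rw [show (φ ⟨g, j.n⟩ * φ ⟨g', j'.n⟩) u = u from hu.1] at this
      exact e ▸ this, fun e => hu.2 (k.injective (e.trans (map_one k).symm))⟩)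
    fun k hk u hu e => s4 k hk u hu.2 e
  obtain ⟨d, hd, cB⟩ := (Nat.dvd_prime_pow Nat.prime_two).1 (hq ▸ E.card ▸ card_subgroup_dvd_card B)
  have tB : (⟨t, ht⟩ : T) ∈ B := by
    show φ _ (φ _ _) = _
    rw [(ap ⟨g', j'.n⟩ ⟨t, ht⟩).2 c', (ap ⟨g, j.n⟩ ⟨t, ht⟩).2 c]; rfl
  rw [s2, show {u : T | u ∈ B ∧ u ≠ 1} = (B : Set T) \ {1} from rfl,
    Set.ncard_sdiff_singleton_of_mem (one_mem B), ← Nat.card_coe_set_eq, SetLike.coe_sort_coe, cB] at dv
  have := arith (hq.symm.trans h.sq) (Nat.pos_of_ne_zero fun e => by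
    rw [e, pow_zero, card_eq_one] at cB
    rw [cB, mem_bot] at tB
    exact nt (congrArg Subtype.val tB)) hd dv
  have := eq_top_of_card_eq B (by rw [cB, this, E.card, hq])
  intro u hu
  have a : g * (g' * (g' * u * g'⁻¹) * g'⁻¹) * g⁻¹ = g' * u * g'⁻¹ := congrArg Subtype.val
    (this.ge (mem_top (⟨g' * u * g'⁻¹, conj_mem_of_mem_normalizer j'.n hu⟩ : T)))
  rw [← a, show g' * (g' * u * g'⁻¹) * g'⁻¹ = g' * g' * u * (g' * g')⁻¹ by group, E.comm j'.sq hu,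
    mul_inv_cancel_right]

end

theorem jobEB1 : JobEB1.{u, v} := fun _ _ _ _ _ _ _ h ho =>
  ⟨fun _ _ _ _ hab hT hS a => eb_norm h hab hT ho hS a,
    fun _ _ _ _ _ _ hab hT hS a x y n n' s s' =>
      have := eb_norm h hab hT ho hS a
      uniq0 h hab hT ho hS this x y ⟨this x, n, s⟩ ⟨this y, n', s'⟩,
    fun _ _ _ _ hab hT x n s => eb_card h hab hT ⟨x, n, s⟩,
    fun _ _ _ _ _ _ hab hT ht nt x y n n' s s' c c' => eb_same h hab hT ho ht nt ⟨x, n, s⟩ ⟨y, n', s'⟩ c c'⟩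

end H79.TP
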