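import Cfsg.Agent.H79.TP1

/-! TP job EO2. -/

set_option autoImplicit false

namespace H79.TP

open MulAction Cfsg Subgroup H89.K H98 H82.TP

universe u v

variable {G : Type u} {Ω : Type v} [Group G] [MulAction G Ω]

/-- `X` fixes two points. -/
def Fat (Ω : Type v) [MulAction G Ω] (X : Subgroup G) : Prop := ∃ c d : Ω, c ≠ d ∧ Fx X c ∧ Fx X d

theorem Fx.cj {X : Subgroup G} {c : Ω} (h : Fx X c) (g : G) : Fx (cj g X) (g • c) := by
  rintro _ ⟨x, hx, rfl⟩
  exact conj_smul_eq.2 (h x hx)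

theorem Fat.cj {X : Subgroup G} (h : Fat Ω X) (g : G) : Fat Ω (cj g X) :=
  let ⟨_, _, n, x, y⟩ := h
  ⟨_, _, fun e => n (MulAction.injective g e), x.cj g, y.cj g⟩

theorem Fat.mono {X Y : Subgroup G} (h : Fat Ω X) (e : Y ≤ X) : Fat Ω Y :=
  let ⟨c, d, n, x, y⟩ := h
  ⟨c, d, n, fun g a => x g (e a), fun g a => y g (e a)⟩

theorem mem_zp {x g : G} (hx : x * x = 1) (h : g ∈ zpowers x) : g = 1 ∨ g = x := by
  obtain ⟨n, rfl⟩ := h
  have : x ^ (2 : ℤ) = 1 := by rw [zpow_two, hx]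
  obtain ⟨k, rfl | rfl⟩ := Int.even_or_odd' n <;> simp only [zpow_add, zpow_mul, this] <;> simp

theorem mem_adj {K : Subgroup G} {x g : G} (hx : x * x = 1) (hn : x ∈ normalizer (K : Set G)) :
    g ∈ K ⊔ zpowers x ↔ g ∈ K ∨ g * x ∈ K := by
  refine ⟨fun a => ?_, fun a => a.elim mem_sup_left fun a => ?_⟩
  · obtain ⟨k, hk, y, hy, rfl⟩ := (mem_sup_right_norm (zpowers_le.2 hn)).1 a
    rcases mem_zp hx hy with rfl | rfl
    · exact .inl (by rwa [mul_one])
    · exact .inr (by rwa [mul_assoc, hx, mul_one])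
  · simpa [mul_assoc, hx] using mul_mem_sup a (mem_zpowers x)

theorem Fx.adj {K : Subgroup G} {x : G} {c : Ω} (h : Fx K c) (e : x • c = c) : Fx (K ⊔ zpowers x) c :=
  fun _ a => (sup_le (fun g b => h g b) (zpowers_le.2 e) : K ⊔ zpowers x ≤ stabilizer G c) a

/-- `K` has index `2` in `A`. -/
structure Hyp (K A : Subgroup G) : Prop where
  le : K ≤ A
  ne : K ≠ A
  mul : ∀ x ∈ A, ∀ y ∈ A, x ∉ K → y ∉ K → x * y ∈ K

theorem Hyp.card {K A : Subgroup G} (h : Hyp K A) : Nat.card K * 2 = Nat.card A := by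
  obtain ⟨a, a1, a2⟩ := SetLike.exists_of_lt (lt_of_le_of_ne h.le h.ne)
  rw [← (K.subgroupOf A).card_mul_index, Nat.card_congr (subgroupOfEquivOfLe h.le).toEquiv,
    index_eq_two_iff.2 ⟨⟨a, a1⟩, fun b => ?_⟩]
  by_cases e : b.1 ∈ K
  · exact .inr ⟨e, fun f => a2 ((K.mul_mem_cancel_left e).1 f)⟩
  · exact .inl ⟨h.mul _ b.2 _ a1 e a2, e⟩

theorem Hyp.cj {K A : Subgroup G} (h : Hyp K A) {g : G} (hg : g ∈ normalizer (A : Set G)) : Hyp (cj g K) A :=
  ⟨cj_le_of_le h.le hg, fun e => h.ne (cj_inj.1 (e.trans (cj_eq_self hg).symm)), fun x hx y hy a b => by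
    rw [mem_cj] at a b ⊢
    have := h.mul _ (conj_mem_of_mem_normalizer' hg hx) _ (conj_mem_of_mem_normalizer' hg hy) a b
    simpa [mul_assoc] using this⟩

theorem norm_of_sq {K A : Subgroup G} (hA : ∀ x ∈ A, x * x = 1) (h : K ≤ A) {x : G} (hx : x ∈ A) :
    x ∈ normalizer (K : Set G) :=
  centralizer_le_normalizer _ fun k hk => sq_mul (hA k (h hk)) (hA x hx) (hA _ (mul_mem (h hk) hx))

variable [Finite G]

theorem exists_hyp {X A : Subgroup G} (hA : ∀ x ∈ A, x * x = 1) (hX : X ≤ A) {y : G} (hy : y ∈ A)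
    (n : y ∉ X) : ∃ K, Hyp K A ∧ X ≤ K ∧ y ∉ K := by
  obtain ⟨K, k1, ⟨k2, k3⟩, k4⟩ := Finite.exists_le_maximal (p := fun K : Subgroup G => K ≤ A ∧ y ∉ K) ⟨hX, n⟩
  have m : ∀ x ∈ A, x ∉ K → y * x ∈ K := fun x hx a => by
    by_contra b
    exact a (k4 ⟨sup_le k2 (zpowers_le.2 hx), fun c => ((mem_adj (hA x hx) (norm_of_sq hA k2 hx)).1 c).elim k3 b⟩
      le_sup_left (mem_sup_right (mem_zpowers x)))
  refine ⟨K, ⟨k2, fun e => k3 (e ▸ hy), fun x hx x' hx' a b => ?_⟩, k1, k3⟩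
  have := mul_mem (m x hx a) (m x' hx' b)
  rwa [sq_mul (hA y hy) (hA x hx) (hA _ (mul_mem hy hx)), mul_assoc, ← mul_assoc y, hA y hy, one_mul] at this

theorem card_hyp (T : Subgroup G) : Nat.card {B // Hyp B T} + 1 ≤ Nat.card T := by
  classical
  let χ : Option {B // Hyp B T} → T →* ℚ := fun o => o.elim 1 fun B =>
    { toFun := fun x => if x.1 ∈ B.1 then 1 else -1
      map_one' := if_pos (one_mem _)
      map_mul' := fun x y => by
        by_cases a : x.1 ∈ B.1 <;> by_cases b : y.1 ∈ B.1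
        · simp [a, b, mul_mem a b]
        · simp [a, b, B.1.mul_mem_cancel_left a]
        · simp [a, b, B.1.mul_mem_cancel_right b]
        · simp [a, b, B.2.mul _ x.2 _ y.2 a b] }
  have k : ∀ (B : {B // Hyp B T}) (x : T), χ (some B) x = 1 ↔ x.1 ∈ B.1 := fun B x => by
    by_cases a : x.1 ∈ B.1 <;> simp [χ, a]
    norm_num
  have nn : ∀ B : {B // Hyp B T}, χ (some B) ≠ χ none := fun B e =>
    B.2.ne (le_antisymm B.2.le fun x hx => (k B ⟨x, hx⟩).1 (by rw [e]; rfl))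
  have inj : Function.Injective χ := by
    rintro (_ | B) (_ | C) e
    · rfl
    · exact (nn C e.symm).elim
    · exact (nn B e).elim
    · exact congrArg some (Subtype.ext (le_antisymm
        (fun x hx => (k C ⟨x, B.2.le hx⟩).1 (e ▸ (k B ⟨x, B.2.le hx⟩).2 hx))
        fun x hx => (k B ⟨x, C.2.le hx⟩).1 (e ▸ (k C ⟨x, C.2.le hx⟩).2 hx)))
  have := Fintype.ofFinite T
  have := Fintype.ofFinite {B // Hyp B T}
  simpa using ((linearIndependent_monoidHom T ℚ).comp χ inj).fintype_card_le_finrank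

theorem SE.hyp_trans {H T : Subgroup G} {q : ℕ} (E : SE H T q) {B C : Subgroup G} (hB : Hyp B T)
    (hC : Hyp C T) : ∃ g ∈ H, g ∈ normalizer (T : Set G) ∧ cj g B = C := by
  obtain ⟨σ, s1, s2, s3⟩ := E.cyc
  obtain ⟨r, -, hq⟩ := E.pow
  let φ : zpowers σ → {B // Hyp B T} := fun g => ⟨cj g B, hB.cj (zpowers_le.2 s2 g.2)⟩
  have inj : Function.Injective φ := fun g k e => by
    have e : cj g.1 B = cj k.1 B := congrArg Subtype.val e
    have w := zpowers_le.2 (mul_mem (inv_mem k.2) g.2)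
    have n : (k : G)⁻¹ * g ∈ normalizer (B : Set G) := cj_eq_self_iff.1 (by rw [← cj_cj, e, cj_inv_cj])
    have dv : orderOf ((k : G)⁻¹ * g) ∣ _ := dvd_of_free (ConjAct.toConjAct ((k : G)⁻¹ * g)) ((T : Set G) \ B)
      (fun x hx u hu => ⟨conj_mem_of_mem_normalizer (zpowers_le.2 s2 (w hx)) hu.1, fun a => hu.2 (by
        have : (ConjAct.ofConjAct x)⁻¹ * (ConjAct.ofConjAct x * u * (ConjAct.ofConjAct x)⁻¹) *
          ConjAct.ofConjAct x ∈ B := conj_mem_of_mem_normalizer' (zpowers_le.2 n hx) a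
        simpa [mul_assoc] using this)⟩)
      fun x hx u hu a => E.free s1 (s3 ▸ E.odd) (w hx) hu.1 (fun e => hu.2 (e ▸ one_mem B))
        (mul_inv_eq_iff_eq_mul.1 a)
    rw [Set.ncard_sdiff hB.le, ← Nat.card_coe_set_eq, ← Nat.card_coe_set_eq, SetLike.coe_sort_coe,
      SetLike.coe_sort_coe, ← hB.card, mul_two, Nat.add_sub_cancel] at dv
    have d2 : orderOf ((k : G)⁻¹ * g) ∣ 2 ^ r := dv.trans (hq ▸ E.card ▸ Dvd.intro _ hB.card)
    have o := (s3 ▸ E.odd).of_dvd_nat (orderOf_dvd_of_mem_zpowers (w (mem_zpowers _)))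
    exact Subtype.ext (inv_mul_eq_one.1 (orderOf_eq_one_iff.1
      (((Nat.coprime_two_right.2 o).pow_right r).eq_one_of_dvd d2))).symm
  obtain ⟨g, e⟩ := (inj.bijective_of_nat_card_le (by
    have := card_hyp T
    rw [Nat.card_zpowers, s3, ← E.card]
    omega)).2 ⟨C, hC⟩
  exact ⟨g, zpowers_le.2 s1 g.2, zpowers_le.2 s2 g.2, congrArg Subtype.val e⟩

section
variable {a b : Ω} {q : ℕ} {z : G} {T : Subgroup G} (h : T2 G Ω) (cs : CS a b z) (E : SE (St G a b) T q)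
include cs E

omit [Finite G] in
theorem z_nm : z ∉ T := fun e => cs.ne ((mem_St.1 (E.syl.le e)).1.symm.trans cs.sa)

omit [Finite G] in
theorem memA {g : G} : g ∈ T ⊔ zpowers z ↔ g ∈ T ∨ g * z ∈ T :=
  mem_adj cs.sq (centralizer_le_normalizer _ fun k hk => cs.comm k (E.syl.le hk))

omit [Finite G] in
theorem sqA : ∀ g ∈ T ⊔ zpowers z, g * g = 1 := fun g hg => by
  rcases (memA cs E).1 hg with a | a
  · exact E.sq g a
  · have := E.sq _ a
    have c := cs.comm _ (E.syl.le a)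
    rw [mul_assoc g, cs.sq, mul_one] at c
    rwa [mul_assoc, ← c] at this

omit [Finite G] in
theorem hypT : Hyp T (T ⊔ zpowers z) :=
  ⟨le_sup_left, fun e => z_nm cs E (e.ge (mem_sup_right (mem_zpowers z))), fun x hx y hy a b => by
    have a := ((memA cs E).1 hx).resolve_left a
    have b := ((memA cs E).1 hy).resolve_left b
    have := mul_mem a b
    have c := cs.comm _ (E.syl.le b)
    rw [mul_assoc y, cs.sq, mul_one] at c
    rwa [mul_assoc, ← c] at this⟩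

theorem fam {K L : Subgroup G} (hK : Hyp K (T ⊔ zpowers z)) (hL : Hyp L (T ⊔ zpowers z)) (nK : K ≠ T)
    (nL : L ≠ T) (e : z ∈ K ↔ z ∈ L) (f : Fat Ω K) : Fat Ω L := by
  have i : ∀ K, Hyp K (T ⊔ zpowers z) → K ≠ T → Hyp (K ⊓ T) T := fun K hK n =>
    ⟨inf_le_right, fun e => n (eq_of_le_of_card_ge (inf_eq_right.1 e) (by
      have := hK.card; have := (hypT cs E).card; omega)).symm, fun x hx y hy a b =>
      ⟨hK.mul x (mem_sup_left hx) y (mem_sup_left hy) (fun c => a ⟨c, hx⟩) fun c => b ⟨c, hy⟩, mul_mem hx hy⟩⟩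
  obtain ⟨g, g1, g2, g3⟩ := E.hyp_trans (i K hK nK) (i L hL nL)
  have zz : g⁻¹ * z * g = z := by rw [mul_assoc, ← cs.comm g g1, inv_mul_cancel_left]
  have M := hK.cj (zpowers_le.1 (le_normalizer_sup (zpowers_le.2 g2) (zpowers_le.2 (centralizer_le_normalizer _
    fun w ⟨n, e⟩ => e ▸ (Commute.zpow_left (cs.comm g g1).symm n).eq))))
  rw [cj_inf, cj_eq_self g2] at g3
  refine (f.cj g).mono fun x hx => ?_
  by_cases a : x ∈ T
  · exact (g3.ge ⟨hx, a⟩).1
  have a := ((memA cs E).1 (hL.le hx)).resolve_left a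
  have x' : x = x * z * z := by rw [mul_assoc, cs.sq, mul_one]
  rw [x']
  by_cases c : z ∈ L
  · exact mul_mem (g3.ge ⟨mul_mem hx c, a⟩).1 (mem_cj.2 (zz.symm ▸ e.2 c))
  · exact M.mul _ (mem_sup_left a) _ (mem_sup_right (mem_zpowers z))
      (fun d => c ((L.mul_mem_cancel_left hx).1 (g3.le ⟨d, a⟩).1)) fun d => c (e.1 (zz ▸ mem_cj.1 d))

include h

/-- The hyperplanes missing `z` are fat, those containing `z` are thin. -/
theorem hyps {R : Subgroup G} (hR : IsPGroup 2 R) (hn : R ≤ normalizer ((T ⊔ zpowers z : Subgroup G) : Set G))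
    (no : ∀ g : G, ¬ R ≤ normalizer (cj g T : Set G)) {K : Subgroup G} (hK : Hyp K (T ⊔ zpowers z)) :
    Fat Ω K ↔ z ∉ K := by
  have hA := sqA cs E
  have zA : z ∈ T ⊔ zpowers z := mem_sup_right (mem_zpowers z)
  have zT := z_nm cs E
  have fT : Fat Ω T := ⟨a, b, cs.ne, le_St.1 E.syl.le⟩
  have lt := commutator_lt_of_isPGroup (isP_of_sq hA) hR hn fun e => zT (mem_bot.1 (e ▸ zA) ▸ one_mem T)
  obtain ⟨y, y1, y2⟩ := SetLike.exists_of_lt lt
  obtain ⟨K₀, k1, k2, -⟩ := exists_hyp hA lt.le y1 y2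
  have k3 : ¬ Fat Ω K₀ := fun ⟨c, d, n, f⟩ => by
    obtain ⟨g, -, -, e⟩ := syl_at h cs.ne n E.syl (isP_of_sq fun x a => hA x (k1.le a)) (le_St.2 f) (by
      have := k1.card; have := (hypT cs E).card; omega)
    exact no g (e ▸ le_normalizer_of_commutator_le k2 k1.le)
  obtain ⟨s, s1, s2⟩ := SetLike.not_le_iff_exists.1 (no 1)
  rw [cj_one, ← cj_eq_self_iff] at s2
  have hT' := (hypT cs E).cj (hn s1)
  have z' : s * z * s⁻¹ ∉ cj s T := mt conj_mem_cj_iff.1 zT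
  have zz : z ∉ cj s T := fun zs => by
    have f1 : ∀ K, Hyp K (T ⊔ zpowers z) → z ∈ K → Fat Ω K := fun K hK m =>
      fam cs E hT' hK s2 (fun e => zT (e ▸ m)) (iff_of_true zs m) (fT.cj s)
    have f2 : ∀ K, Hyp K (T ⊔ zpowers z) → Fat Ω K → s * z * s⁻¹ ∉ K → K = cj s T := fun K hK f m => by
      by_contra n
      exact k3 (fam cs E (hK.cj (inv_mem (hn s1))) k1 (fun e => n (by rw [← e, cj_cj_inv]))
        (fun e => k3 (e ▸ fT)) (iff_of_false (fun e => m (by simpa using mem_cj.1 e)) fun e => k3 (f1 _ k1 e))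
        (f.cj _))
    have m : s * z * s⁻¹ ∈ T := by_contra fun m => s2 (f2 T (hypT cs E) fT m).symm
    have f3 : ∀ u ∈ T, u ≠ s * z * s⁻¹ → u ∈ cj s T := fun u hu n => by
      have l : zpowers u ≤ T ⊔ zpowers z := zpowers_le.2 (mem_sup_left hu)
      obtain ⟨K, c1, c2, c3⟩ := exists_hyp hA (sup_le l le_sup_right) (mem_sup_left m) fun e =>
        ((mem_adj cs.sq (norm_of_sq hA l zA)).1 e).elim
          (fun e => (mem_zp (E.sq u hu) e).elim (fun e => z' (e ▸ one_mem _)) fun e => n e.symm)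
          fun e => zT ((T.mul_mem_cancel_left m).1 (zpowers_le.2 hu e))
      exact f2 K c1 (f1 K c1 (c2 (mem_sup_right (mem_zpowers z)))) c3 ▸ c2 (mem_sup_left (mem_zpowers u))
    obtain ⟨u, u1, u2⟩ := SetLike.not_le_iff_exists.1 fun e : T ≤ zpowers (s * z * s⁻¹) => by
      have := card_le_of_le e
      have := E.ge
      have := Nat.le_of_dvd two_pos (orderOf_dvd_of_pow_eq_one ((sq _).trans (E.sq _ m)))
      rw [Nat.card_zpowers, E.card] at *
      omega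
    exact z' (((cj s T).mul_mem_cancel_left (f3 u u1 fun e => u2 (e ▸ mem_zpowers _))).1
      (f3 _ (mul_mem u1 m) fun e => u2 (mul_eq_right.1 e ▸ one_mem _)))
  have f1 : ∀ K, Hyp K (T ⊔ zpowers z) → z ∉ K → Fat Ω K := fun K hK m => by
    by_cases e : K = T
    · exact e ▸ fT
    · exact fam cs E hT' hK s2 e (iff_of_false zz m) (fT.cj s)
  exact ⟨fun f m => k3 (fam cs E hK k1 (fun e => zT (e ▸ m)) (fun e => k3 (e ▸ fT))
    (iff_of_true m (by_contra fun n => k3 (f1 _ k1 n))) f), f1 K hK⟩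

theorem last (one : H89.K.One G) (ho : Odd (Nat.card Ω))
    (hy : ∀ K, Hyp K (T ⊔ zpowers z) → (Fat Ω K ↔ z ∉ K)) : False := by
  have := h.finite
  have hA := sqA cs E
  have zA : z ∈ T ⊔ zpowers z := mem_sup_right (mem_zpowers z)
  have z1 : z ≠ 1 := fun e => z_nm cs E (e ▸ one_mem T)
  have zb : z • b = a := by rw [← cs.sa, ← mul_smul, cs.sq, one_smul]
  have L : ∀ W ≤ T, ∀ w ∈ W, w ≠ 1 → ∀ u ∈ centralizer (W : Set G), u * u = 1 → u • a = b →
      ¬ Fat Ω (W ⊔ zpowers u) → z * u ∈ W := fun W hW w w1 w2 u u1 u2 u3 f => by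
    have : u * z ∈ T := E.cen w (hW w1) w2 _ (mem_St.2 ⟨by rw [mul_smul, cs.sa, ← u3, ← mul_smul, u2, one_smul],
      by rw [mul_smul, zb, u3]⟩) (by rw [mul_assoc, ← cs.comm w (E.syl.le (hW w1)), ← mul_assoc, ← u1 w w1, mul_assoc])
    refine ((mem_adj u2 (centralizer_le_normalizer _ u1)).1 (by_contra fun n => ?_)).resolve_left
      fun e => z_nm cs E (hW e)
    obtain ⟨K, k1, k2, k3⟩ := exists_hyp hA (sup_le (hW.trans le_sup_left)
      (zpowers_le.2 ((memA cs E).2 (.inr this)))) zA n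
    exact f (((hy K k1).2 k3).mono k2)
  obtain ⟨t, ht, nt⟩ := E.exists_ne
  obtain ⟨g, hg⟩ := isConj_iff.1 (one t z (ord2 (E.sq t ht) nt) (ord2 cs.sq z1))
  obtain ⟨W, w1, ⟨w2, w3⟩, w4⟩ := Finite.exists_le_maximal
    (p := fun W : Subgroup G => W ≤ T ⊔ zpowers z ∧ Fat Ω W) (a := zpowers z) ⟨le_sup_right,
      (Fat.cj ⟨a, b, cs.ne, le_St.1 E.syl.le⟩ g).mono (zpowers_le.2 (hg ▸ conj_mem_cj ht))⟩
  have zW := w1 (mem_zpowers z)
  have pW := isP_of_sq fun x a => hA x (w2 a)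
  have cA : T ⊔ zpowers z ≤ centralizer (W : Set G) := fun x hx k hk =>
    sq_mul (hA k (w2 hk)) (hA x hx) (hA _ (mul_mem (w2 hk) hx))
  have mx : ∀ x ∈ T ⊔ zpowers z, ∀ c d : Ω, c ≠ d → Fx W c → Fx W d → x • c = c → x • d = d → x ∈ W :=
    fun x hx c d n hc hd e f => w4 ⟨sup_le w2 (zpowers_le.2 hx), c, d, n, hc.adj e, hd.adj f⟩ le_sup_left
      (mem_sup_right (mem_zpowers x))
  have pr : ∀ c d : Ω, c ≠ d → Fx W c → Fx W d → ∃ g : G, g • a = c ∧ g • b = d ∧ cj g⁻¹ W ≤ T :=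
    fun c d n hc hd => by
      obtain ⟨U, u1, u2⟩ := exists_isSyl_le pW (le_St.2 ⟨hc, hd⟩)
      obtain ⟨g, x, y, e⟩ := syl_at h cs.ne n E.syl u1.isPGroup u1.le
        (card_le_syl h n cs.ne u1 E.syl.isPGroup E.syl.le)
      exact ⟨g, x, y, le_cj_iff.1 (e ▸ u2)⟩
  refine (hy W ⟨w2, fun e => ?_, fun x hx y hy nx ny => ?_⟩).1 w3 zW
  · obtain ⟨c, d, n, f⟩ := w3
    have := card_le_syl h cs.ne n E.syl pW (le_St.2 f)
    have := (hypT cs E).card
    have := Nat.card_pos (α := T)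
    rw [e] at *
    omega
  obtain ⟨c, hc, fc⟩ := exists_fx (isP_of_sq hA) (odd_fx ho pW) fun g hg x hx =>
    Fx.smul hx (centralizer_le_normalizer _ (cA hg))
  have jj : ∀ x ∈ T ⊔ zpowers z, x ∉ W → x ∈ centralizer (W : Set G) ∧ x * x = 1 ∧
      ∀ c ∈ {c : Ω | Fx W c}, ∀ d ∈ {c : Ω | Fx W c}, x • c = c → x • d = d → c = d := fun x hx n =>
    ⟨cA hx, hA x hx, fun c hc d hd e f => by_contra fun m => n (mx x hx c d m hc hd e f)⟩
  have := uniq_fix (N := centralizer (W : Set G)) (F := {c : Ω | Fx W c})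
    (J := {x | x ∈ centralizer (W : Set G) ∧ x * x = 1 ∧
      ∀ c ∈ {c : Ω | Fx W c}, ∀ d ∈ {c : Ω | Fx W c}, x • c = c → x • d = d → c = d})
    (fun g hg x hx => Fx.smul hx (centralizer_le_normalizer _ hg))
    (fun c hc d hd => by
      by_cases n : c = d
      · exact ⟨1, one_mem _, by rw [one_smul, n]⟩
      obtain ⟨g, rfl, rfl, e⟩ := pr c d n hc hd
      refine ⟨g * z * g⁻¹, fun k hk => ?_, conj_smul_eq.2 cs.sa⟩
      have := cs.comm _ (E.syl.le (e (conj_mem_cj hk)))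
      exact (MulAut.conj g⁻¹).injective (by simpa [mul_assoc] using this))
    (fun x hx => hx.1)
    (fun x hx g hg => ⟨mul_mem (mul_mem hg hx.1) (inv_mem hg), by rw [conj_mul, hx.2.1, mul_one, mul_inv_cancel],
      fun c hc d hd e f => MulAction.injective g⁻¹ (hx.2.2 _
        (Fx.smul hc (centralizer_le_normalizer _ (inv_mem hg))) _
        (Fx.smul hd (centralizer_le_normalizer _ (inv_mem hg))) (by rwa [mul_smul, mul_smul, smul_eq_iff_eq_inv_smul] at e)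
        (by rwa [mul_smul, mul_smul, smul_eq_iff_eq_inv_smul] at f))⟩)
    (fun x hx => hx.2.2)
    (fun x hx y hy c hc n e f hf => by
      obtain ⟨g, rfl, gb, l⟩ := pr c _ n.symm hc (Fx.smul hc (centralizer_le_normalizer _ hx.1))
      have k : ∀ u, u ∈ centralizer (W : Set G) → u * u = 1 → (∀ c ∈ {c : Ω | Fx W c}, ∀ d ∈ {c : Ω | Fx W c},
          u • c = c → u • d = d → c = d) → u • g • a = g • b → (g * z * g⁻¹) • u • f = f := fun u u1 u2 u3 u4 => by
        have := L _ l _ (conj_mem_cj zW) (mt conj_eq_one_iff.1 z1) (g⁻¹ * u * g⁻¹⁻¹) (cj_centralizer g⁻¹ W ▸ conj_mem_cj u1)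
          (by rw [conj_mul, u2, mul_one, mul_inv_cancel]) (by simp [mul_smul, u4]) fun ⟨c, d, n, p, q⟩ => by
            have w : ∀ c : Ω, Fx (cj g⁻¹ W ⊔ zpowers (g⁻¹ * u * g⁻¹⁻¹)) c → Fx W (g • c) ∧ u • g • c = g • c :=
              fun c p => ⟨cj_cj_inv g W ▸ Fx.cj (fun x a => p x (mem_sup_left a)) g, by
                simpa [mul_smul, inv_smul_eq_iff] using p _ (mem_sup_right (mem_zpowers _))⟩
            exact n (MulAction.injective g (u3 _ (w c p).1 _ (w d q).1 (w c p).2 (w d q).2))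
        simpa [mul_smul] using hf _ (mem_cj.1 this)
      exact MulAction.injective _ ((k x hx.1 hx.2.1 hx.2.2 gb.symm).trans
        (k y hy.1 hy.2.1 hy.2.2 (e ▸ gb.symm)).symm))
    (jj x hx nx) (jj y hy ny) hc (fc x hx) (fc y hy)
  obtain ⟨c, d, n, p, q⟩ := w3
  exact mx _ (mul_mem hx hy) c d n p q (by rw [mul_smul, ← this c p, ← mul_smul, hA x hx, one_smul])
    (by rw [mul_smul, ← this d q, ← mul_smul, hA x hx, one_smul])

end

theorem jobEO2 : JobEO2.{u, v} := fun G Ω _ _ _ a b q z T S h te cs one ho hT hS hz hA => by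
  by_contra n
  have E := se te hT
  obtain ⟨P, p1, p2⟩ := exists_isSyl_le hS.isPGroup le_top
  have lt := lt_inf_normalizer p1.isPGroup (lt_of_le_of_ne p2 fun e => n (e ▸ p1))
  have TS : T ≤ S := hS.le_of_le_normalizer hT.isPGroup le_normalizer hS.le
  refine last h cs E one ho fun K => hyps h cs E (p1.isPGroup.to_inf_left (K := normalizer (S : Set G)))
    (fun g hg => mem_normalizer_of_cj_le ?_) fun g e => ?_
  · rintro _ ⟨x, hx, rfl⟩
    exact (memA cs E).2 (hA _ (conj_mem_of_mem_normalizer hg.2 (sup_le TS (zpowers_le.2 hz) hx))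
      (by rw [← map_mul, sqA cs E x hx, map_one]))
  · rw [← cj_normalizer, le_cj_iff] at e
    have := hS.card_le (isPGroup_cj _ p1.isPGroup.to_inf_left) e
    rw [card_cj] at this
    exact lt.ne (eq_of_le_of_card_ge lt.le this)

end H79.TP
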