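import Cfsg.Agent.H90.U5A

/-! U5 tower (row S5258), job G1: the group induced on `Q₁ / Z`. -/

set_option autoImplicit false
set_option linter.unusedSectionVars false
set_option linter.unusedSimpArgs false

open Subgroup H90.RF H90.U5

universe v

namespace H79.U5G

variable {K : Type v} [Field K] [Finite K] {T : BF K}

abbrev W (K : Type v) : Type v := K × K × K

variable (T) in
def fv (u w : W K) : K := u.1 * T.σ w.2.2 - u.2.1 * T.σ w.2.1 + u.2.2 * T.σ w.1 -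
  (w.1 * T.σ u.2.2 - w.2.1 * T.σ u.2.1 + w.2.2 * T.σ u.1)

variable (T) in
def MM (b e : K) (v : W K) : W K := (v.1, v.2.1 + v.1 * b, v.2.2 + v.1 * e + v.2.1 * T.σ b)

variable (T) in
structure Gp (S : (W K → W K) → Prop) : Prop where
  comp : ∀ {F G}, S F → S G → S fun v => F (G v)
  inv : ∀ {F}, S F → ∃ G, S G ∧ (∀ v, F (G v) = v) ∧ ∀ v, G (F v) = v
  add : ∀ {F}, S F → ∀ v w, F (v + w) = F v + F w
  orth : ∀ {F}, S F → ∀ v w, fv T v w = 0 → fv T (F v) (F w) = 0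
  mm : ∀ b e, e + T.σ e = b * T.σ b → S (MM T b e)
  om : ∀ {F}, S F → (∀ d, (F (0, 0, d)).1 = 0 ∧ (F (0, 0, d)).2.1 = 0) ∨
    ∃ b e, e + T.σ e = b * T.σ b ∧ ∀ d, (MM T b e (F (0, 0, d))).2 = 0

theorem surj_of (f : K → K) (ha : ∀ x y, f (x + y) = f x + f y) (h : ∀ x, f x = 0 → x = 0) :
    Function.Surjective f :=
  Finite.injective_iff_surjective.1 ((injective_iff_map_eq_zero (AddMonoidHom.mk' f ha)).2 h)

namespace Gp
variable {S : (W K → W K) → Prop} (G : Gp T S) {F : W K → W K}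
include G

theorem zero (h : S F) {v : W K} (e : F v = 0) : v = 0 := by
  obtain ⟨F', -, -, k⟩ := G.inv h
  have : F 0 = 0 := by simpa using G.add h 0 0
  exact (k v).symm.trans ((congrArg F' (e.trans this.symm)).trans (k 0))

theorem sur3 (h : S F) (k : ∀ d, (F (0, 0, d)).2 = 0) : ∀ a, ∃ d, F (0, 0, d) = (a, 0, 0) := fun a =>
  (surj_of (fun d => (F (0, 0, d)).1)
    (fun x y => by simpa using congrArg Prod.fst (G.add h (0, 0, x) (0, 0, y)))
    (fun x e => by simpa using G.zero h (Prod.ext e (k x))) a).imp fun d e => Prod.ext e (k d)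

theorem swap (h : S F) (mv : ¬ ∀ d, (F (0, 0, d)).1 = 0 ∧ (F (0, 0, d)).2.1 = 0) :
    ∃ g, S g ∧ (∀ d, (g (0, 0, d)).2 = 0) ∧ ∀ a, (g (a, 0, 0)).1 = 0 ∧ (g (a, 0, 0)).2.1 = 0 := by
  obtain ⟨b, e, r, k⟩ := (G.om h).resolve_left mv
  have h1 := G.comp (G.mm b e r) h
  obtain ⟨F', h2, e1, e2⟩ := G.inv h1
  rcases G.om h2 with m | ⟨b', e', r', k'⟩
  · have := k (F' (0, 0, 1)).2.2
    rw [show ((0 : K), (0 : K), (F' (0, 0, 1)).2.2) = F' (0, 0, 1) from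
      Prod.ext (m 1).1.symm (Prod.ext (m 1).2.symm rfl), e1] at this
    simp at this
  · refine ⟨_, G.comp (G.mm b' e' r') h2, k', fun a => ?_⟩
    obtain ⟨d, hd⟩ := G.sur3 h1 k a
    rw [← hd, e2]
    simp [MM]

theorem semi (h : S F) (mv : ¬ ∀ d, (F (0, 0, d)).1 = 0 ∧ (F (0, 0, d)).2.1 = 0) :
    ∃ (g : W K → W K) (φ : RingAut K) (m1 m2 m3 : K), S g ∧ m1 ≠ 0 ∧ m2 ≠ 0 ∧
      m1 * T.σ m3 = m2 * T.σ m2 ∧ ∀ v, g v = (m3 * φ v.2.2, m2 * φ v.2.1, m1 * φ v.1) := by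
  obtain ⟨g, hg, k3, k1⟩ := G.swap h mv
  obtain ⟨f1, h1⟩ : ∃ f : K → K, ∀ a, g (a, 0, 0) = (0, 0, f a) :=
    ⟨fun a => (g (a, 0, 0)).2.2, fun a => Prod.ext (k1 a).1 (Prod.ext (k1 a).2 rfl)⟩
  obtain ⟨f3, h3⟩ : ∃ f : K → K, ∀ d, g (0, 0, d) = (f d, 0, 0) :=
    ⟨fun d => (g (0, 0, d)).1, fun d => Prod.ext rfl (k3 d)⟩
  have a1 : ∀ x y, f1 (x + y) = f1 x + f1 y := fun x y => by
    simpa [h1] using G.add hg (x, 0, 0) (y, 0, 0)
  have z1 : ∀ x, f1 x = 0 → x = 0 := fun x e => by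
    simpa using G.zero hg (v := (x, 0, 0)) (by rw [h1, e]; rfl)
  have z3 : ∀ x, f3 x = 0 → x = 0 := fun x e => by
    simpa using G.zero hg (v := (0, 0, x)) (by rw [h3, e]; rfl)
  obtain ⟨f2, h2⟩ : ∃ f : K → K, ∀ c, g (0, c, 0) = (0, f c, 0) := by
    refine ⟨fun c => (g (0, c, 0)).2.1, fun c => Prod.ext ?_ (Prod.ext rfl ?_)⟩
    · refine (T.lin_zero (x := -T.σ (g (0, c, 0)).1) fun t => ?_).2
      obtain ⟨a, rfl⟩ := surj_of f1 a1 z1 t
      have := G.orth hg (0, c, 0) (a, 0, 0) (by simp [fv])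
      simp only [fv, h1, map_zero] at this
      linear_combination this
    · refine (T.lin_zero (x := -T.σ (g (0, c, 0)).2.2) fun t => ?_).2
      obtain ⟨d, hd⟩ := G.sur3 hg k3 t
      have := G.orth hg (0, c, 0) (0, 0, d) (by simp [fv])
      simp only [fv, hd, map_zero] at this
      linear_combination this
  have hv : ∀ a c d, g (a, c, d) = (f3 d, f2 c, f1 a) := fun a c d => by
    have := G.add hg ((a, 0, 0) + (0, c, 0)) (0, 0, d)
    rw [G.add hg (a, 0, 0), h1, h2, h3] at this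
    simpa using this
  obtain ⟨g', hg', -, e2⟩ := G.inv hg
  have key : ∀ b e, e ≠ 0 → e + T.σ e = b * T.σ b →
      ∃ B E, ∀ t, f2 (t * b) = B * f3 (t * e) ∧ f1 t = E * f3 (t * e) := fun b e he r => by
    have q : ∀ t, g (MM T b e (g' (0, 0, f1 t))) = (f3 (t * e), f2 (t * b), f1 t) := fun t => by
      rw [← h1, e2]; simp [MM, hv]
    rcases G.om (G.comp hg (G.comp (G.mm b e r) hg')) with m | ⟨b', e', -, k⟩
    · have := (m (f1 1)).1
      rw [q] at this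
      exact absurd (by simpa using z3 _ this) he
    · refine ⟨-b', b' * T.σ b' - e', fun t => ?_⟩
      have := k (f1 t)
      rw [q] at this
      simp only [MM, Prod.mk_eq_zero] at this
      exact ⟨by linear_combination this.1, by linear_combination this.2 - T.σ b' * this.1⟩
  have n1 : f1 1 ≠ 0 := fun e => one_ne_zero (z1 1 e)
  obtain ⟨b0, r0⟩ := T.exists_uu 1
  obtain ⟨B0, E1, k0⟩ := key b0 1 one_ne_zero r0
  simp only [mul_one] at k0
  have nE : E1 ≠ 0 := fun e => n1 (by rw [(k0 1).2, e, zero_mul])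
  obtain ⟨φ, hφ⟩ := exists_semi f1 a1 n1 fun x y => by
    by_cases hy : y = 0
    · have : f1 0 = 0 := by simpa using a1 0 0
      simp [hy, this]
    obtain ⟨b, r⟩ := T.exists_uu y
    obtain ⟨B, E, k⟩ := key b y hy r
    have k1 := (k 1).2
    rw [one_mul] at k1
    rw [(k0 (x * y)).2, (k0 y).2, (k x).2, k1]
    ring
  have p3 : ∀ t, f3 t = f1 1 / E1 * φ t := fun t => by
    field_simp
    rw [← hφ, (k0 t).2, mul_comm]
  obtain ⟨e, r⟩ := T.exists_tr (n := 1 * T.σ 1) (by simp)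
  obtain ⟨B, E, k⟩ := key 1 e (fun z => by simp [z] at r) r
  obtain ⟨m2, p2⟩ : ∃ m, ∀ t, f2 t = m * φ t := ⟨B * (f1 1 / E1) * φ e, fun t => by
    have := (k t).1
    rw [mul_one, p3, map_mul] at this
    rw [this]; ring⟩
  generalize f1 1 / E1 = m3 at p3
  refine ⟨g, φ, f1 1, m2, m3, hg, n1, fun z => ?_, ?_, fun v => by rw [← hφ, ← p2, ← p3, ← hv]⟩
  · simpa using G.zero hg (v := (0, 1, 0)) (by rw [h2, p2, z, zero_mul]; rfl)
  · refine sub_eq_zero.1 (T.lin_zero (y := -T.σ (f1 1 * T.σ m3 - m2 * T.σ m2)) fun t => ?_).1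
    obtain ⟨t, rfl⟩ := φ.surjective t
    have := G.orth hg (t, t, 0) (0, 1, 1) (by simp [fv])
    simp only [fv, hv, p2, p3, hφ t, hφ 0, map_zero, map_one, map_mul, mul_zero, mul_one] at this
    simp only [map_sub, map_mul, T.sq]
    linear_combination this

theorem low (h : S F) (mv : ¬ ∀ d, (F (0, 0, d)).1 = 0 ∧ (F (0, 0, d)).2.1 = 0) (b e : K)
    (r : e + T.σ e = b * T.σ b) :
    S fun v => (v.1 + v.2.2 * e + v.2.1 * T.σ b, v.2.1 + v.2.2 * b, v.2.2) := by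
  obtain ⟨g, φ, m1, m2, m3, hg, n1, n2, q, hv⟩ := G.semi h mv
  obtain ⟨g', hg', e1, -⟩ := G.inv hg
  have s1 : T.σ m1 ≠ 0 := (map_ne_zero _).2 n1
  have s2 : T.σ m2 ≠ 0 := (map_ne_zero _).2 n2
  have q' : m3 = m2 * T.σ m2 / T.σ m1 := by
    have := congrArg T.σ q
    simp only [map_mul, T.sq] at this
    field_simp
    linear_combination this
  obtain ⟨b', hb⟩ := φ.surjective (b * m1 / m2)
  obtain ⟨e', he⟩ := φ.surjective (e * m1 / m3)
  have r' : e' + T.σ e' = b' * T.σ b' := φ.injective (by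
    simp only [map_add, map_mul, T.comm, hb, he, q', map_div₀, T.sq]
    field_simp
    linear_combination r)
  convert G.comp hg (G.comp (G.mm b' e' r') hg') using 2 with v
  have := e1 v
  rw [hv] at this
  conv_lhs => rw [← this]
  simp only [hv, MM, map_add, map_mul, T.comm, hb, he, q', map_div₀, T.sq, Prod.mk.injEq]
  refine ⟨?_, ?_, trivial⟩ <;> field_simp

theorem anti (h : S F) (mv : ¬ ∀ d, (F (0, 0, d)).1 = 0 ∧ (F (0, 0, d)).2.1 = 0) {e : K}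
    (he : e ≠ 0) : S fun v => (e * v.2.2, -(T.σ e / e) * v.2.1, v.1 / T.σ e) := by
  obtain ⟨b, r⟩ := T.exists_uu e
  have s : T.σ e ≠ 0 := (map_ne_zero _).2 he
  have h1 := G.mm (-b / e) (1 / T.σ e) (by
    simp only [map_div₀, map_neg, map_one, T.sq]; field_simp; linear_combination r)
  have h2 := G.mm (-b / T.σ e) (1 / T.σ e) (by
    simp only [map_div₀, map_neg, map_one, T.sq]; field_simp; linear_combination r)
  convert G.comp h1 (G.comp (G.low h mv b e r) h2) using 2 with v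
  simp only [MM, map_div₀, map_neg, T.sq, Prod.mk.injEq]
  refine ⟨?_, ?_, ?_⟩ <;> field_simp <;> grind

end Gp

def pj (u : Co T) : W K := (u.a, u.c, u.d)

variable (T) in
def lf (v : W K) : Co T := w1 T v.1 v.2.1 v.2.2

theorem lf_mem (v : W K) : lf T v ∈ sQ1 T := w1_mem _ _ _
theorem pj_lf (v : W K) : pj (lf T v) = v := by simp [pj, lf]

theorem pj_eq {u w : Co T} (hu : u ∈ sQ1 T) (hw : w ∈ sQ1 T) : u⁻¹ * w ∈ sZ T ↔ pj w = pj u := by
  simp [Q1_mod hu hw, pj]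

def In (Y : Subgroup (Equiv.Perm (Co T))) (F : W K → W K) : Prop :=
  ∃ α ∈ Y, ∀ u ∈ sQ1 T, pj (α u) = F (pj u)

theorem ind {α : Co T → Co T} (a : Au (sQ1 T) α) : ∀ u ∈ sQ1 T, pj (α u) = pj (α (lf T (pj u))) :=
  fun u hu => by
    have := pr_Z1 a _ ((pj_eq hu (lf_mem (pj u))).2 (pj_lf _))
    rw [a.mul _ (inv_mem hu) _ (lf_mem _), a.inv hu] at this
    exact ((pj_eq (a.mem _ hu) (a.mem _ (lf_mem _))).1 this).symm

variable {p : ℕ} {Y0 Y1 Y2 : Subgroup (Equiv.Perm (Co T))}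

theorem gp (t : Tri T p Y0 Y1 Y2) (om : Om T 0 0 0 Y1) : Gp T (In Y1) := by
  have xm : ∀ d, xd T d ∈ sZ2 T := fun d => ⟨rfl, rfl, rfl, rfl⟩
  refine ⟨?_, ?_, ?_, ?_, fun b e r => ?_, ?_⟩
  · rintro F G ⟨α, hα, e⟩ ⟨β, hβ, e'⟩
    exact ⟨α * β, mul_mem hα hβ, fun u hu => by
      rw [Equiv.Perm.mul_apply, e _ ((t.l1.au β hβ).mem u hu), e' u hu]⟩
  · rintro F ⟨α, hα, e⟩
    have a := t.l1.au _ (inv_mem hα)
    refine ⟨_, ⟨α⁻¹, inv_mem hα, ind a⟩, fun v => by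
      rw [← e _ (a.mem _ (lf_mem v))]; simp [pj_lf], fun v => ?_⟩
    rw [← pj_lf (T := T) v, ← e _ (lf_mem v), ← ind a _ ((t.l1.au α hα).mem _ (lf_mem v))]
    simp
  · rintro F ⟨α, hα, e⟩ v w
    have a := t.l1.au α hα
    have k : ∀ u ∈ sQ1 T, ∀ u' ∈ sQ1 T, pj (u * u') = pj u + pj u' := fun u hu u' hu' => by
      simp [pj, hu'.1, hu'.2]
    have := e _ (mul_mem (lf_mem v) (lf_mem w))
    rw [a.mul _ (lf_mem v) _ (lf_mem w), k _ (a.mem _ (lf_mem v)) _ (a.mem _ (lf_mem w)),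
      k _ (lf_mem v) _ (lf_mem w), e _ (lf_mem v), e _ (lf_mem w), pj_lf, pj_lf] at this
    exact this.symm
  · rintro F ⟨α, hα, e⟩ v w h
    have a := t.l1.au α hα
    have k : ∀ u u' : Co T, fm T u u' = fv T (pj u) (pj u') := fun _ _ => rfl
    have := (cm_one_iff (lf_mem v) (lf_mem w)).2 (by rw [k, pj_lf, pj_lf, h])
    have := (cm_one_iff (a.mem _ (lf_mem v)) (a.mem _ (lf_mem w))).1
      (by rw [← a.cm (lf_mem v) (lf_mem w), this, a.one])
    rwa [k, e _ (lf_mem v), e _ (lf_mem w), pj_lf, pj_lf] at this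
  · obtain ⟨γ, hγ, k⟩ := t.c1 (uu T b e r)⁻¹
    refine ⟨γ, hγ, fun u hu => ?_⟩
    obtain ⟨h1, h2, h3⟩ := cj_Q1 (uu T b e r) hu
    rw [k u hu, inv_inv, pj, h1, h2, h3]
    rfl
  · rintro F ⟨α, hα, e⟩
    have q : ∀ d, F (0, 0, d) = pj (α (xd T d)) := fun d => (e _ (Z2_le_Q1 (xm d))).symm
    refine (om α hα).imp (fun h d => ?_) fun ⟨s, h⟩ => ⟨s.b, s.e, s.he, fun d => ?_⟩
    · rw [q]
      exact ⟨(h _ (xm d)).1, (h _ (xm d)).2.2.1⟩
    · obtain ⟨-, h2, h3⟩ := cj_Q1 s ((t.l1.au α hα).mem _ (Z2_le_Q1 (xm d)))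
      obtain ⟨h4, h5⟩ := h _ (xm d)
      rw [q]
      exact Prod.ext (by simpa [h2, MM, pj] using h4) (by simpa [h3, MM, pj] using h5)

theorem jobG1 : H90.U5.JobG1.{v} := fun _ _ K _ _ _ T Y0 Y1 Y2 t _ om ⟨α, hα, mv⟩ => by
  have G := gp t om
  have a := t.l1.au α hα
  have h : In Y1 fun v => pj (α (lf T v)) := ⟨α, hα, ind a⟩
  have an := fun e => G.anti h (e := e) fun k => mv fun z hz => by
    have m := a.mem _ (Z2_le_Q1 hz)
    have e := ind a z (Z2_le_Q1 hz)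
    obtain ⟨k1, k2⟩ := k z.d
    rw [show ((0 : K), (0 : K), z.d) = pj z by simp [pj, hz.1, hz.2.2.1], ← e] at k1 k2
    exact ⟨k1, m.1, k2, m.2⟩
  refine ⟨?_, fun s => ?_⟩
  · obtain ⟨β, hβ, e⟩ := an 1 one_ne_zero
    exact ⟨β, hβ, fun u hu => by simpa [pj, Co.nu1] using e u hu⟩
  · obtain ⟨β, hβ, e⟩ := G.comp (an (s : K)⁻¹ (by simp)) (an 1 one_ne_zero)
    refine ⟨β, hβ, fun u hu => ?_⟩
    have := e u hu
    simp only [pj, Prod.mk.injEq] at this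
    have s1 : T.σ s ≠ 0 := by simp
    rw [this.1, this.2.1, this.2.2]
    simp only [dg, t1, Units.val_mul, Units.val_inv_eq_inv_val, Units.coe_map, MonoidHom.coe_coe,
      Units.val_pow_eq_pow_val, map_mul, map_inv₀, map_pow, map_one, T.sq]
    refine ⟨?_, ?_, ?_⟩ <;> field_simp

end H79.U5G
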