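import Cfsg.Agent.H79.XCC
import Cfsg.Agent.S4124
import Cfsg.Agent.S3017
import Cfsg.Agent.S0205
import Cfsg.Agent.H23.OrderType
import Cfsg.Agent.H2.PrimeCore

/-! Extremely closed abelian `p`-subgroups lie in the solvable radical. -/

set_option autoImplicit false

namespace H79.XC
open Cfsg

variable {G : Type*} [Group G] [Finite G]

/-- A normal subgroup on which an abelian subgroup has no nontrivial fixed point is solvable. -/
theorem solv_of_fpf {K H : Subgroup G} [K.Normal] (hc : ∀ a ∈ H, ∀ b ∈ H, a * b = b * a)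
    (hf : K ⊓ Subgroup.centralizer (H : Set G) = ⊥) : Group.IsSolvable K := by
  let f : H →* MulAut K := (MulAut.conjNormal (H := K)).comp H.subtype
  have hn : Group.IsNilpotent f.range := by
    have : ∀ a b : f.range, a * b = b * a := by
      rintro ⟨_, a, rfl⟩ ⟨_, b, rfl⟩
      apply Subtype.ext
      change f a * f b = f b * f a
      rw [← map_mul, ← map_mul]
      congr 1
      exact Subtype.ext (hc _ a.2 _ b.2)
    letI : CommGroup f.range := { (inferInstance : Group f.range) with mul_comm := this }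
    exact CommGroup.isNilpotent
  refine Cfsg.Agent.S4124.result (A := f.range) hn fun g hg => ?_
  have : (g : G) ∈ K ⊓ Subgroup.centralizer (H : Set G) := by
    refine ⟨g.2, fun a ha => ?_⟩
    have h1 := congrArg Subtype.val (hg ⟨f ⟨a, ha⟩, _, rfl⟩)
    change a * g * a⁻¹ = g at h1
    rw [← mul_inv_eq_iff_eq_mul, h1]
  rw [hf] at this
  exact Subtype.ext this

theorem solv_closure {K H : Subgroup G} [K.Normal] (hK : Group.IsSolvable K)
    (hc : ∀ a ∈ H, ∀ b ∈ H, a * b = b * a) (hle : Subgroup.normalClosure (H : Set G) ≤ K ⊔ H) :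
    ∃ N : Subgroup G, N.Normal ∧ Group.IsSolvable N ∧ H ≤ N := by
  haveI : Group.IsSolvable H :=
    Group.isSolvable_of_comm fun a b => Subtype.ext (hc _ a.2 _ b.2)
  haveI := H23.isSolvable_sup K H
  exact ⟨_, inferInstance, Group.isSolvable_of_isSolvable_injective
    (Subgroup.inclusion_injective hle), Subgroup.le_normalClosure⟩

theorem solv_rad {p : ℕ} [Fact p.Prime] (H : Subgroup G) (hHp : IsPGroup p H)
    (hHab : IsMulCommutative H) (hcl : Cfsg.IsExtremelyClosed H) :
    ∃ N : Subgroup G, N.Normal ∧ Group.IsSolvable N ∧ H ≤ N := by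
  have hc : ∀ a ∈ H, ∀ b ∈ H, a * b = b * a := fun a ha b hb =>
    congrArg Subtype.val (hHab.is_comm.comm (⟨a, ha⟩ : H) ⟨b, hb⟩)
  by_cases hp : p = 2
  · subst hp
    have h := Cfsg.Agent.S3017.result H hHp hHab hcl
    have hO : Group.IsSolvable (oddCore G) :=
      Cfsg.Agent.S0205.result (Nat.coprime_two_right.1 (H2.coprime_card_pPrimeCore 2 G))
    refine solv_closure hO hc ?_
    haveI : (oddCore G ⊔ H).Normal := by
      refine Subgroup.normalizer_eq_top_iff.1 (top_le_iff.1 ?_)
      rw [← h]
      refine sup_le ?_ (le_sup_left.trans Subgroup.le_normalizer)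
      exact le_trans (le_inf (Subgroup.normalizer_eq_top (oddCore G) ▸ le_top) le_rfl)
        (Subgroup.normalizer_inf_normalizer_le_normalizer_sup _ _)
    exact Subgroup.normalClosure_le_normal fun x hx => Subgroup.mem_sup_right hx
  · obtain ⟨K, hK, -, hf, hle⟩ := res_aux hp _ G rfl H
      ⟨hHp, hc, fun g x hx hn => (hcl g).le ⟨hx, hn⟩⟩
    exact solv_closure (solv_of_fpf hc hf) hc hle

end H79.XC
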